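import Cfsg.Agent.RC.B.R1_m3
import Cfsg.Agent.RC.B.BR_m3
import Cfsg.Agent.KM.Tor.TW_m3
import Cfsg.Agent.RC.A.Tw_mg_m3
import Cfsg.Agent.KM.Tor.K8
import Cfsg.Agent.KM.Xc.E6M_m3
import Cfsg.Agent.FastGrp
import Cfsg.Agent.Prune
set_option linter.all false

section
prune_inst 0x7f00000000000000000000000000000000000000000000000000000000000000000000000000000000000000000000000000000000000000000000000000000000000000000000000000000000000000003fffffffffffffffffffffffffffbeffbdefffffff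

-- part: RC/B/R6
section
prune_inst 0x10000000
set_option linter.all false
open scoped Cfsg.Agent.FastGrp

/-!
# RC (S4576): normal form of isolated elements, [R6] (helper14)
-/

set_option autoImplicit false
set_option linter.unusedSectionVars false

namespace Cfsg.Agent.RC.B

open Cfsg Cfsg.Lie Cfsg.Agent.DL Cfsg.Agent.Nodes.Reps Matrix Subgroup Cfsg.Agent.KM.Ht Cfsg.Agent.KM.Tor
  Cfsg.Agent.KZ.DatX Cfsg.Agent.Nodes.RGDChev Cfsg.Agent.ChevalleyStructure.NPerm Cfsg.Agent.ChevalleyStructure.CoxeterGeom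
  Cfsg.Agent.ChevalleyStructure.CoxeterGeomTypes Cfsg.Agent.Tits.Roots
open Cfsg.Agent.KM.Tor.TW (pr pr_add pr_neg pr_self pr_act pr_smul pr_sub)
open Cfsg.Agent.TO.X.Cn (Pi1 exists_exp χ_exp)
open Cfsg.Agent.H931.KC (hr)

namespace R

/-- the finite check for the embedding `J` of `E₆` with the left inverse `L` -/
def Chk (C : ChevalleyDatum) (n : ℕ) (s : Finset (Fin n)) (J : Matrix (Fin n) (Fin 6) ℤ) (L : Matrix (Fin 6) (Fin n) ℤ) : Prop :=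
  L * J = 1 ∧ (∀ t : Fin C.nroots, LS C n s (vec C n t) → V6 (L *ᵥ vec C n t) ∧ J *ᵥ (L *ᵥ vec C n t) = vec C n t) ∧
    ∀ t : Fin chevE6.nroots, (∃ t' : Fin C.nroots, vec C n t' = J *ᵥ vec chevE6 6 t) ∧ LS C n s (J *ᵥ vec chevE6 6 t) ∧
      (RS C n s (J *ᵥ vec chevE6 6 t) ↔ 3 ∣ vec chevE6 6 t 3) ∧ co C n (J *ᵥ vec chevE6 6 t) ᵥ* J = co chevE6 6 (vec chevE6 6 t)

instance Chk.dec (C : ChevalleyDatum) (n : ℕ) (s : Finset (Fin n)) (J : Matrix (Fin n) (Fin 6) ℤ)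
    (L : Matrix (Fin 6) (Fin n) ℤ) : Decidable (Chk C n s J L) := by unfold Chk; infer_instance

theorem chk6 : Chk chevE6 6 {3} 1 1 := by
  have h : ∀ t : Fin chevE6.nroots, LS chevE6 6 {3} (vec chevE6 6 t) ∧
      (RS chevE6 6 {3} (vec chevE6 6 t) ↔ 3 ∣ vec chevE6 6 t 3) := by decide +kernel
  refine ⟨Matrix.one_mul 1, fun t _ => ?_, fun t => ?_⟩
  · rw [one_mulVec, one_mulVec]
    exact ⟨⟨t, rfl⟩, rfl⟩
  · rw [one_mulVec, vecMul_one]
    exact ⟨⟨t, rfl⟩, (h t).1, (h t).2, rfl⟩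

theorem hr6 : ∀ s : Finset (Fin 6), s.Nonempty → (∀ i ∈ s, ((3 : ℕ) : ℤ) ∣ hr chevE6 6 i) → s = {3} := by decide +kernel

variable {p : ℕ} [Fact p.Prime] {k : Type} [Field k] [CharP k p] {Y : Type} [Group Y] {N : Type} [Fintype N]
  [DecidableEq N] {ρ : Y →* GL N k} {F : MulAut Y} {G : Subgroup Y} [IsAlgClosed k] {X : Datum p ρ F G}
  {C : ChevalleyDatum} {n : ℕ} {M : CoxeterMatrix (Fin n)} {hp : IsType C n M} {Mx : Matrix (Fin n) (Fin n) ℤ}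
  {X₀ : XF hp p k Mx} (K : Kit X X₀) {j : Fin n} {S : Subgroup Y} {u : Y}

theorem Sz_Cl (hS : Z0 X S = S) (hI : Iso X S u) : X.Sz S = Cl X (X.Sz (insert u (S : Set Y))) :=
  Set.ext fun a => ⟨fun h => ⟨h.1, fun v hv => hI v hv a h⟩, fun h => by
    rw [← hS, Sz_Z0]
    exact ⟨h.1, fun v hv => h.2 v fun b hb => hv b ⟨hb.1, fun z hz => hb.2 z (.inr hz)⟩⟩⟩

theorem kit_pp {Ψ : Set (X.I → ℤ)} {Ψ₀ : Set (X₀.D.I → ℤ)} (h : ∀ a, a ∈ Ψ ↔ K.e a ∈ Ψ₀) (v : X.R → ℤ) :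
    Pp X Ψ v ↔ Pp X₀.D Ψ₀ (K.φ v) :=
  ⟨fun hv b hb => (K.dot_symm b v).symm.trans (hv _ ((h _).2 ((K.e.apply_symm_apply b).symm ▸ hb))),
    fun hv a ha => (K.dot a v).trans (hv _ ((h a).1 ha))⟩

theorem kit_cl (H : Ok X C n j) {Ψ : Set (X.I → ℤ)} {Ψ₀ : Set (X₀.D.I → ℤ)} (h : ∀ a, a ∈ Ψ ↔ K.e a ∈ Ψ₀) (a : X.I → ℤ) :
    a ∈ Cl X Ψ ↔ K.e a ∈ Cl X₀.D Ψ₀ := by
  refine and_congr (K.rt a) ⟨fun h1 v hv => ?_, fun h1 v hv => (K.dot a v).trans (h1 _ ((kit_pp K h v).1 hv))⟩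
  obtain ⟨f, hf, hP⟩ := H.pm
  obtain ⟨β, hβ⟩ := pm_co hP v
  have h2 := h1 (K.ψ β) ((kit_pp K h _).2 fun b hb => by
    rw [K.φ_ψ, ← hβ]
    exact (dotProduct_smul _ _ _).trans (by rw [hv b hb, smul_zero]))
  rw [K.dot_ψ, ← hβ] at h2
  exact (mul_eq_zero.1 ((dotProduct_smul (f : ℤ) (K.e a) v).symm.trans h2)).resolve_left (Int.natCast_ne_zero.2 hf)

include K in
/-- **normal form of an isolated element** -/
theorem nfK (H : Ok X C n j) (h3 : 3 ≠ p) (hS : Z0 X S = S) (hu : u ∈ X.T) {i : ℕ} (hi : u ^ 3 ^ i = 1) (hI : Iso X S u)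
    (hn : u ∉ Zc X (X.Sz S)) : ∃ (K' : Kit X X₀) (s : Finset (Fin n)), s.Nonempty ∧ (∀ i ∈ s, ((3 : ℕ) : ℤ) ∣ hr C n i) ∧
      (∀ a, a ∈ X.Sz (insert u (S : Set Y)) ↔ K'.e a ∈ RP X₀ (RS C n s)) ∧ ∀ a, a ∈ X.Sz S ↔ K'.e a ∈ RP X₀ (LS C n s) := by
  obtain ⟨z, h0, ⟨i, h1⟩, h2⟩ := exists_s Nat.prime_three h3 hS hu hi
  have hz := mul_mem hu (Z0_le_T X _ h0)
  obtain ⟨ζ, v, h4, h5, h6⟩ := exists_exp X hz
  obtain ⟨e, -, he⟩ := (Nat.dvd_prime_pow Nat.prime_three).1 (h5.trans (orderOf_dvd_of_pow_eq_one h1))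
  have h7 : ∀ a, a ∈ X.Sz (insert u (S : Set Y)) ↔ K.e a ∈ Rn X₀.D (orderOf ζ) (K.φ v) := fun a => by
    rw [← h2, h6, Sz_exp]
    exact and_congr (K.rt a) (by rw [K.dot]; rfl)
  have h8 := fun a => (Set.ext_iff.1 (Sz_Cl hS hI) a).trans (kit_cl K H h7 a)
  rcases kacD X₀ Nat.prime_three (Int.natCast_pos.2 h4) (K.φ v) with ⟨c, k1, k2⟩ | ⟨w, s, c, k1, k2, -, -, k3, k4, -⟩
  · refine absurd ⟨hu, fun a ha => ((h7 a).2 ⟨(K.rt a).1 ha.1, ?_⟩).2 u (.inl rfl)⟩ hn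
    refine IsCoprime.dvd_of_dvd_mul_left ?_ (k2 _ ((h8 a).1 ha))
    rw [he, Nat.cast_pow]
    exact ((Nat.prime_iff_prime_int.1 Nat.prime_three).coprime_iff_not_dvd.2 k1).pow_left
  · exact ⟨K.tw H.sl w⁻¹, s, k1, k2, fun a => (h7 a).trans (Set.ext_iff.1 k3 _), fun a => (h8 a).trans (Set.ext_iff.1 k4 _)⟩

theorem em_of {s : Finset (Fin n)} {J : Matrix (Fin n) (Fin 6) ℤ} {L : Matrix (Fin 6) (Fin n) ℤ} (h : Chk C n s J L)
    {Φ Ψ : Set (X.I → ℤ)} (h0 : Ψ ⊆ Φ) (h1 : ∀ a, a ∈ Ψ ↔ K.e a ∈ RP X₀ (RS C n s)) (h2 : ∀ a, a ∈ Φ ↔ K.e a ∈ RP X₀ (LS C n s)) :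
    ∃ j, Em X Φ Ψ j := by
  obtain ⟨f, hf⟩ : ∃ f : (Fin 6 → ℤ) →+ (X.I → ℤ), ∀ x, K.e (f x) = J *ᵥ x :=
    ⟨K.e.symm.toAddMonoidHom.comp (mulVecLin J).toAddMonoidHom, fun x => K.e.apply_symm_apply _⟩
  have inj : Function.Injective f := fun x y e => by
    rw [← one_mulVec x, ← one_mulVec y, ← h.1, ← mulVec_mulVec, ← mulVec_mulVec, ← hf, ← hf, e]
  have rt : ∀ x, V6 x → X.Rt (f x) := by
    rintro _ ⟨t, rfl⟩
    obtain ⟨t', e⟩ := (h.2.2 t).1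
    rw [K.rt, hf, ← e]
    exact rt_vec X₀ t'
  have all : ∀ c, c ∈ Φ ↔ ∃ x, V6 x ∧ c = f x := fun c => (h2 c).trans ⟨fun hc => by
    have := forall_rt X₀ (Q := fun x => LS C n s x → V6 (L *ᵥ x) ∧ J *ᵥ (L *ᵥ x) = x) h.2.1 _ hc.1 hc.2
    exact ⟨_, this.1, K.e.injective (this.2.symm.trans (hf _).symm)⟩, by
    rintro ⟨_, ⟨t, rfl⟩, rfl⟩
    exact ⟨(K.rt _).1 (rt _ ⟨t, rfl⟩), (hf _).symm ▸ (h.2.2 t).2.1⟩⟩
  refine ⟨f, fun c hc => (K.rt c).2 ((h2 c).1 hc).1, all, fun x y hy => ?_, fun x => ⟨fun hx => ?_, ?_⟩, h0, inj⟩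
  · refine (K.wt_cor _ (rt y hy)).trans ?_
    obtain ⟨t, rfl⟩ := hy
    rw [hf, hf, dotProduct_comm, dotProduct_mulVec, (h.2.2 t).2.2.2, dotProduct_comm, f6]
  · obtain ⟨_, ⟨t, rfl⟩, e⟩ := (all _).1 (h0 hx)
    obtain rfl := inj e
    exact ⟨⟨t, rfl⟩, (h.2.2 t).2.2.1.1 (hf _ ▸ ((h1 _).1 hx).2)⟩
  · rintro ⟨⟨t, rfl⟩, hx⟩
    exact (h1 _).2 ⟨(K.rt _).1 (rt _ ⟨t, rfl⟩), (hf _).symm ▸ (h.2.2 t).2.2.1.2 hx⟩

theorem Sz_ins_sub : X.Sz (insert u (S : Set Y)) ⊆ X.Sz S := fun _ h => ⟨h.1, fun z hz => h.2 z (.inr hz)⟩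

/-- the normal form in `E₆` -/
theorem nf6 (h : TE X 6) (h3 : 3 ≠ p) (hS : Z0 X S = S) (hu : u ∈ X.T) {i : ℕ} (hi : u ^ 3 ^ i = 1) (hI : Iso X S u)
    (hn : u ∉ Zc X (X.Sz S)) : X.Sz S = {a | X.Rt a} ∧ ∃ j, Em X (X.Sz S) (X.Sz (insert u (S : Set Y))) j := by
  obtain ⟨_, X₀, ⟨K⟩⟩ := h.kit6
  obtain ⟨K', s, h1, h2, h4, h5⟩ := nfK K h.ok6 h3 hS hu hi hI hn
  obtain rfl := hr6 s h1 h2
  refine ⟨Set.ext fun a => ⟨fun h => h.1, fun h => (h5 a).2 ⟨(K'.rt a).1 h, fun i hi j hj => ?_⟩⟩,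
    em_of K' chk6 Sz_ins_sub h4 h5⟩
  rw [Finset.mem_singleton.1 hi, Finset.mem_singleton.1 hj]

end R

open R in
/-- **[R6]** -/
theorem boxR6_of (hA : BoxA2K) (hR : BoxRot) : BoxR6 := by
  intro p _ k _ _ Y _ N _ _ ρ F G _ X D S y u hE h hμ hu hz
  by_contra hn
  obtain ⟨i, hi⟩ := Zl.el_D h.loc u hz.1
  obtain ⟨h1, j, E⟩ := nf6 hE h.p3 h.can.z0 hu hi ((boxFr X 3 D S Nat.prime_three h.p3 h.pi h.loc.pg
    (fun _ hd => (h.loc.le hd).1) h.can).2.2.2.2 u hu hz).1 hn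
  obtain ⟨_, X₀, ⟨K⟩⟩ := hE.kit6
  refine E.pk.core hA hR h (fun _ _ => K.ex_eq hE.ok6) hu hz (Set.finite_singleton u) (Set.singleton_subset_iff.2 hu)
    (Set.singleton_subset_iff.2 hz) (fun g hg hc => TO.X.Cn.mem_cen h.pi hu hi (Nat.coprime_one_right _) hg (hc u rfl).symm)
    (Set.ext fun a => and_congr_right fun ha => ⟨fun h2 z hz => ?_, fun h2 z hz => h2 z (.inl hz)⟩) fun ζ h2 h3 =>
      hμ ζ ⟨h1 ▸ h2, h3⟩
  exact hz.elim (h2 z) ((h1.ge ha).2 z)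

end Cfsg.Agent.RC.B

private theorem dce_6d4a6fb79fd8 : _root_.True := by
  try have : _root_.True := by simp only [_root_.Cfsg.Agent.RC.B.R.f6.eq_1]
  exact _root_.True.intro
end

-- part: RC/B/Rot
section
set_option linter.all false
open scoped Cfsg.Agent.FastGrp

/-!
# RC (S4576), `l = 3` : the box ROT (helper68)
-/

set_option autoImplicit false
set_option linter.unusedSectionVars false

namespace Cfsg.Agent.RC.B

open Cfsg Cfsg.Lie Cfsg.Agent.DL Cfsg.Agent.Nodes.Reps Matrix Subgroup Cfsg.Agent.KM.Ht Cfsg.Agent.KM.Tor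
open Cfsg.Agent.TO.X.Cn (WZ mem_WZ rf_mem_WZ)
open Cfsg.Agent.Nodes.SubComb Cfsg.Agent.ChevalleyStructure.CoxeterGeom Cfsg.Agent.Tits.Roots Cfsg.Agent.DL.Base

namespace RotB

variable {p : ℕ} [Fact p.Prime] {k : Type} [Field k] [CharP k p] {Y : Type} [Group Y] {N : Type} [Fintype N]
  [DecidableEq N] {ρ : Y →* GL N k} {F : MulAut Y} {G : Subgroup Y} [IsAlgClosed k] {X : Datum p ρ F G} {Z : Set Y} {w : X.W}

attribute [local instance] fintypeSmp decSmp in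
/-- the classes of the elements of `N ∩ cen Z` -/
theorem wz_eq (hZ : Z ⊆ X.T) (hF : ∀ z ∈ Z, F z ∈ Z) : w ∈ WZ X Z ↔ w ∈ closure (X.rf '' X.Sz Z) := by
  refine ⟨fun ⟨x, h1, h2⟩ => ?_, fun h => (closure_le (WZ X Z)).2 (by rintro _ ⟨a, ha, rfl⟩; exact rf_mem_WZ X a ha) h⟩
  have h3 := fun a ha => X.g_mem_Sz hZ hF (a := a) ha
  obtain ⟨v, hv⟩ : x ∈ (X.sub hZ h3 rfl).NN := by
    rw [Datum.sub_NN]
    exact ⟨⟨w, h2⟩, h1⟩
  exact X.range_subW (Z := Z) ▸ ⟨v, X.rp_unique (X.rp_of_sub hZ h3 rfl hv) h2⟩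

end RotB

/-- **[ROT]** -/
theorem boxRot_of (hS : BoxSyl) : BoxRot := by
  intro p _ k _ _ Y _ N _ _ ρ F G _ X D y u Z w _ L hZ hF hD hy huT hu hu3 hc hfix hw hχ
  obtain ⟨n, hn, hr⟩ := (RotB.wz_eq hZ hF).2 hw
  have hnc := X.cen_le_centralizer hZ hn
  have hFu : F u = u := (L.le hu.1).2
  have hZ' : insert u Z ⊆ X.T := Set.insert_subset huT hZ
  have hF' : ∀ z ∈ insert u Z, F z ∈ insert u Z := by
    rintro z (rfl | hz)
    · exact Or.inl hFu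
    · exact Or.inr (hF z hz)
  have hT : n * u * n⁻¹ ∈ X.T := X.conj_mem_T ⟨w, hr⟩ huT
  obtain ⟨ζ, hζ⟩ : ∃ ζ, n * u * n⁻¹ = u * ζ := ⟨u⁻¹ * (n * u * n⁻¹), by group⟩
  have e : ζ = u⁻¹ * (n * u * n⁻¹) := by rw [hζ, inv_mul_cancel_left]
  have h1 : ζ ∈ Zc X (X.Sz Z) := by
    refine ⟨e ▸ mul_mem (inv_mem huT) hT, fun c hc => ?_⟩
    have h2 := X.act_mem_Sz hZ hr.inv (inv_mem hnc) hc
    have h3 := X.χ_rp hr (X.act w⁻¹ c) huT
    have h4 := hχ _ h2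
    rw [show X.act w (X.act w⁻¹ c) = c from rep_apply_inv _ _ _ _] at h3 h4
    rw [e, X.χ_mul c (inv_mem huT) hT, X.χ_inv c huT, h3, h4, inv_mul_cancel₀ (X.χ_ne_zero _ _)]
  have h2 : ζ ^ 3 = 1 := by
    have h3 : (n * u * n⁻¹) ^ 3 = u ^ 3 := by rw [conj_pow, One.Zc_comm hZ hu3 hn, mul_inv_cancel_right]
    rw [hζ, Commute.mul_pow (X.T_comm huT h1.1)] at h3
    exact mul_eq_left.1 h3
  have hFn : F n ∈ X.cen Z := by
    obtain ⟨s, hs, t, ht, rfl⟩ := (X.mem_TS X.Sz_root).1 hn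
    rw [map_mul]
    exact mul_mem (X.S_le_cen Z (X.F_mem_S X.Sz_root (fun a ha => X.g_mem_Sz hZ hF ha) hs)) (X.T_le_cen Z (X.F_mem_T ht))
  have h3 : n⁻¹ * F n ∈ X.cen (insert u Z) := by
    have h4 := mul_mem (inv_mem hn) hFn
    refine hc _ (X.cen_le_G Z h4) ?_
    rintro z (rfl | hz)
    · have h5 := congrArg F hζ
      rw [map_mul, map_mul, map_inv, map_mul, hFu, hfix ζ h1 h2, ← hζ] at h5
      calc z * (n⁻¹ * F n) = n⁻¹ * (n * z * n⁻¹) * F n := by group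
        _ = n⁻¹ * F n * z := by rw [← h5]; group
    · exact X.cen_le_centralizer hZ h4 z hz
  obtain ⟨h, hh, e1⟩ := X.lang_TS X.Sz_root (fun a ha => X.g_mem_Sz hZ' hF' ha) h3
  have hh' : h ∈ X.cen Z := X.cen_anti (Set.subset_insert u Z) hh
  have hm : n * h⁻¹ ∈ X.cen Z := mul_mem hn (inv_mem hh')
  have h4 : h⁻¹ * u = u * h⁻¹ := (X.cen_le_centralizer hZ' (inv_mem hh) u (Or.inl rfl)).symm
  have h5 : ζ ∈ (⊥ : Subgroup Y) := by
    refine hS 3 Y (GF F G) D ⊥ y u (n * h⁻¹) ζ Nat.prime_three (Asm.finite_GF X) L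
      (fun m hm g _ => by rw [mem_bot.1 hm, one_mul, mul_one]) (L.le hu.1) ⟨X.cen_le_G Z hm, ?_⟩ (One.Zc_comm hZ hy hm) ?_
      (mem_bot.2 h2) (mem_bot.2 ?_) fun d hd => ⟨mem_bot.2 ?_, mem_bot.2 ?_⟩
    · show F (n * h⁻¹) = n * h⁻¹
      rw [map_mul, map_inv, ← mul_inv_cancel_left n (F n), e1]
      group
    · rw [← hζ, mul_assoc n, h4]
      group
    · rw [One.Zc_comm hZ h1 hm]
      group
    · rw [hu.2 d hd]
      group
    · rw [One.Zc_comm hZ h1 (hD hd)]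
      group
  rw [mem_bot.1 h5, mul_one] at hζ
  refine (RotB.wz_eq hZ' hF').1 ⟨n, hc n (X.cen_le_G Z hn) ?_, hr⟩
  rintro z (rfl | hz)
  · exact (mul_inv_eq_iff_eq_mul.1 hζ).symm
  · exact hnc z hz

end Cfsg.Agent.RC.B
end

-- part: KM/Si/V2
section
prune_inst 0xdffffbbfacffffffff7fbffed7dffffdeeefffefdffffbffedfb9fbfdf6be7fff7fbadffee50ffff77f2b636f87bdbfb7eefffeffbdc7fffff57b47ffbffcfffffbd0951d68c341eae6ffff3f3ff2e7f000000000000000000000000000041004200000000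
set_option linter.all false
open scoped Cfsg.Agent.FastGrp

/-!
# S4576: the tori in the support of a character at the large primes (helper98)
-/

set_option autoImplicit false
set_option linter.unusedSectionVars false

namespace Cfsg.Agent.KM.Si

open Cfsg Cfsg.Agent.DL Cfsg.Agent.DL.PP Cfsg.Agent.DL.Uni Cfsg.Agent.DL.Asm Cfsg.Agent.Nodes.Reps
  Cfsg.Agent.Characters.Core Cfsg.Agent.KZ.Lie Cfsg.Agent.Blocks.PPart Cfsg.Agent.Blocks
open scoped Pointwise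

namespace V2

/-- a group which is covered by the conjugates of `E` -/
theorem cover {G : Type} [Group G] [Finite G] {p w m : ℕ} [hp : Fact p.Prime] (hG : Sw w p G) (hw : m * w < p) (hm : m < p)
    {E S : Subgroup G} (hE : IsPGroup p E) (hS : IsPGroup p S)
    {x : G} {k : ℕ} (hx : x ^ p ^ k = 1) (hc : ∀ s ∈ S, x * s = s * x)
    (h : ∀ s ∈ S, ∃ i, 0 < i ∧ i ≤ m ∧ ∃ g, g⁻¹ * (x * s ^ i) * g ∈ E) : ∃ g, ∀ s ∈ S, g⁻¹ * s * g ∈ E := by
  classical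
  have h1 : IsPGroup p (Subgroup.zpowers x) := by
    rintro ⟨_, t, rfl⟩
    refine ⟨k, Subtype.ext ?_⟩
    show (x ^ t) ^ p ^ k = 1
    rw [← zpow_natCast, ← zpow_mul, mul_comm, zpow_mul, zpow_natCast, hx, one_zpow]
  obtain ⟨R, hR⟩ := (h1.to_sup_of_normal_right' hS (Subgroup.zpowers_le.2 (Subgroup.mem_normalizer_fintype
    fun s hs => by rw [hc s hs, mul_inv_cancel_right]; exact hs))).exists_le_sylow
  obtain ⟨Q, hQ⟩ := hE.exists_le_sylow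
  obtain ⟨c, hc'⟩ := MulAction.exists_smul_eq G Q R
  have h2 : ∀ e ∈ E, c * e * c⁻¹ ∈ R := fun e he =>
    hc' ▸ (Subgroup.smul_mem_pointwise_smul e (MulAut.conj c) (Q : Subgroup G) (hQ he) :)
  obtain ⟨hab, hw'⟩ := hG R R.2
  have h3 : ∀ s : S, x * s ∈ R := fun s =>
    hR (mul_mem (Subgroup.mem_sup_left (Subgroup.mem_zpowers x)) (Subgroup.mem_sup_right s.2))
  let W := Subgroup.normalizer ((R : Subgroup G) : Set G) ⧸ (Subgroup.centralizer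
      ((R : Subgroup G) : Set G)).subgroupOf (Subgroup.normalizer ((R : Subgroup G) : Set G))
  let U : W → Subgroup G := fun q => E.comap (MulAut.conj ((q.out : G) * c)⁻¹).toMonoidHom
  have h4 : ∀ s : S, (∃ g, g⁻¹ * (x * s) * g ∈ E) → ∃ q : W, x * s ∈ U q := fun s ⟨g, hg⟩ => by
    obtain ⟨n, h5, h6⟩ := R.conj_eq_normalizer_conj_of_mem (x * s) (g * c⁻¹) (h3 s) (by
      convert h2 _ hg using 1
      group)
    obtain ⟨z, hz⟩ := QuotientGroup.mk_out_eq_mul ((Subgroup.centralizer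
      ((R : Subgroup G) : Set G)).subgroupOf (Subgroup.normalizer ((R : Subgroup G) : Set G))) ⟨n, h5⟩
    refine ⟨QuotientGroup.mk ⟨n, h5⟩, ?_⟩
    have h7 := Subgroup.mem_subgroupOf.1 z.2 _ ((Subgroup.mem_normalizer_iff''.1 h5 _).1 (h3 s))
    rw [Subgroup.mem_comap, hz]
    show (n * (z : Subgroup.normalizer ((R : Subgroup G) : Set G)) * c : G)⁻¹ * (x * s) *
          (n * (z : Subgroup.normalizer ((R : Subgroup G) : Set G)) * c : G)⁻¹⁻¹ ∈ E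
    convert hg using 1
    calc (n * (z : Subgroup.normalizer ((R : Subgroup G) : Set G)) * c : G)⁻¹ * (x * s) *
          (n * (z : Subgroup.normalizer ((R : Subgroup G) : Set G)) * c : G)⁻¹⁻¹
        = c⁻¹ * (((z : Subgroup.normalizer ((R : Subgroup G) : Set G)) : G)⁻¹ * (n⁻¹ * (x * s) * n *
          (z : Subgroup.normalizer ((R : Subgroup G) : Set G)))) * c := by group
      _ = g⁻¹ * (x * s) * g := by
        rw [h7, ← h6]
        group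
  let ι := {q : W × Fin m // ∃ s : S, x * s ^ (q.2 + 1 : ℕ) ∈ U q.1}
  choose t ht using fun i : ι => i.2
  have := Fintype.ofFinite ι
  obtain ⟨i, -, -, hi⟩ := Subgroup.exists_index_le_card_of_leftCoset_cover (s := (Finset.univ : Finset ι))
    (H := fun i => (U i.1.1).subgroupOf S) (g := t) (Set.eq_univ_of_forall fun s => by
      obtain ⟨j, j1, j2, j3⟩ := h s s.2
      obtain ⟨j, rfl⟩ : ∃ j', j = j' + 1 := ⟨j - 1, by omega⟩
      obtain ⟨q, hq⟩ := h4 (s ^ (j + 1)) j3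
      let a : ι := ⟨(q, ⟨j, j2⟩), s, hq⟩
      refine Set.mem_iUnion₂.2 ⟨a, Finset.mem_univ _, ?_⟩
      rw [mem_leftCoset_iff]
      have h5 : (x * (t a : G) ^ (j + 1))⁻¹ * (x * s ^ (j + 1)) ∈ U q := mul_mem (inv_mem (ht a)) hq
      have h6 : Commute ((t a)⁻¹ : S) s := (hG S hS).1.is_comm.comm _ _
      have h7 : ((t a)⁻¹ * s) ^ (j + 1) ∈ (U q).subgroupOf S := by
        rw [h6.mul_pow, Subgroup.mem_subgroupOf]
        convert h5 using 1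
        simp only [Subgroup.coe_mul, Subgroup.coe_pow, Subgroup.coe_inv]
        group
      refine Subgroup.zpowers_le.2 h7 (mem_zpowers_pow_iff.2 ?_)
      obtain ⟨n, hn⟩ := IsPGroup.iff_orderOf.1 hS ((t a)⁻¹ * s)
      rw [hn]
      exact ((Nat.coprime_of_lt_prime j1.ne' (j2.trans_lt hm) hp.out).symm).pow_right n)
  have h5 : ((U i.1.1).subgroupOf S).index < p := by
    rw [Finset.card_univ, ← Nat.card_eq_fintype_card] at hi
    refine (hi.trans ((Nat.card_le_card_of_injective _ Subtype.val_injective).trans ?_)).trans_lt hw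
    rw [Nat.card_prod, Nat.card_fin, mul_comm]
    exact Nat.mul_le_mul_left m hw'
  obtain ⟨n, hn⟩ := hS.index ((U i.1.1).subgroupOf S)
  have h6 : S ≤ U i.1.1 := by
    rw [← Subgroup.subgroupOf_eq_top, ← Subgroup.index_eq_one, hn]
    rw [hn] at h5
    rcases n with _ | n
    · rfl
    · exact absurd (Nat.le_self_pow n.succ_ne_zero p) (not_le.2 h5)
  refine ⟨i.1.1.out * c, fun s hs => ?_⟩
  have h7 := Subgroup.mem_comap.1 (h6 hs)
  rwa [MulEquiv.coe_toMonoidHom, MulAut.conj_apply, inv_inv] at h7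

/-- the defect groups at a large prime -/
theorem exists_E {H : Type} [Group H] [Finite H] {r w : ℕ} (hr : r.Prime) (hw : w < r) (hH : Sw w r H) (χ : IrrCharacter H) :
    ∃ (M : Ideal AlgInt) (E : Subgroup H), IsPModular r M ∧ IsDefectGroup r M (blockOf M (χ : H → ℂ)) E ∧ IsPGroup r E ∧
      (charDegree (χ : H → ℂ)).factorization r + (Nat.card E).factorization r = (Nat.card H).factorization r ∧
      ∀ g z, IsPPart r g z → (χ : H → ℂ) g ≠ 0 → ∃ c, c⁻¹ * z * c ∈ E := by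
  have : Fact r.Prime := ⟨hr⟩
  obtain ⟨M, hM⟩ := ExistsModular.exists_isPModular hr
  have := hM.2.1.isPrime
  have hB : IsPBlock M (blockOf M (χ : H → ℂ)) := ⟨χ, rfl⟩
  obtain ⟨g, hg⟩ := S0906.result r M hM _ hB
  obtain ⟨E, hE⟩ : ∃ E, IsDefectGroup r M (blockOf M (χ : H → ℂ)) E := ⟨_, g, hg, default, rfl⟩
  have hEp := Basic.isPGroup_of_isDefectGroup hE
  refine ⟨M, E, hM, hE, hEp, ?_, fun g z hz h0 => ?_⟩
  · have := Fintype.ofFinite H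
    have h9 := H648.HeightForm.defect_add (p := r) _ (Basic.mem_blockOf_self (M := M) χ)
    rw [Ht.R23.hz hM hB hE (hH E hEp).1 ((hH E hEp).2.trans_lt hw) (Basic.mem_blockOf_self χ)] at h9
    rw [S0908.result r M hM _ hB E hE, Nat.factorization_pow_self hr]
    omega
  · by_contra h
    refine h0 (S0924.result r M hM χ g z hz fun D hD hx => h ?_)
    obtain ⟨c, rfl⟩ := H662.defectGroup_conj hM hB hE hD
    obtain ⟨e, he, h9⟩ := hx
    refine ⟨c, ?_⟩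
    rw [← h9, show c⁻¹ * (MulAut.conj c).toMonoidHom e * c = e from by
      show c⁻¹ * (c * e * c⁻¹) * c = e
      group]
    exact he

section abs

variable {Γ : Type} [Group Γ] {p : ℕ} [Fact p.Prime] {H : Subgroup Γ} {A : Set (Subgroup Γ)}
  {R : Subgroup Γ → (Γ → ℂ) →ₗ[ℂ] (Γ → ℂ)}

theorem cov_of (S : Sys p H A R) {T : Subgroup Γ} (hT : T ∈ A) (χ : Γ → ℂ) {x : H} (hx : (x : Γ) ∈ T)
    (h0 : rst H R T χ x ≠ 0) {r m n : ℕ} (hr : r.Prime) (hrp : r ≠ p) (hm : m < r)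
    (hc : ∀ s : Finset (↥(T ⊓ H) →* ℂˣ), (∀ a ∈ s, ip H χ (R T (lin a)) ≠ 0) → s.card ≤ m) {E : Subgroup H}
    (hn : ∀ g z : H, IsPPart r g z → g ^ n = z)
    (hθ : ∀ g z : H, IsPPart r g z → χ g ≠ 0 → ∃ c, c⁻¹ * z * c ∈ E) {u : H} (hu : (u : Γ) ∈ T)
    (hur : ∃ j, orderOf u = r ^ j) : ∃ i, 0 < i ∧ i ≤ m ∧ ∃ c, c⁻¹ * (x ^ n * u ^ i) * c ∈ E := by
  classical
  have := S.finH
  have := S.finT T
  have := finite_hom (T ⊓ H)
  have := Fintype.ofFinite (↥(T ⊓ H) →* ℂˣ)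
  have := Fact.mk hr
  let φ : Γ → ℂ := fun g => if ∃ c ∈ H, c⁻¹ * g ^ n * c ∈ E.map H.subtype then 1 else 0
  have mem : ∀ g : H, (∃ c ∈ H, c⁻¹ * (g : Γ) ^ n * c ∈ E.map H.subtype) ↔ ∃ c, c⁻¹ * g ^ n * c ∈ E := fun g =>
    ⟨fun ⟨c, hc, e⟩ => ⟨⟨c, hc⟩, (Subgroup.mem_map_iff_mem (x := (⟨c, hc⟩ : H)⁻¹ * g ^ n * ⟨c, hc⟩) H.subtype_injective).1 e⟩,
      fun ⟨c, e⟩ => ⟨c, c.2, _, e, rfl⟩⟩
  have hφ : PConst p H φ := by
    refine ⟨fun g hg h hh => if_congr ?_ rfl rfl, fun s hs v hv _ ⟨i, hi⟩ e => if_congr ?_ rfl rfl⟩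
    · rw [conj_pow]
      exact ⟨fun ⟨c, hc, e⟩ => ⟨h⁻¹ * c, H.mul_mem (H.inv_mem hh) hc, by convert e using 1; group⟩,
        fun ⟨c, hc, e⟩ => ⟨h * c, H.mul_mem hh hc, by convert e using 1; group⟩⟩
    · have h1 : (⟨v, hv⟩ : H) ^ n = 1 := hn _ _ (isPPart_of_not_dvd fun k => hrp (by
        rw [Subgroup.orderOf_mk, hi] at k
        exact (Nat.prime_dvd_prime_iff_eq hr Fact.out).1 (hr.dvd_of_dvd_pow k)))
      rw [Commute.mul_pow e, show v ^ n = 1 from congrArg Subtype.val h1, mul_one]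
  have h1 : ∀ g : H, rst H R T χ g ≠ 0 → ∃ c, c⁻¹ * g ^ n * c ∈ E := fun g hg => by
    by_contra k
    refine hg ?_
    rw [← rst_congr (f := φ * χ) fun h hh => ?_, S.rst_mul hT hφ, show φ g = 0 from if_neg fun l => k ((mem g).1 l), zero_mul]
    by_cases l : ∃ c ∈ H, c⁻¹ * h ^ n * c ∈ E.map H.subtype
    · rw [Pi.mul_apply, show φ h = 1 from if_pos l, one_mul]
    · obtain ⟨z, hz⟩ := exists_isPPart r (⟨h, hh⟩ : H)
      have : χ h = 0 := by_contra fun m => l ((mem ⟨h, hh⟩).2 (hn _ _ hz ▸ hθ ⟨h, hh⟩ z hz m))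
      rw [Pi.mul_apply, this, mul_zero]
  by_contra hZu
  have hx' : (x : Γ) ∈ T ⊓ H := ⟨hx, x.2⟩
  have hu' : (u : Γ) ∈ T ⊓ H := ⟨hu, u.2⟩
  set s := Finset.univ.filter fun a : ↥(T ⊓ H) →* ℂˣ => ip H χ (R T (lin a)) ≠ 0 with hs
  have ex : ∀ i : ℕ, rst H R T χ (x * u ^ i) = ∑ a ∈ s, ip H χ (R T (lin a)) * lin a x * lin a u ^ i := fun i => by
    rw [fourier (S.comm T hT) (rst H R T χ) _ (mul_mem hx' (pow_mem hu' i)), Finset.sum_apply, hs, Finset.sum_filter_of_ne]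
    · refine Finset.sum_congr rfl fun a _ => ?_
      rw [Pi.smul_apply, smul_eq_mul, ← S.ip_rst hT, lin_apply a (mul_mem hx' (pow_mem hu' i)), lin_apply a hx', lin_apply a hu',
        mul_assoc, ← Units.val_pow_eq_pow_val, ← map_pow, ← Units.val_mul, ← map_mul]
      rfl
    · exact fun a _ k l => k (by rw [l, zero_mul, zero_mul])
  have h2 := Vb.exp_sum (fun a : ↥(T ⊓ H) →* ℂˣ => lin a u) s (fun a _ => (isLin_lin a).ne_zero hu')
    (fun a => ip H χ (R T (lin a)) * lin a x) fun i h3 h4 => by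
      rw [← ex]
      by_contra k
      have h5 := h1 (x * u ^ i) k
      have h6 : Commute x (u ^ i) := Commute.pow_right (Subtype.ext (S.comm T hT _ hx' _ hu')) i
      have h7 : i ≤ m := h4.trans (hc s fun a ha => (Finset.mem_filter.1 ha).2)
      rw [h6.mul_pow, pow_right_comm, hn u u (isPPart_of_isPGroup hur)] at h5
      exact hZu ⟨i, h3, h7, h5⟩
  have h3 := ex 0
  simp only [pow_zero, mul_one] at h3
  exact h0 (h3.trans h2)

end abs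

end V2

open V2 in
/-- **A torus in the support**: its order is bounded by the defect at the large primes. -/
theorem supp {p : ℕ} [Fact p.Prime] {k : Type} [Field k] [CharP k p] {Y : Type} [Group Y] {N : Type} [Fintype N]
    [DecidableEq N] {ρ : Y →* GL N k} {F : MulAut Y} {G : Subgroup Y} [IsAlgClosed k] (X : Datum p ρ F G)
    [Finite ↥(GF F G)] (θ : IrrCharacter ↥(GF F G)) (x : GF F G) (hx : ¬ p ∣ orderOf x) (h0 : (θ : GF F G → ℂ) x ≠ 0) :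
    ∃ y ∈ G, y⁻¹ * F y ∈ X.NN ∧ (x : Y) ∈ cj y X.T ∧ ∀ r : ℕ, r.Prime → r ≠ p → Nat.card X.W ^ 2 < r →
      (charDegree (θ : GF F G → ℂ)).factorization r + (Nat.card ↥(GF F (cj y X.T))).factorization r ≤
        (Nat.card ↥(GF F G)).factorization r := by
  classical
  have := Fintype.ofFinite ↥(GF F G)
  obtain ⟨f⟩ := nonempty_fr X
  obtain ⟨St, D⟩ := St.stD X
  have e : res (GF F G) (extendByZero (GF F G) θ) = θ := funext fun g => extendByZero_of_mem _ _ g.2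
  obtain ⟨T, hT, h1, h2⟩ := Vb.exists_torus (sys' X) D (χ := extendByZero (GF F G) θ) (isCls_of_irr (e.symm ▸ θ.2)) x.2
    (by rwa [IsSs, Subgroup.orderOf_coe]) (by rwa [extendByZero_of_mem _ _ x.2])
  obtain ⟨y, hy, w, hw, rfl⟩ := exists_y hT
  have hc : ∀ s : Finset (↥(cj y X.T ⊓ GF F G) →* ℂˣ),
      (∀ a ∈ s, ip (GF F G) (extendByZero (GF F G) θ) (R X (cj y X.T) (lin a)) ≠ 0) → s.card ≤ Nat.card X.W := fun s hs => by
    have := Fintype.ofFinite X.W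
    have := (sys' X).finT (cj y X.T)
    have := finite_hom (cj y X.T ⊓ GF F G)
    have := Fintype.ofFinite (↥(cj y X.T ⊓ GF F G) →* ℂˣ)
    have h3 := bessel f (θ : GF F G → ℂ)
    have h4 : (0 : ℝ) < Nat.card X.W := Nat.cast_pos.2 Nat.card_pos
    rw [classInner_irr_self θ.2, Complex.one_re, inv_mul_le_iff₀ h4, mul_one, finsum_eq_sum_of_fintype] at h3
    have h5 := (Finset.single_le_sum (f := fun w => ∑ᶠ c : Lbl X, ‖classInner (θ : GF F G → ℂ) (RW f w c)‖ ^ 2)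
      (fun _ _ => finsum_nonneg fun _ => by positivity) (Finset.mem_univ w)).trans h3
    rw [← sum_lab f hy hw (fun ψ => ‖classInner (θ : GF F G → ℂ) ψ‖ ^ 2) (by simp [classInner])] at h5
    have h6 := (Finset.card_nsmul_le_sum s _ (1 : ℝ) fun a ha => by
      have h7 := hs a ha
      have h8 := ip_gen_int (f := extendByZero (GF F G) θ) (e.symm ▸ gen_of_irr θ.2) ((sys' X).gen _ hT _ (isLin_lin a))
      rw [ip_eq_classInner, e] at h7 h8
      exact LV.One.one_le_normSq h8 h7).trans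
      ((Finset.sum_le_sum_of_subset_of_nonneg (Finset.subset_univ s) fun _ _ _ => by positivity).trans h5)
    rw [nsmul_eq_mul, mul_one, Nat.cast_le] at h6
    exact h6
  refine ⟨y, hy, ⟨w, hw⟩, h1, fun r hr hrp hW => ?_⟩
  have := Fact.mk hr
  have hW' : Nat.card X.W < r := (Nat.le_self_pow two_ne_zero _).trans_lt hW
  have hs := Lb.sw X hr hrp hW'
  obtain ⟨M, E, -, -, e1, e2, e3⟩ := exists_E hr hW' hs θ
  obtain ⟨n, hn⟩ := exists_pow_eq (G := GF F G) r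
  have hle : GF F (cj y X.T) ≤ GF F G := Ee.GF_mono (X.conj hy ⟨w, hw⟩).T_le_G
  have : Finite ↥(GF F (cj y X.T)) := Finite.of_injective _ (Subgroup.inclusion_injective hle)
  obtain ⟨P⟩ := (inferInstance : Nonempty (Sylow r ↥(GF F (cj y X.T))))
  have hP : IsPGroup r ((P : Subgroup _).map (Subgroup.inclusion hle)) := P.isPGroup'.map _
  obtain ⟨z, hz⟩ := exists_isPPart r x
  obtain ⟨_, -, -, ⟨j, hj⟩, -⟩ := id hz
  obtain ⟨g, hg⟩ := cover (m := Nat.card X.W) hs (by rwa [← sq]) hW' e1 hP (x := x ^ n) (k := j)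
    (by rw [hn _ _ hz, ← hj, pow_orderOf_eq_one])
    (by
      rintro _ ⟨u, -, rfl⟩
      exact Subtype.ext ((X.conj hy ⟨w, hw⟩).T_comm (pow_mem h1 n) u.2.1))
    (by
      rintro _ ⟨u, hu, rfl⟩
      exact cov_of (sys' X) hT _ h1 h2 hr hrp hW' hc hn
        (fun g z a b => e3 g z a (by rwa [extendByZero_of_mem _ _ g.2] at b)) u.2.1
        (by
          obtain ⟨i, hi⟩ := IsPGroup.iff_orderOf.1 hP ⟨_, u, hu, rfl⟩
          exact ⟨i, (Subgroup.orderOf_mk _ _).symm.trans hi⟩))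
  have h3 : Nat.card P ∣ Nat.card E := by
    rw [← Subgroup.card_map_of_injective (Subgroup.inclusion_injective hle),
      ← Subgroup.card_map_of_injective (f := (MulAut.conj g⁻¹).toMonoidHom) (MulAut.conj g⁻¹).injective]
    refine Subgroup.card_dvd_of_le ?_
    rintro _ ⟨s, hs, rfl⟩
    rw [MulEquiv.coe_toMonoidHom, MulAut.conj_apply, inv_inv]
    exact hg s hs
  rw [Sylow.card_eq_multiplicity, hr.pow_dvd_iff_le_factorization Nat.card_pos.ne'] at h3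
  omega

end Cfsg.Agent.KM.Si
end

-- part: KM/Si/Fam
section
prune_inst 0xfffffffffff7ffffff7e3fffddffffd3feefffbfdffdfbffffebffbfdf23ff2bedffaf7dfeb8ffcef7e3f634b97b53f9ffffffef6bfc7ffffdfff41ffbee5ff7ffb78951f194240f746fff9bf977aa7f000000000000000000000000000041004210000000
set_option linter.all false
open scoped Cfsg.Agent.FastGrp

/-!
# S4576: a finite family of polynomials and the lifts of a character (helper98)
-/

set_option autoImplicit false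
set_option linter.unusedSectionVars false

namespace Cfsg.Agent.KM.Si

open Cfsg Cfsg.Agent.DL Cfsg.Agent.DL.PP Cfsg.Agent.DL.Uni Cfsg.Agent.KZ.Lie Cfsg.Agent.LV.One Cfsg.Agent.Blocks
  Cfsg.Agent.Blocks.Basic Cfsg.Agent.Characters.Core Cfsg.Agent.KM.Ht Polynomial Matrix Ad

variable {p : ℕ} [Fact p.Prime] {k : Type} [Field k] [CharP k p] {Y : Type} [Group Y] {N : Type} [Fintype N]
  [DecidableEq N] {ρ : Y →* GL N k} {F : MulAut Y} {G : Subgroup Y} [IsAlgClosed k]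

/-- a large prime divisor of `c t - 1` -/
theorem big_prime {p : ℕ} (e b : ℕ) {c : ℤ} (hp : p.Prime) (he : 0 < e) (hB : c ≠ 0) (hc : c ≠ 1) :
    ∃ N₁ j₀ : ℕ, N₁ ≠ 0 ∧ N₁.Coprime p ∧ ∀ j, j₀ ≤ j → (N₁ : ℤ) ∣ (p : ℤ) ^ (e * j) - 1 →
      ∃ r : ℕ, r.Prime ∧ b < r ∧ r ≠ p ∧ (r : ℤ) ∣ c * (p : ℤ) ^ (e * j) - 1 := by
  obtain ⟨ε, hε, hε'⟩ : ∃ ε : ℤ, IsUnit ε ∧ ε = -1 := ⟨_, isUnit_one.neg, rfl⟩
  obtain ⟨P, hev⟩ : ∃ P : ℤ[X], ∀ t, P.eval t = c * t + ε := ⟨C c * X + C ε, fun t => by simp⟩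
  have h1 : P.eval 1 ≠ 0 := by rw [hev]; omega
  have hN0 : (P.eval 1).natAbs * (b + p).factorial ≠ 0 :=
    mul_ne_zero (Int.natAbs_ne_zero.2 h1) (Nat.factorial_ne_zero _)
  refine ⟨_, (P.eval 1).natAbs + 2, (Nat.ordCompl_pos p hN0).ne', (Nat.coprime_ordCompl hp hN0).symm, ?_⟩
  intro j hj ht
  generalize htt : (p : ℤ) ^ (e * j) = t at ht ⊢
  have hpt : (p : ℤ) ∣ t := by
    rw [← htt]
    exact dvd_pow_self _ (Nat.mul_pos he (by omega)).ne'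
  have htl : ((P.eval 1).natAbs : ℤ) + 2 < t := by
    rw [← htt]
    have h2 : j < p ^ (e * j) := lt_of_le_of_lt (Nat.le_mul_of_pos_left j he) (Nat.lt_pow_self hp.one_lt)
    have h3 : (P.eval 1).natAbs + 2 < p ^ (e * j) := lt_of_le_of_lt hj h2
    exact_mod_cast h3
  have hbig : (P.eval 1).natAbs < (P.eval t).natAbs := by
    have h2 : (c * t).natAbs ≤ (P.eval t).natAbs + ε.natAbs := by
      have : c * t = P.eval t - ε := by rw [hev]; ring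
      rw [this]
      exact Int.natAbs_sub_le _ _
    have h3 : ε.natAbs = 1 := Int.isUnit_iff_natAbs_eq.1 hε
    have h4 : t.natAbs ≤ (c * t).natAbs := by
      rw [Int.natAbs_mul]
      exact Nat.le_mul_of_pos_left _ (Int.natAbs_pos.2 hB)
    omega
  have hne : (P.eval t).natAbs ≠ 0 := by omega
  have key : ∃ r : ℕ, r.Prime ∧ b + p < r ∧ r ∣ (P.eval t).natAbs := by
    by_contra hcon
    have hd : (P.eval t).natAbs ∣ (P.eval 1).natAbs := by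
      rw [← Nat.factorization_prime_le_iff_dvd hne (Int.natAbs_ne_zero.2 h1)]
      intro r hr
      by_cases hd : r ∣ (P.eval t).natAbs
      · have hle : r ≤ b + p := by
          by_contra hlt
          exact hcon ⟨r, hr, by omega, hd⟩
        have hrp : r ≠ p := by
          rintro rfl
          have h5 : (r : ℤ) ∣ P.eval t := Int.natCast_dvd.2 hd
          rw [hev] at h5
          have h6 : (r : ℤ) ∣ ε := (dvd_add_right (hpt.mul_left c)).1 h5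
          have h7 : r ∣ ε.natAbs := Int.natCast_dvd.1 h6
          rw [Int.isUnit_iff_natAbs_eq.1 hε] at h7
          exact hr.one_lt.ne' (Nat.dvd_one.1 h7)
        exact (KM.Ht.fact_eval hr hp hrp P h1 (Nat.mul_dvd_mul_left _ (hr.dvd_factorial.2 hle)) ht).2.le
      · rw [Nat.factorization_eq_zero_of_not_dvd hd]
        exact Nat.zero_le _
    exact absurd (Nat.le_of_dvd (Int.natAbs_pos.2 h1) hd) (by omega)
  obtain ⟨r, hr, hlt, hd⟩ := key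
  refine ⟨r, hr, by omega, by omega, ?_⟩
  have hd' : (r : ℤ) ∣ P.eval t := Int.natCast_dvd.2 hd
  rwa [hev, hε', ← sub_eq_add_neg] at hd'

/-- **A finite family of polynomials**: an inequality at the large primes for the lifts gives the inequality at `l`. -/
theorem fam {X : Datum p ρ F G} [Fintype ↥(GF F G)] (hq : X.QS) (f : Fr X) {l : ℕ} (hl : l.Prime) (hlp : l ≠ p)
    (χ : IrrCharacter ↥(GF F G)) {ι : Type} [Finite ι] (P : ι → ℤ[X]) (hP0 : ∀ i, IsUnit ((P i).coeff 0))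
    (hP1 : ∀ i, (P i).eval 1 ≠ 0) {N₂ j₀ b : ℕ} (hN2 : N₂ ≠ 0) (hN2' : N₂.Coprime p)
    (H : ∀ (m j : ℕ) [Fintype ↥(GF (F ^ m) G)] (ψ : IrrCharacter ↥(GF (F ^ m) G)), j₀ < j → m = 1 + f.d * j →
      (N₂ : ℤ) ∣ (p : ℤ) ^ (f.e * j) - 1 → Lift l m χ ψ → ∃ i, (P i).eval ((p : ℤ) ^ (f.e * j)) ≠ 0 ∧
        ∀ r, r.Prime → r ≠ p → b < r → (charDegree (ψ : GF (F ^ m) G → ℂ)).factorization r +
          ((P i).eval ((p : ℤ) ^ (f.e * j))).natAbs.factorization r ≤ (Nat.card ↥(GF (F ^ m) G)).factorization r) :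
    ∃ i, (charDegree (χ : GF F G → ℂ)).factorization l + ((P i).eval 1).natAbs.factorization l ≤
      (Nat.card ↥(GF F G)).factorization l := by
  have hp : p.Prime := Fact.out
  have := Fintype.ofFinite X.W
  have := Fintype.ofFinite ι
  have hL := boxLf f hq _ χ.2
  have hn := Deg.deg_of_dwR hq f Deg.boxCnt D3.boxExp D3.boxPow Deg.boxBij (dwR X) χ.2 hl hlp
  obtain ⟨g, hg, g2⟩ := exists_poly f hq hL.lfE (gen_of_irr χ.2)
  obtain ⟨Q, hQ1, hQ⟩ := exists_ord hq f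
  obtain ⟨c, n, u, hc0, hu, hu0, rfl⟩ := exists_form (g := g) fun e =>
    irr_one_ne_zero χ.2 (by rw [← g2, e, eval_zero, Rat.cast_zero])
  have h1 : c * (u.eval 1 : ℤ) = charDegree (χ : GF F G → ℂ) := by
    rw [irr_one_eq_charDegree χ.2, eval_mul, eval_C, ← Int.cast_one, eval_map_cast, eval_mul, eval_pow, eval_X, one_pow,
      one_mul] at g2
    exact_mod_cast g2
  have hd0 := (charDegree_pos χ.2).ne'
  have hu1 : (u.eval 1).natAbs ≠ 0 := Int.natAbs_ne_zero.2 fun e =>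
    hd0 (by rw [e, Int.cast_zero, mul_zero] at h1; exact_mod_cast h1.symm)
  have hQ0 : (Q.eval 1).natAbs ≠ 0 := by
    rw [hQ1, Int.natAbs_natCast]
    exact fun e => not_dvd_pc' (p := p) (GF F G) (e ▸ dvd_zero p)
  have hnum : c.num.natAbs ≠ 0 := Int.natAbs_ne_zero.2 (Rat.num_ne_zero.2 hc0)
  have e1 : c.den * charDegree (χ : GF F G → ℂ) = c.num.natAbs * (u.eval 1).natAbs := by
    have : (c.den : ℤ) * charDegree (χ : GF F G → ℂ) = c.num * u.eval 1 := Int.cast_injective (α := ℚ) (by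
      rw [Int.cast_mul, Int.cast_mul, Int.cast_natCast, Int.cast_natCast, ← h1, ← mul_assoc, Rat.den_mul_eq_num])
    simpa [Int.natAbs_mul] using congrArg Int.natAbs this
  have v2 := congrArg (fun x : ℕ => x.factorization l) e1
  simp only [Nat.factorization_mul c.den_ne_zero hd0, Nat.factorization_mul hnum hu1, Finsupp.add_apply] at v2
  have v0 : c.num.natAbs.factorization l = 0 := Nat.factorization_eq_zero_of_not_dvd fun e' => by
    by_cases e : (l : ℤ) ∣ c.den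
    · exact hl.not_dvd_one (by
        rw [← c.reduced]
        exact Nat.dvd_gcd e' (Int.natCast_dvd_natCast.1 e))
    · exact hn _ hg c.num c.den (Polynomial.X ^ n * u)
        (by rw [← mul_assoc, ← C_mul, Int.cast_natCast, Rat.den_mul_eq_num]) e (Int.natCast_dvd.2 e')
  set h := Nat.card ↥(GF F G) with hh
  have hh0 : h ≠ 0 := Nat.card_pos.ne'
  have v6 : h.factorization l = (Q.eval 1).natAbs.factorization l := by rw [hh, fact_card hl hlp, hQ1, Int.natAbs_natCast]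
  have huP : ∀ i, (u * P i).eval 1 ≠ 0 := fun i => by
    rw [eval_mul]
    exact mul_ne_zero (Int.natAbs_ne_zero.1 hu1) (hP1 i)
  set a := (u.eval 1).natAbs * ∏ i, ((u * P i).eval 1).natAbs with ha
  have ha0 : a ≠ 0 := mul_ne_zero hu1 (Finset.prod_ne_zero_iff.2 fun i _ => Int.natAbs_ne_zero.2 (huP i))
  have ha1 : ∀ i, ((u * P i).eval 1).natAbs ∣ a := fun i =>
    dvd_mul_of_dvd_right (Finset.dvd_prod_of_mem (fun i => ((u * P i).eval 1).natAbs) (Finset.mem_univ i)) _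
  set N₀ := a * b.factorial * N₂ * ((Q.eval 1).natAbs * l) with hN₀
  have hN0 : N₀ ≠ 0 := mul_ne_zero (mul_ne_zero (mul_ne_zero ha0 (Nat.factorial_ne_zero b)) hN2)
    (mul_ne_zero hQ0 hl.ne_zero)
  set N₁ := N₀ / p ^ N₀.factorization p with hN₁
  have hN1 : N₁.Coprime p := (Nat.coprime_ordCompl hp hN0).symm
  have hN1' : 0 < N₁ := Nat.ordCompl_pos p hN0
  have key : ∀ B : ℕ, ∃ i, ∃ j ν : ℕ, B < j ∧
      (u * P i).eval ((p : ℤ) ^ j) ∣ (p : ℤ) ^ ν * (C ((a * c.den : ℕ) : ℤ) * Q).eval ((p : ℤ) ^ j) := fun B => by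
    obtain ⟨m, hm, i, f', χ', ε, h2, h3, h4, h5, h6, h7, h8, n', h9, h10⟩ := hL (1 + f.d * (B + j₀) + h + l)
      (f.d * N₁.totient) (mul_ne_zero f.L.d_pos.ne' (Nat.totient_pos.2 hN1').ne')
    obtain ⟨j', hj'⟩ := (Nat.modEq_iff_dvd' hm).1 h3.symm
    set j := N₁.totient * j' with hj
    have h11 : m = 1 + f.d * j := by rw [hj, ← mul_assoc]; omega
    have h12 : B + j₀ < j := lt_of_mul_lt_mul_left (a := f.d) (by omega) (Nat.zero_le _)
    have h13 : (N₁ : ℤ) ∣ (p : ℤ) ^ (f.e * j) - 1 := by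
      have := (Nat.ModEq.pow_totient hN1.symm).pow (j' * f.e)
      rw [one_pow, ← pow_mul, ← mul_assoc, ← hj, mul_comm j] at this
      have := Nat.ModEq.dvd this.symm
      simpa using this
    have ht0 : (p : ℤ) ^ (f.e * j) ≠ 0 := pow_ne_zero _ (Nat.cast_ne_zero.2 hp.ne_zero)
    set t : ℤ := (p : ℤ) ^ (f.e * j) with ht
    have h14 := deg_of_lift f hq (gen_of_irr χ.2) hg hm h11 f' h5 h6
    obtain ⟨η, rfl, hη⟩ : ∃ η : ℤ, ε = η ∧ η.natAbs = 1 := by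
      rcases h5 with rfl | rfl
      exacts [⟨1, by simp, rfl⟩, ⟨-1, by simp, rfl⟩]
    have e2 : c.den * charDegree χ' = c.num.natAbs * (p ^ (f.e * j * n) * (u.eval t).natAbs) := by
      rw [eval_mul, eval_C, eval_map_cast, irr_one_eq_charDegree h4] at h14
      have h17 : ((η * charDegree χ' : ℤ) : ℚ) = c * ((Polynomial.X ^ n * u).eval t : ℤ) := by exact_mod_cast h14
      have h16 : (c.den : ℤ) * (η * charDegree χ') = c.num * (Polynomial.X ^ n * u).eval t := by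
        refine Int.cast_injective (α := ℚ) ?_
        rw [Int.cast_mul, h17, Int.cast_mul, ← mul_assoc, Int.cast_natCast, Rat.den_mul_eq_num]
      have h18 := congrArg Int.natAbs h16
      rw [eval_mul, eval_pow, eval_X, ht, ← pow_mul] at h18
      simpa [Int.natAbs_mul, hη, Int.natAbs_pow] using h18
    have hd1 := (charDegree_pos h4).ne'
    have hut : (u.eval t).natAbs ≠ 0 := fun e => mul_ne_zero c.den_ne_zero hd1 (by rw [e2, e, mul_zero, mul_zero])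
    have v1 : ∀ r, r ≠ p → c.den.factorization r + (charDegree χ').factorization r =
        c.num.natAbs.factorization r + (u.eval t).natAbs.factorization r := fun r hrp => by
      have := congrArg (fun x : ℕ => x.factorization r) e2
      simp only [Nat.factorization_mul c.den_ne_zero hd1, Nat.factorization_mul hnum
        (mul_ne_zero (pow_ne_zero _ hp.ne_zero) hut), Nat.factorization_mul (pow_ne_zero _ hp.ne_zero) hut,
        Finsupp.add_apply, Nat.factorization_pow, Finsupp.smul_apply, hp.factorization, Finsupp.single_apply,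
        if_neg hrp.symm, smul_zero, zero_add] at this
      exact this
    have v3 : ∀ r, r.Prime → r ≠ p → (Nat.card ↥(GF (F ^ m) G)).factorization r = (Q.eval t).natAbs.factorization r :=
      fun r hr hrp => by rw [fact_card hr hrp, hQ m j hm h11, Int.natAbs_natCast]
    have v4 := (fact_eval hl hp hlp Q (Int.natAbs_ne_zero.1 hQ0) (N₀ := N₀) (Dvd.intro_left _ rfl) h13).2
    have v5 := (fact_eval hl hp hlp u (Int.natAbs_ne_zero.1 hu1) (N₀ := N₀) (mul_dvd_mul (dvd_mul_of_dvd_left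
      (dvd_mul_of_dvd_left (dvd_mul_right _ _) _) _) (dvd_mul_left _ _)) h13).2
    have hQt : (Q.eval t).natAbs ≠ 0 := by
      rw [hQ m j hm h11, Int.natAbs_natCast]
      exact fun e => not_dvd_pc' (p := p) (GF (F ^ m) G) (e ▸ dvd_zero p)
    obtain ⟨i₀, hPt, hi⟩ := H m j ⟨χ', h4⟩ (by omega) h11 ((Int.natCast_dvd_natCast.2 ((hN2'.pow_right
      (N₀.factorization p)).dvd_of_dvd_mul_left (by
        rw [hN₁, Nat.ordProj_mul_ordCompl_eq_self]; exact dvd_mul_of_dvd_left (dvd_mul_left _ _) _))).trans h13)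
      ⟨h7, fun e => by
        have := (Nat.prime_dvd_prime_iff_eq hl h7).1 e
        omega, fun e => by
        have := Nat.le_of_dvd (Nat.pos_of_ne_zero hh0) e
        omega, h8, ⟨n', h9, h10⟩, by
        have := v1 l hlp
        have := v3 l hl hlp
        rw [← hh]
        show _ = _ + (charDegree χ').factorization l
        omega⟩
    rw [← ht] at hPt hi
    have hPt0 := Int.natAbs_ne_zero.2 hPt
    have huPt : ((u * P i₀).eval t).natAbs = (u.eval t).natAbs * ((P i₀).eval t).natAbs := by rw [eval_mul, Int.natAbs_mul]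
    refine ⟨i₀, f.e * j, ((u * P i₀).eval t).natAbs.factorization p,
      (lt_of_le_of_lt (Nat.le_add_right _ _) h12).trans_le (Nat.le_mul_of_pos_left _ f.L.e_pos), ?_⟩
    rw [← Int.natAbs_dvd_natAbs, Int.natAbs_mul, Int.natAbs_pow, Int.natAbs_natCast, eval_mul (p := C _), eval_C,
      Int.natAbs_mul, Int.natAbs_natCast, ← ht]
    have hx0 : ((u * P i₀).eval t).natAbs ≠ 0 := by rw [huPt]; exact mul_ne_zero hut hPt0
    have hy0 : a * c.den * (Q.eval t).natAbs ≠ 0 := mul_ne_zero (mul_ne_zero ha0 c.den_ne_zero) hQt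
    refine (Nat.factorization_prime_le_iff_dvd hx0 (mul_ne_zero (pow_ne_zero _ hp.ne_zero) hy0)).1 fun r hr => ?_
    rw [Nat.factorization_mul (pow_ne_zero _ hp.ne_zero) hy0, Finsupp.add_apply, Nat.factorization_pow, Finsupp.smul_apply,
      Nat.factorization_mul (mul_ne_zero ha0 c.den_ne_zero) hQt, Finsupp.add_apply,
      Nat.factorization_mul ha0 c.den_ne_zero, Finsupp.add_apply]
    by_cases hrp : r = p
    · rw [hrp, hp.factorization_self, smul_eq_mul, mul_one]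
      omega
    by_cases hs : r ≤ b
    · have w1 := (fact_eval hr hp hrp (u * P i₀) (huP i₀) (N₀ := N₀) (dvd_mul_of_dvd_left (dvd_mul_of_dvd_left
        (mul_dvd_mul (ha1 i₀) (Nat.dvd_factorial hr.pos hs)) _) _) h13).2
      have w2 := (Nat.factorization_le_iff_dvd (Int.natAbs_ne_zero.2 (huP i₀)) ha0).2 (ha1 i₀) r
      omega
    · have w2 : (charDegree χ').factorization r + _ ≤ _ := hi r hr hrp (not_le.1 hs)
      have w3 := v1 r hrp
      have w4 := v3 r hr hrp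
      rw [huPt, Nat.factorization_mul hut hPt0, Finsupp.add_apply]
      omega
  obtain ⟨i, hi⟩ : ∃ i, ∀ B : ℕ, ∃ j ν : ℕ, B < j ∧
      (u * P i).eval ((p : ℤ) ^ j) ∣ (p : ℤ) ^ ν * (C ((a * c.den : ℕ) : ℤ) * Q).eval ((p : ℤ) ^ j) := by
    by_contra e
    choose B hB using fun i => not_forall.1 (not_exists.1 e i)
    obtain ⟨i, j, ν, k1, k2⟩ := key (Finset.univ.sup B)
    exact hB i ⟨j, ν, (Finset.le_sup (Finset.mem_univ i)).trans_lt k1, k2⟩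
  have h9 := dvd_of_map_dvd (hu.mul (isPrimitive_of_coeff (hP0 i))) (Nat.cast_ne_zero.2 (mul_ne_zero ha0 c.den_ne_zero))
    (dvd_of_pow_values hp (by rw [mul_coeff_zero]; exact mul_ne_zero hu0 (hP0 i).ne_zero) hi)
  have h10 := (Nat.factorization_le_iff_dvd (Int.natAbs_ne_zero.2 (huP i)) hQ0).2
    (Int.natAbs_dvd_natAbs.2 (eval_dvd (x := 1) h9)) l
  rw [eval_mul, Int.natAbs_mul, Nat.factorization_mul hu1 (Int.natAbs_ne_zero.2 (hP1 i)), Finsupp.add_apply] at h10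
  exact ⟨i, by omega⟩

end Cfsg.Agent.KM.Si
end

-- part: RC/B/Syl
section
set_option linter.all false
open scoped Cfsg.Agent.FastGrp

/-!
# RC (S4576), box [SYL] (helper32)
-/

set_option autoImplicit false

namespace Cfsg.Agent.RC.B

open Subgroup

theorem syl_key {G Q : Type} [Group G] [Finite G] [Group Q] (π : G →* Q) {l : ℕ} (hl : l.Prime) (P : Sylow l G) {t z : Q}
    (hz : z ^ l = 1) (hd : ∀ d ∈ P, Commute (π d) t ∧ Commute (π d) z) {n : G} (h1 : π n * t * (π n)⁻¹ = t * z)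
    (h2 : Commute (π n) z) : z = 1 := by
  have : Fact l.Prime := ⟨hl⟩
  have e : ∀ g h : G, Commute (π g) z → t⁻¹ * π h * t * (π h)⁻¹ ∈ zpowers z →
      t⁻¹ * π (g * h) * t * (π (g * h))⁻¹ = t⁻¹ * π g * t * (π g)⁻¹ * (t⁻¹ * π h * t * (π h)⁻¹) := fun g h hg ⟨k, hk⟩ => by
    have h3 : π g * (t⁻¹ * π h * t * (π h)⁻¹) = t⁻¹ * π h * t * (π h)⁻¹ * π g := hk ▸ hg.zpow_right k
    calc _ = t⁻¹ * π g * t * (π g)⁻¹ * (π g * (t⁻¹ * π h * t * (π h)⁻¹)) * (π g)⁻¹ := by rw [map_mul]; group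
      _ = _ := by rw [h3]; group
  let N : Subgroup G :=
    { carrier := {g | Commute (π g) z ∧ t⁻¹ * π g * t * (π g)⁻¹ ∈ zpowers z}
      one_mem' := ⟨by simp, by simp⟩
      mul_mem' := fun {g h} hg hh => ⟨map_mul π g h ▸ hg.1.mul_left hh.1, e g h hg.1 hh.2 ▸ mul_mem hg.2 hh.2⟩
      inv_mem' := fun {g} hg => by
        have h3 : Commute (π g⁻¹) z := map_inv π g ▸ hg.1.inv_left
        have h4 := e g⁻¹ g h3 hg.2
        rw [inv_mul_cancel, map_one, mul_one, inv_one, mul_one, inv_mul_cancel] at h4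
        exact ⟨h3, eq_inv_of_mul_eq_one_left h4.symm ▸ inv_mem hg.2⟩ }
  let f : N →* Q := MonoidHom.mk' (fun g => t⁻¹ * π g * t * (π g)⁻¹) fun g h => e g h g.2.1 h.2.2
  have h3 : ∀ d ∈ P, t⁻¹ * π d * t * (π d)⁻¹ = 1 := fun d h => by rw [mul_assoc t⁻¹, (hd d h).1.eq]; group
  have h4 : (P : Subgroup G) ≤ N := fun d h => ⟨(hd d h).2, h3 d h ▸ one_mem _⟩
  have h5 : t⁻¹ * π n * t * (π n)⁻¹ = z := by rw [mul_assoc, mul_assoc, ← mul_assoc (π n), h1, inv_mul_cancel_left]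
  by_contra h0
  refine (P.subtype h4).not_dvd_index (Dvd.dvd.trans ?_ (index_dvd_of_le (K := f.ker) fun d h => h3 d h))
  rw [index_ker, ← orderOf_eq_prime hz h0]
  exact f.range.orderOf_dvd_natCard ⟨⟨n, h2, h5 ▸ mem_zpowers z⟩, h5⟩

theorem boxSyl : BoxSyl := fun l Y _ H D μ y t n z hl _ L hμ ht hn hy e hz h1 h2 => by
  have hzH : z ∈ H := by
    rw [← inv_mul_cancel_left t z, ← e]
    exact mul_mem (inv_mem ht) (mul_mem (mul_mem hn ht) (inv_mem hn))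
  have : (μ.subgroupOf H).Normal := ⟨fun m hm g => by
    rw [show g * m * g⁻¹ = m from Subtype.ext (by
      rw [coe_mul, coe_mul, ← hμ m hm _ g.2, coe_inv, mul_inv_cancel_right])]
    exact hm⟩
  let π := QuotientGroup.mk' (μ.subgroupOf H)
  have hc : ∀ a b : H, (a : Y) * b * a⁻¹ * b⁻¹ ∈ μ → Commute (π a) (π b) := fun a b h => by
    rw [← commutatorElement_eq_one_iff_commute, ← map_commutatorElement]
    exact (QuotientGroup.eq_one_iff _).2 h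
  let C := H ⊓ centralizer {y}
  have hD : D ≤ C := fun d h => ⟨L.le h, mem_centralizer_singleton_iff.2 (L.comm d h)⟩
  have : Finite C := Finite.of_injective _ (inclusion_injective (inf_le_left : C ≤ H))
  exact (QuotientGroup.eq_one_iff (⟨z, hzH⟩ : H)).1 (syl_key (π.comp (inclusion (inf_le_left : C ≤ H))) hl
    ⟨D.subgroupOf C, L.pg.comap_subtype, fun {P} hP h => le_antisymm (fun x hx => L.syl (P.map C.subtype)
      ((map_subtype_le P).trans inf_le_left) (hP.map _) (fun d k => ⟨⟨d, hD k⟩, h k, rfl⟩)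
      (fun x k => mem_centralizer_singleton_iff.1 (map_subtype_le P k).2) ⟨x, hx, rfl⟩) h⟩
    (t := π ⟨t, ht⟩) (z := π ⟨z, hzH⟩) (by rw [← map_pow]; exact (QuotientGroup.eq_one_iff _).2 hz)
    (fun d h => ⟨hc _ _ (h2 d h).1, hc _ _ (h2 d h).2⟩) (n := ⟨n, hn, mem_centralizer_singleton_iff.2 hy⟩)
    (by
      rw [← map_mul π]
      exact ((map_mul π _ _).trans (by rw [map_mul, map_inv]; rfl)).symm.trans (congrArg π (Subtype.ext e :
        (⟨n, hn⟩ * ⟨t, ht⟩ * (⟨n, hn⟩ : H)⁻¹ : H) = _))) (hc _ _ h1))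

end Cfsg.Agent.RC.B
end

-- part: RC/B/LE
section
prune_inst 0x10000000
set_option linter.all false
open scoped Cfsg.Agent.FastGrp

/-!
# RC (S4576): a fixed `3`-element of the torus which acts on a component of type `A₂` (helper31)
-/

set_option autoImplicit false
set_option linter.unusedSectionVars false
set_option maxHeartbeats 400000

namespace Cfsg.Agent.RC.B

open Cfsg Cfsg.Agent.DL Matrix Subgroup Cfsg.Agent.KM.Tor
open Cfsg.Agent.TO.X.Cn (χ_exp χ_pow)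

namespace LE

section lat

variable {R : Type} [Fintype R] [DecidableEq R] {M : Matrix R R ℤ} {α β A B : R → ℤ}
  (aA : α ⬝ᵥ A = 2) (aB : α ⬝ᵥ B = -1) (bA : β ⬝ᵥ A = -1) (bB : β ⬝ᵥ B = 2)
include aA aB bA bB

theorem stab {x₁ y₁ x₂ y₂ c₁ c₂ : ℤ} (h₁ : (x₁ • α + y₁ • β) ᵥ* M = c₁ • α) (h₂ : (x₂ • α + y₂ • β) ᵥ* M = c₂ • β)
    (c1 : c₁ ≠ 0) (c2 : c₂ ≠ 0) {v : R → ℤ} (av : α ⬝ᵥ v = 0) (bv : β ⬝ᵥ v = 0) :
    α ⬝ᵥ (M *ᵥ v) = 0 ∧ β ⬝ᵥ (M *ᵥ v) = 0 := by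
  have k₁ : ∀ x, x₁ * (α ⬝ᵥ (M *ᵥ x)) + y₁ * (β ⬝ᵥ (M *ᵥ x)) = c₁ * (α ⬝ᵥ x) := fun x => by
    have := congrArg (· ⬝ᵥ x) h₁
    simpa only [← dotProduct_mulVec, add_dotProduct, smul_dotProduct, smul_eq_mul] using this
  have k₂ : ∀ x, x₂ * (α ⬝ᵥ (M *ᵥ x)) + y₂ * (β ⬝ᵥ (M *ᵥ x)) = c₂ * (β ⬝ᵥ x) := fun x => by
    have := congrArg (· ⬝ᵥ x) h₂
    simpa only [← dotProduct_mulVec, add_dotProduct, smul_dotProduct, smul_eq_mul] using this
  have hd : x₁ * y₂ - y₁ * x₂ ≠ 0 := fun h => by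
    have e1 := k₁ A
    have e2 := k₁ B
    have e3 := k₂ A
    have e4 := k₂ B
    rw [aA] at e1
    rw [aB] at e2
    rw [bA] at e3
    rw [bB] at e4
    generalize α ⬝ᵥ (M *ᵥ A) = a1 at *
    generalize α ⬝ᵥ (M *ᵥ B) = a2 at *
    generalize β ⬝ᵥ (M *ᵥ A) = b1 at *
    generalize β ⬝ᵥ (M *ᵥ B) = b2 at *
    have e5 : (x₁ * a1 + y₁ * b1) * (x₂ * a2 + y₂ * b2) - (x₁ * a2 + y₁ * b2) * (x₂ * a1 + y₂ * b1) = 0 := by
      linear_combination (a1 * b2 - a2 * b1) * h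
    rw [e1, e2, e3, e4] at e5
    exact mul_ne_zero (three_ne_zero (α := ℤ)) (mul_ne_zero c1 c2) (by linear_combination e5)
  have e1 := k₁ v
  have e2 := k₂ v
  rw [av] at e1
  rw [bv] at e2
  exact ⟨(mul_eq_zero.1 (by linear_combination y₂ * e1 - y₁ * e2)).resolve_left hd,
    (mul_eq_zero.1 (by linear_combination x₁ * e2 - x₂ * e1)).resolve_left hd⟩

theorem lat {s₁ t₁ s₂ t₂ : ℤ} (hA : M *ᵥ A = s₁ • A + t₁ • B) (hB : M *ᵥ B = s₂ • A + t₂ • B) {v r w : R → ℤ}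
    (av : α ⬝ᵥ v = 0) (bv : β ⬝ᵥ v = 0) (av' : α ⬝ᵥ (M *ᵥ v) = 0) (bv' : β ⬝ᵥ (M *ᵥ v) = 0)
    (hr : v = A - B + (3 : ℤ) • r) (hw : M *ᵥ (A - B) = A - B + (3 : ℤ) • w) (hz : ¬ ∀ i, 3 ∣ (A - B) i) :
    ∃ u w' v' : R → ℤ, α ⬝ᵥ v' = 0 ∧ β ⬝ᵥ v' = 0 ∧ M *ᵥ u = u + (3 : ℤ) • w' + v' ∧ ¬ (3 ∣ α ⬝ᵥ u ∧ 3 ∣ β ⬝ᵥ u) := by
  have ar : α ⬝ᵥ r = -1 := by
    rw [hr, dotProduct_add, dotProduct_sub, dotProduct_smul, aA, aB, smul_eq_mul] at av
    omega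
  have br : β ⬝ᵥ r = 1 := by
    rw [hr, dotProduct_add, dotProduct_sub, dotProduct_smul, bA, bB, smul_eq_mul] at bv
    omega
  have aA' : α ⬝ᵥ (M *ᵥ A) = 2 * s₁ - t₁ := by
    rw [hA, dotProduct_add, dotProduct_smul, dotProduct_smul, aA, aB, smul_eq_mul, smul_eq_mul]
    ring
  have bA' : β ⬝ᵥ (M *ᵥ A) = 2 * t₁ - s₁ := by
    rw [hA, dotProduct_add, dotProduct_smul, dotProduct_smul, bA, bB, smul_eq_mul, smul_eq_mul]
    ring
  have aB' : α ⬝ᵥ (M *ᵥ B) = 2 * s₂ - t₂ := by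
    rw [hB, dotProduct_add, dotProduct_smul, dotProduct_smul, aA, aB, smul_eq_mul, smul_eq_mul]
    ring
  have bB' : β ⬝ᵥ (M *ᵥ B) = 2 * t₂ - s₂ := by
    rw [hB, dotProduct_add, dotProduct_smul, dotProduct_smul, bA, bB, smul_eq_mul, smul_eq_mul]
    ring
  have e1 := congrArg (α ⬝ᵥ ·) hw
  simp only [mulVec_sub, dotProduct_add, dotProduct_sub, dotProduct_smul, aA, aB, aA', aB', smul_eq_mul] at e1
  have e2 : 3 ∣ s₁ - s₂ - 1 := by
    obtain ⟨i, hi⟩ := not_forall.1 hz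
    have e2 := congrFun hw i
    rw [mulVec_sub, hA, hB] at e2
    simp only [Pi.add_apply, Pi.sub_apply, Pi.smul_apply, smul_eq_mul] at e2 hi
    refine (Int.prime_three.dvd_mul.1 ⟨w i - (s₁ - s₂ - 1 - α ⬝ᵥ w) * B i, ?_⟩).resolve_right hi
    linear_combination e2 + B i * e1
  rw [hr, mulVec_add, mulVec_sub, mulVec_smul, dotProduct_add, dotProduct_sub, dotProduct_smul, smul_eq_mul] at av' bv'
  rw [aA', aB'] at av'
  rw [bA', bB'] at bv'
  obtain ⟨i, j, c, c', h1, h2, h3⟩ : ∃ i j c c' : ℤ, ¬ (3 ∣ i ∧ 3 ∣ j) ∧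
      i * (2 * s₁ - t₁ + α ⬝ᵥ (M *ᵥ r) - 1) + j * (2 * s₂ - t₂ - α ⬝ᵥ (M *ᵥ r)) = 3 * c ∧
      i * (2 * t₁ - s₁ + β ⬝ᵥ (M *ᵥ r)) + j * (2 * t₂ - s₂ - β ⬝ᵥ (M *ᵥ r) - 1) = 3 * c' := by
    obtain ⟨d₁, k1⟩ : 3 ∣ (2 * t₁ - s₁ + β ⬝ᵥ (M *ᵥ r)) - (2 * s₁ - t₁ + α ⬝ᵥ (M *ᵥ r) - 1) := by (clear * - av' bv' e2; omega)
    obtain ⟨d₂, k2⟩ : 3 ∣ (2 * t₂ - s₂ - β ⬝ᵥ (M *ᵥ r) - 1) - (2 * s₂ - t₂ - α ⬝ᵥ (M *ᵥ r)) := by (clear * - k1; omega)
    generalize 2 * s₁ - t₁ + α ⬝ᵥ (M *ᵥ r) - 1 = m₁ at *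
    generalize 2 * s₂ - t₂ - α ⬝ᵥ (M *ᵥ r) = m₂ at *
    by_cases h : 3 ∣ m₁ ∧ 3 ∣ m₂
    · obtain ⟨⟨c, rfl⟩, -⟩ := h
      exact ⟨1, 0, c, c + d₁, by omega, by ring, by linear_combination k1⟩
    · exact ⟨m₂, -m₁, 0, m₂ * d₁ - m₁ * d₂, fun e => h ⟨(dvd_neg.1 e.2), e.1⟩, by ring,
        by linear_combination m₂ * k1 - m₁ * k2⟩
  refine ⟨i • (A + r) + j • (B - r), c • (A + r) + c' • (B - r),
    M *ᵥ (i • (A + r) + j • (B - r)) - (i • (A + r) + j • (B - r) + (3 : ℤ) • (c • (A + r) + c' • (B - r))), ?_, ?_,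
    (add_sub_cancel _ _).symm, ?_⟩
  · simp only [mulVec_add, mulVec_sub, mulVec_smul, dotProduct_add, dotProduct_sub, dotProduct_smul, aA, aB, ar, aA', aB',
      smul_eq_mul]
    linear_combination h2
  · simp only [mulVec_add, mulVec_sub, mulVec_smul, dotProduct_add, dotProduct_sub, dotProduct_smul, bA, bB, br, bA', bB',
      smul_eq_mul]
    linear_combination h3
  · simp only [dotProduct_add, dotProduct_sub, dotProduct_smul, aA, aB, ar, bA, bB, br, smul_eq_mul]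
    omega

end lat

variable {p : ℕ} [Fact p.Prime] {k : Type} [Field k] [CharP k p] {Y : Type} [Group Y] {N : Type} [Fintype N]
  [DecidableEq N] {ρ : Y →* GL N k} {F : MulAut Y} {G : Subgroup Y} [IsAlgClosed k] {X : Datum p ρ F G}

theorem wt_cor {a : X.I → ℤ} (ha : X.Rt a) : X.wt a ⬝ᵥ X.cor a = 2 :=
  (X.pair_cor ha a).trans (Nodes.Coroot.cpr_self _ _ ha)

theorem rt_add {a b : X.I → ℤ} (ha : X.Rt a) (hb : X.Rt b) (h1 : X.wt a ⬝ᵥ X.cor b = -1) (h2 : X.wt b ⬝ᵥ X.cor a = -1) :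
    X.Rt (a + b) ∧ X.cor (a + b) = X.cor a + X.cor b := by
  have h3 := X.cor_act (X.rf a) hb
  have h4 : X.Rt (X.act (X.rf a) b) := hb.act (X.rf a)
  rw [X.act_rf ha, (X.pair_cor ha b).symm.trans h2] at h3 h4
  rw [X.Wm_rf ha, sub_mulVec, one_mulVec, vecMulVec_mulVec, h1] at h3
  exact ⟨by simpa [add_comm] using h4, by simpa [add_comm] using h3⟩

theorem coef {a b c : X.I → ℤ} (ha : X.Rt a) (hb : X.Rt b) (h1 : X.wt a ⬝ᵥ X.cor b = -1) (h2 : X.wt b ⬝ᵥ X.cor a = -1)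
    (hc : c ∈ A2 X a b) : ∃ x y : ℤ, X.wt c = x • X.wt a + y • X.wt b ∧ X.cor c = x • X.cor a + y • X.cor b := by
  obtain ⟨h3, h4⟩ := rt_add ha hb h1 h2
  rcases hc with rfl | rfl | rfl | rfl | rfl | rfl
  · exact ⟨1, 0, by simp, by simp⟩
  · exact ⟨0, 1, by simp, by simp⟩
  · exact ⟨1, 1, by simp only [_root_.map_add, _root_.one_smul], by simp [h4]⟩
  · exact ⟨-1, 0, by simp only [_root_.map_neg, _root_.Int.reduceNeg, _root_.neg_smul, _root_.one_smul, _root_.zero_smul, _root_.add_zero], by simp [X.cor_neg ha]⟩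
  · exact ⟨0, -1, by simp only [_root_.map_neg, _root_.zero_smul, _root_.Int.reduceNeg, _root_.neg_smul, _root_.one_smul, _root_.zero_add], by simp [X.cor_neg hb]⟩
  · exact ⟨-1, -1, by simp only [add_comm, _root_.neg_add_rev, _root_.map_add, _root_.map_neg, _root_.Int.reduceNeg, _root_.neg_smul, _root_.one_smul], by rw [X.cor_neg h3, h4]; simp [add_comm]⟩

/-- Lang's theorem for a stable set of cocharacters -/
theorem lang {P : AddSubgroup (X.R → ℤ)} (hP : ∀ v ∈ P, X.Mx *ᵥ v ∈ P) {v : X.R → ℤ} (hv : v ∈ P) (ω : kˣ) :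
    ∃ v' ∈ P, ∃ ξ : kˣ, F (X.τ (coch v' ξ)) = X.τ (coch v' ξ) * X.τ (coch v ω) := by
  obtain ⟨d, e, L⟩ := PP.exists_lvl X
  have h1 := L.pow 1
  rw [X.Wm_one, one_mul] at h1
  have h2 : 1 < (p : ℤ) ^ e := one_lt_pow₀ (by exact_mod_cast (Fact.out : p.Prime).one_lt) L.e_pos.ne'
  obtain ⟨ξ, hξ⟩ := exists_zpow_eq (n := (p : ℤ) ^ e - 1) (by omega) ω
  have h3 : ∀ i : ℕ, X.Mx ^ i *ᵥ v ∈ P := fun i => by
    induction i with
    | zero => rwa [pow_zero, one_mulVec]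
    | succ i ih => rw [pow_succ', ← mulVec_mulVec]; exact hP _ ih
  refine ⟨(∑ i ∈ Finset.range d, X.Mx ^ i) *ᵥ v, by rw [sum_mulVec]; exact sum_mem fun i _ => h3 i, ξ, ?_⟩
  rw [X.F_τ, mon_coch, ← map_mul, ← hξ, ← coch_zsmul, ← coch_add, mulVec_mulVec]
  have h4 := mul_geom_sum X.Mx d
  rw [sub_mul, one_mul, sub_eq_iff_eq_add', h1] at h4
  rw [h4, add_mulVec, sub_mulVec, smul_mulVec, one_mulVec, sub_smul, one_smul]

end LE

open LE in
theorem boxLE : BoxLE := by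
  intro p _ k _ _ Y _ N _ _ ρ F G _ X a b ω _ ha hb h1 h2 ga gb hω hF hz ⟨v, hv, hr⟩
  have hp : ∀ n : ℕ, (p : ℤ) ^ n ≠ 0 := fun n => pow_ne_zero _ (by exact_mod_cast (Fact.out : p.Prime).ne_zero)
  obtain ⟨x₁, y₁, k1, k2⟩ := coef ha hb h1 h2 ga
  obtain ⟨x₂, y₂, k3, k4⟩ := coef ha hb h1 h2 gb
  have k5 := X.wt_g ha
  have k6 := X.wt_g hb
  have k7 := X.Mx_cor ha
  have k8 := X.Mx_cor hb
  rw [k1] at k5
  rw [k3] at k6
  rw [k2, smul_add, smul_smul, smul_smul] at k7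
  rw [k4, smul_add, smul_smul, smul_smul] at k8
  have st := fun (v : X.R → ℤ) => stab (v := v) (wt_cor ha) h1 h2 (wt_cor hb) k5 k6 (hp _) (hp _)
  have av := hv a (by simp only [A2, _root_.neg_add_rev, _root_.Set.mem_insert_iff, _root_.left_eq_add, _root_.Set.mem_singleton_iff, _root_.true_or])
  have bv := hv b (by simp only [A2, _root_.neg_add_rev, _root_.Set.mem_insert_iff, _root_.right_eq_add, _root_.Set.mem_singleton_iff, _root_.true_or, _root_.or_true])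
  choose r hr using hr
  have h3 : ∀ i, (3 : ℤ) ∣ (X.Mx *ᵥ (X.cor a - X.cor b)) i - (X.cor a - X.cor b) i := fun i => by
    rw [zc, X.F_τ, mon_coch] at hF
    have h3 := congrFun (X.τ_inj hF) i
    rw [coch_apply, coch_apply, ← mul_inv_eq_one, ← _root_.zpow_sub, ← orderOf_dvd_iff_zpow_eq_one, hω] at h3
    exact h3
  choose w hw using h3
  obtain ⟨u, w', v', l1, l2, l3, l4⟩ := lat (r := r) (w := w) (wt_cor ha) h1 h2 (wt_cor hb) k7 k8 av bv (st v av bv).1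
    (st v av bv).2 (funext fun i => eq_add_of_sub_eq' (hr i)) (funext fun i => eq_add_of_sub_eq' (hw i)) fun h => hz (by
      rw [zc, ← map_one X.τ]
      refine congrArg X.τ (funext fun i => ?_)
      rw [coch_apply, Pi.one_apply, ← orderOf_dvd_iff_zpow_eq_one, hω]
      exact h i)
  let P : AddSubgroup (X.R → ℤ) :=
    { carrier := {v | X.wt a ⬝ᵥ v = 0 ∧ X.wt b ⬝ᵥ v = 0}
      zero_mem' := ⟨dotProduct_zero _, dotProduct_zero _⟩
      add_mem' := fun h h' => ⟨by rw [dotProduct_add, h.1, h'.1, add_zero], by rw [dotProduct_add, h.2, h'.2, add_zero]⟩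
      neg_mem' := fun h => ⟨by rw [dotProduct_neg, h.1, neg_zero], by rw [dotProduct_neg, h.2, neg_zero]⟩ }
  obtain ⟨v'', l5, ξ, l6⟩ := lang (P := P) (fun v h => st v h.1 h.2) (v := v') ⟨l1, l2⟩ ω
  have l7 : F (X.τ (coch u ω)) = X.τ (coch u ω) * X.τ (coch v' ω) := by
    rw [X.F_τ, mon_coch, l3, coch_add, coch_add, coch_zsmul, show ω ^ (3 : ℤ) = 1 by
      rw [← orderOf_dvd_iff_zpow_eq_one, hω]; rfl, map_one, mul_one, map_mul]
  obtain ⟨t, ht⟩ : ∃ t, t = X.τ (coch u ω) * (X.τ (coch v'' ξ))⁻¹ := ⟨_, rfl⟩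
  have t1 : t ∈ X.T := ht ▸ mul_mem (X.τ_mem _) (inv_mem (X.τ_mem _))
  have t2 : F t = t := by
    rw [ht, map_mul, map_inv, l6, l7, ← map_mul, ← map_mul, ← map_inv, ← map_inv, ← map_mul, ← map_mul,
      mul_inv, mul_mul_mul_comm, mul_inv_cancel, mul_one]
  have t3 : ∀ c, X.wt c ⬝ᵥ v'' = 0 → X.χ c t = X.χ c (X.τ (coch u ω)) := fun c h => by
    rw [ht, X.χ_mul c (X.τ_mem _) (inv_mem (X.τ_mem _)), X.χ_inv c (X.τ_mem _),
      (χ_exp X c v'' ξ).2 (by rw [h]; exact dvd_zero _), inv_one, mul_one]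
  obtain ⟨j, n, hn, ho⟩ := Nat.exists_eq_pow_mul_and_not_dvd (X.amb.isOfFinOrder t).orderOf_pos.ne' 3 (by decide)
  have t4 : ∀ c, X.wt c ⬝ᵥ v'' = 0 → X.χ c (t ^ n) = 1 → 3 ∣ X.wt c ⬝ᵥ u := fun c h h' => by
    rw [χ_pow X c t1, t3 c h, ← χ_pow X c (X.τ_mem _), ← map_pow, ← map_pow, ← zpow_natCast, ← coch_zsmul, χ_exp, hω,
      dotProduct_smul, smul_eq_mul] at h'
    exact (Int.prime_three.dvd_mul.1 h').resolve_left fun e => hn (Int.natCast_dvd_natCast.1 e)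
  refine ⟨t ^ n, pow_mem t1 n, by rw [map_pow, t2], ?_, fun h => l4
    ⟨t4 a l5.1 (h.2 a (by simp only [A2, _root_.neg_add_rev, _root_.Set.mem_insert_iff, _root_.left_eq_add, _root_.Set.mem_singleton_iff, _root_.true_or])), t4 b l5.2 (h.2 b (by simp only [A2, _root_.neg_add_rev, _root_.Set.mem_insert_iff, _root_.right_eq_add, _root_.Set.mem_singleton_iff, _root_.true_or, _root_.or_true]))⟩⟩
  rintro _ rfl
  exact ⟨j, by rw [← pow_mul, mul_comm, ← ho, pow_orderOf_eq_one]⟩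

end Cfsg.Agent.RC.B

private theorem dce_e2e38c58e923 : _root_.True := by
  try have : _root_.True := by simp only [_root_.Cfsg.Agent.RC.B.zc.eq_1]
  exact _root_.True.intro
end

-- part: RC/B/NfC
section
set_option linter.all false
open scoped Cfsg.Agent.FastGrp

/-!
# RC (S4576): isolated elements, the finite checks (helper12)
-/

set_option autoImplicit false
set_option maxRecDepth 100000

namespace Cfsg.Agent.RC.B.Nf

open Cfsg Cfsg.Lie Matrix Finset Cfsg.Agent.KM.Tor Cfsg.Agent.Nodes.RGDChev Cfsg.Agent.Tits.Roots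
  Cfsg.Agent.ChevalleyStructure.CoxeterGeomTypes

/-- the rows of `B` are a base of type `C'` of the Levi closure (up to a component `A₁`) -/
def Ck (C : ChevalleyDatum) (n : ℕ) (s : Finset (Fin n)) (C' : ChevalleyDatum) (r : ℕ) (i₀ : Fin r)
    (B : Matrix (Fin r) (Fin n) ℤ) : Prop :=
  (∀ i j, B i ⬝ᵥ co C n (B j) = cartanOf C' r j i) ∧
  (∀ t' : Fin C'.nroots, ∃ t : Fin C.nroots, vec C n t = vec C' r t' ᵥ* B ∧ LS C n s (vec C n t) ∧
    (RS C n s (vec C n t) ↔ 3 ∣ vec C' r t' i₀)) ∧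
  ∀ t : Fin C.nroots, LS C n s (vec C n t) → (∃ t' : Fin C'.nroots, vec C n t = vec C' r t' ᵥ* B) ∨
    (RS C n s (vec C n t) ∧ (∀ i, vec C n t ⬝ᵥ co C n (B i) = 0) ∧
      ∀ t₁ : Fin C.nroots, LS C n s (vec C n t₁) → vec C n t ⬝ᵥ co C n (vec C n t₁) ≠ -1)

instance Ck.dec (C : ChevalleyDatum) (n : ℕ) (s : Finset (Fin n)) (C' : ChevalleyDatum) (r : ℕ) (i₀ : Fin r)
    (B : Matrix (Fin r) (Fin n) ℤ) : Decidable (Ck C n s C' r i₀ B) := by unfold Ck; infer_instance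

/-- no component `A₁` -/
def Nb (C : ChevalleyDatum) (n : ℕ) : Prop := ∀ s : Fin C.nroots, ∃ t : Fin C.nroots, vec C n s ⬝ᵥ co C n (vec C n t) = -1

instance Nb.dec (C : ChevalleyDatum) (n : ℕ) : Decidable (Nb C n) := by unfold Nb; infer_instance

/-- entry `t` of a packed table, as an index -/
private def wi (m : ℕ) (h : 0 < m) (T : ℕ) (t : ℕ) : Fin m := ⟨T >>> (8 * t) % 256 % m, Nat.mod_lt _ h⟩

private theorem nb_of {C : ChevalleyDatum} {n : ℕ} (h : 0 < C.nroots) (T : ℕ)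
    (H : ∀ s : Fin C.nroots, vec C n s ⬝ᵥ co C n (vec C n (wi _ h T s)) = -1) : Nb C n := fun s => ⟨_, H s⟩

private theorem ck_of {C : ChevalleyDatum} {n : ℕ} {s : Finset (Fin n)} {C' : ChevalleyDatum} {r : ℕ} {i₀ : Fin r}
    {B : Matrix (Fin r) (Fin n) ℤ} (h : 0 < C.nroots) (h' : 0 < C'.nroots) (F G : ℕ)
    (h1 : (∀ i j, B i ⬝ᵥ co C n (B j) = cartanOf C' r j i) ∧ ∀ (t' : Fin C'.nroots) j, vec C n (wi _ h F t') j = (vec C' r t' ᵥ* B) j)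
    (h2 : ∀ t' : Fin C'.nroots, LS C n s (vec C n (wi _ h F t')) ∧ (RS C n s (vec C n (wi _ h F t')) ↔ 3 ∣ vec C' r t' i₀))
    (h3 : ∀ t : Fin C.nroots, (wi _ h F (wi _ h' G t)).1 = t.1 ∨ (LS C n s (vec C n t) →
      (RS C n s (vec C n t) ∧ (∀ i, vec C n t ⬝ᵥ co C n (B i) = 0) ∧
      ∀ t₁ : Fin C.nroots, LS C n s (vec C n t₁) → vec C n t ⬝ᵥ co C n (vec C n t₁) ≠ -1))) : Ck C n s C' r i₀ B :=
  ⟨h1.1, fun t' => ⟨_, funext (h1.2 t'), h2 t'⟩, fun t ht => (h3 t).imp (fun e => ⟨_, e ▸ funext (h1.2 _)⟩) fun e => e ht⟩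

theorem nb6 : Nb chevE6 6 := nb_of (by decide +kernel)
  0x10000000000000000000001010102050000000000000000000001010102010101020203040304020304050506070102030405060708090a1010101112101112131415161718192e
  (by decide +kernel)

theorem nb7 : Nb chevE7 7 := nb_of (by decide +kernel)
  0x10000000000000000000000000000000000000000000000000000000000000000010101010101010101010202020203010101010102020202030303040405060506040506030405060203040506070708090a0708090a0b0c0d0e0f100102030405060708090a0b0c0d0e0f101112131415161718191a1b1c1d1e1f205d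
  (by decide +kernel)

theorem nb8 : Nb chevE8 8 := nb_of (by decide +kernel)
  0x100000000000000000000000001000000000000010000000001000000010000010001020000000100000100010200000100010200010203000001000102000102030001020304000102030405060000010001020001020300010203040001020304050001020304050001020304000102030001020001000102020303030404040405050505050606060606060707070707070808080808090909090a0a0a0b0b0c0e0e0e0e0e0e0e0f0f0f0f0f10101010111111121213151515151616161717181a1a1a1b1b1c1e1e1f212424242525262828292b2e2e2f31343838393b3e42474e4e4f5154585d63696e72757778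
  (by decide +kernel)

theorem ck_one {C : ChevalleyDatum} {n : ℕ} {i : Fin n} (h1 : ∀ i j, sr i ⬝ᵥ co C n (sr j) = cartanOf C n j i)
    (h2 : ∀ t : Fin C.nroots, RS C n {i} (vec C n t) ↔ 3 ∣ vec C n t i) : Ck C n {i} C n i 1 := by
  have e : ∀ i : Fin n, (1 : Matrix (Fin n) (Fin n) ℤ) i = sr i := fun i => funext fun j => by
    by_cases h : i = j
    · rw [h, one_apply_eq, sr_self]
    · rw [one_apply_ne h, sr_ne (Ne.symm h)]
  refine ⟨fun i j => by rw [e, e, h1], fun t => ⟨t, (vecMul_one _).symm, fun a ha b hb => ?_, h2 t⟩,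
    fun t _ => .inl ⟨t, (vecMul_one _).symm⟩⟩
  rw [mem_singleton.1 ha, mem_singleton.1 hb]

theorem ck6 : Ck chevE6 6 {3} chevE6 6 3 1 := ck_one (by decide +kernel) (by decide +kernel)

theorem ck7a : Ck chevE7 7 {4} chevE7 7 4 1 := ck_one (by decide +kernel) (by decide +kernel)

theorem ck8a : Ck chevE8 8 {1} chevE8 8 1 1 := ck_one (by decide +kernel) (by decide +kernel)

theorem ck8e : Ck chevE8 8 {6} chevE8 8 6 1 := ck_one (by decide +kernel) (by decide +kernel)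

theorem ck7b : Ck chevE7 7 {2} chevE7 7 4 !![0, -1, 0, 0, 0, 0, 0; 0, 0, 0, 0, -1, 0, 0; 0, 0, 0, -1, -1, -1, 0;
    0, 0, 0, 0, 1, 1, 0; 0, 1, 1, 2, 1, 0, 0; 1, 0, 0, 0, 0, 0, 0; -2, -2, -3, -4, -3, -2, -1] :=
  ck_of (by decide +kernel) (by decide +kernel)
  0x2b353e3922126e3c24147021116d025e4927177305614c035f4a2d04604b2e2c2f301b77096555076353370c6858403b08645438360e6a5a430b6757015d007d207c2616723a23136f4745291975423d251571462a1a7628187406624d4e514f321d7950331e7a311c780a6656341f7b106c5c0d6959410f6b5b443f4852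
  0x3e3c0e171b145a2730246a392b733577700c054709514312584c55226861656e400b044608504211574b54001f1a1e20216760646d01342a3303452f074f027b2e764e387a4a53497c10191d165c5d5f635e7d2932266c3b2d753779723d0f181c155b2831256b3a2c743678710d06480a524413594d56236962666f413f
  (by decide +kernel) (by decide +kernel) (by decide +kernel)

theorem ck7c : Ck chevE7 7 {2, 4} chevE6 6 3 !![-1, 0, 0, 0, 0, 0, 0; 0, -1, 0, 0, 0, 0, 0; -1, -2, -3, -4, -3, -2, -1;
    1, 2, 2, 3, 2, 1, 0; 0, 0, 0, 0, 0, 0, 1; 0, 0, 0, 0, 0, 1, 0] :=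
  ck_of (by decide +kernel) (by decide +kernel)
  0x454f0d0c0b5958571918171d1c1b00206968672928277574732f32313001797877413f403d3e3c0605047c4d4c4b4e0a09085655541615145d7d6261606665642625247271702e38
  0xe1d00002928270031302f0403020000000000003736350a0908000d0c0b00000f0000004241401514130000000046191c1b1a0000000000470000002624252223210000000000000000002d2c2b2e01000000003433320706050000003800003c3b3a003f3e3d12111000000000000045444318171600201f1e00002a39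
  (by decide +kernel) (by decide +kernel) (by decide +kernel)

theorem ck8b : Ck chevE8 8 {1, 3} chevE7 7 4 !![0, 0, 0, 0, -1, 0, 0, 0; 0, 0, 0, 0, 0, 0, -1, 0; 0, 0, 0, 0, 0, -1, -1, -1;
    0, 0, 0, 0, 0, 0, 1, 1; 0, 1, 1, 2, 2, 2, 1, 0; 1, 0, 0, 0, 0, 0, 0, 0; 0, 0, 1, 0, 0, 0, 0, 0] :=
  ck_of (by decide +kernel) (by decide +kernel)
  0xebecefede3dcd7eee4ddd8e2dbd6b8ae98e5ded9bbb19bb9af996fbab09a706e71e6dfdabeb49ebcb29c73c0b6a07876bdb39d7472c1b7a17abfb59fa3a287684d4c503a30754e382e7d7b523c3279774f392f7c533d33513b311510097e817f553f3580564036543e3416110a57413719140d17120b0118130c02000304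
  0x7b767a7c7d000000005c6c75797200005b6b7478715a6a7377700000000000000000000000000000000000000000485244594d566962666f475143584c556861656e000000000000000000004140465042574b546760646d000000000000000000000000000000003f00000000001f1a1e20342a33452f4f2e4e384a53495d5f635e00000000003e0000000000000000000000000000000010191d162932263b2d373d3c000000000000000000000f181c152831253a2c360e171b14273024392b3500000000000000000000000000000000000000000d060a13230c0509122200000b04081121000000000001030702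
  (by decide +kernel) (by decide +kernel) (by decide +kernel)

theorem ck8c : Ck chevE8 8 {1, 6} chevE7 7 4 !![-1, 0, 0, 0, 0, 0, 0, 0; 0, 0, 0, -1, 0, 0, 0, 0; 0, 0, -1, -1, -1, 0, 0, 0;
    0, 0, 0, 1, 1, 0, 0, 0; 1, 1, 2, 2, 1, 1, 1, 0; 0, 0, 0, 0, 0, 0, 0, 1; -2, -3, -4, -6, -5, -4, -3, -2] :=
  ck_of (by decide +kernel) (by decide +kernel)
  0x4965746b2a29d470302fd82726d10792913a39dd0a9e9d0897964b099b9a4c4a4d504fe411b4b30fadac6716bebd7e6d10b1b068661ac4c38315bbba017800ef77ee3534da6c2c2bd589873f3edf82713231d9884342e03c3bde0ba09fa2a5a35554e6a45958e75251e512b6b55e5de81ec9c817c0bf7f1bc6c5847b8aa6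
  0x3e3c00000000000e171b145a0000002730246a0000392b7300003577000070000000000000000c0b000504474600000908515000434200000012115857004c4b000055540000000000001f1a1e200022216867006160000065640000006e6d00000000000001342a33000003452f0000074f0000020000403d00007b00002e7600004e387a00004a53497c000000000000100f000000191800001d1c0016155c5b005d5f635e7d00000000002928000032310026256c6b0000003b3a002d2c7574000037367978007271000000000000000d0000064800000a5244000013594d56000000236962666f0000000000413f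
  (by decide +kernel) (by decide +kernel) (by decide +kernel)

theorem ck8d : Ck chevE8 8 {3, 6} chevE6 6 3 !![-1, 0, 0, 0, 0, 0, 0, 0; 0, 0, 0, 0, -1, 0, 0, 0; 0, 0, -1, 0, 0, 0, 0, 0;
    1, 1, 2, 2, 2, 1, 1, 0; 0, 0, 0, 0, 0, 0, 0, 1; -2, -3, -4, -6, -5, -4, -3, -2] :=
  ck_of (by decide +kernel) (by decide +kernel)
  0x7074302fd83a39dd099b9a0a9e9d4c4d504fe410b1b015bbba7111b4b36816bebd017800ef77ee3231d9873c3bde7e3534da3f3edf0ba09fa2a35251e55554e612b6b517c0bf7b7f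
  0x232100000000000000080b3500000000131a400000161e4300000000000000000000000000000000000000000000000302282700302f00000006052c2b0033320000000000000000000000000e0f0011103b3a003e3d0000000000000000000000000000000000001d0000000000000000190000010000252200004600002e47000000000000002a0000000000000000000000000000000000000a09000d0c37360038390000000000000000000000001514001c1b4241000000181700201f454400000000000000000000000000000000000000000000000429310000072d3400000000123c3f000000000000002624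
  (by decide +kernel) (by decide +kernel) (by decide +kernel)

theorem ck8f : Ck chevE8 8 {1, 3, 6} chevE6 6 3 !![-1, 0, 0, 0, 0, 0, 0, 0; 0, 0, 0, 0, -1, 0, 0, 0; 0, 0, -1, 0, 0, 0, 0, 0;
    1, 1, 2, 2, 2, 1, 1, 0; 0, 0, 0, 0, 0, 0, 0, 1; -2, -3, -4, -6, -5, -4, -3, -2] :=
  ck_of (by decide +kernel) (by decide +kernel)
  0x7074302fd83a39dd099b9a0a9e9d4c4d504fe410b1b015bbba7111b4b36816bebd017800ef77ee3231d9873c3bde7e3534da3f3edf0ba09fa2a35251e55554e612b6b517c0bf7b7f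
  0x232100000000000000080b3500000000131a400000161e4300000000000000000000000000000000000000000000000302282700302f00000006052c2b0033320000000000000000000000000e0f0011103b3a003e3d0000000000000000000000000000000000001d0000000000000000190000010000252200004600002e47000000000000002a0000000000000000000000000000000000000a09000d0c37360038390000000000000000000000001514001c1b4241000000181700201f454400000000000000000000000000000000000000000000000429310000072d3400000000123c3f000000000000002624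
  (by decide +kernel) (by decide +kernel) (by decide +kernel)

theorem supp6 : ∀ s : Finset (Fin 6), s.Nonempty → (∀ i ∈ s, ((3 : ℕ) : ℤ) ∣ H931.KC.hr chevE6 6 i) → s = {3} := by
  decide +kernel

theorem supp7 : ∀ s : Finset (Fin 7), s.Nonempty → (∀ i ∈ s, ((3 : ℕ) : ℤ) ∣ H931.KC.hr chevE7 7 i) →
    s = {4} ∨ s = {2} ∨ s = {2, 4} := by
  decide +kernel

end Cfsg.Agent.RC.B.Nf
end

-- part: RC/B/Nf
section
set_option linter.all false
open scoped Cfsg.Agent.FastGrp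

/-!
# RC (S4576): the normal form of the isolated elements (helper12)

`nf` : an isolated element `u` of the Levi subgroup `cen S` is the coordinate `i₀` modulo three of a subsystem of type `E₆`,
`E₇`, `E₈` in its standard coordinates (`Emb`).
-/

set_option autoImplicit false
set_option linter.unusedSectionVars false

namespace Cfsg.Agent.RC.B

open Cfsg Cfsg.Lie Cfsg.Agent.DL Cfsg.Agent.Nodes.Reps Matrix Cfsg.Agent.KM.Ht Cfsg.Agent.KM.Tor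
open Cfsg.Agent.KZ.DatX Cfsg.Agent.Nodes.RGDChev Cfsg.Agent.Nodes.Coroot Cfsg.Agent.ChevalleyStructure.NPerm
  Cfsg.Agent.ChevalleyStructure.CoxeterGeom Cfsg.Agent.ChevalleyStructure.CoxeterGeomTypes Cfsg.Agent.Tits.Roots
open Cfsg.Agent.TO.X.Cn (PM exists_exp χ_exp χ_pow pm_E6 pm_E7 pm_E8)
open Cfsg.Agent.H931.KC (hr)
open Cfsg.Agent.KM.Ex (sr_dot dot_one)

variable {p : ℕ} [Fact p.Prime] {k : Type} [Field k] [CharP k p] {Y : Type} [Group Y] {N : Type} [Fintype N]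
  [DecidableEq N] {ρ : Y →* GL N k} {F : MulAut Y} {G : Subgroup Y} [IsAlgClosed k] (X : Datum p ρ F G)

/-- the roots of `Ψ` outside the components of type `A₁` -/
def Bg (Ψ : Set (X.I → ℤ)) : Set (X.I → ℤ) := {c | c ∈ Ψ ∧ ∃ b ∈ Ψ, X.wt c ⬝ᵥ X.cor b = -1}

/-- standard coordinates of `Bg X Ψ` in which `u` is the coordinate `i₀` modulo three -/
structure Emb (Ψ : Set (X.I → ℤ)) (u : Y) (C : ChevalleyDatum) (r : ℕ) (i₀ : Fin r) (j : (Fin r → ℤ) →+ (X.I → ℤ)) :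
    Prop where
  inj : Function.Injective j
  big : ∀ c, c ∈ Bg X Ψ ↔ ∃ s : Fin C.nroots, j (vec C r s) = c
  pr : ∀ a (s : Fin C.nroots), X.wt (j a) ⬝ᵥ X.cor (j (vec C r s)) = a ⬝ᵥ co C r (vec C r s)
  oth : ∀ c ∈ Ψ, c ∉ Bg X Ψ → X.χ c u = 1 ∧ ∀ s : Fin C.nroots, X.wt c ⬝ᵥ X.cor (j (vec C r s)) = 0
  ker : ∀ s : Fin C.nroots, X.χ (j (vec C r s)) u = 1 ↔ 3 ∣ vec C r s i₀

variable {X} {S : Subgroup Y} {u : Y}

namespace Nf

variable {C : ChevalleyDatum} {n : ℕ} {M : CoxeterMatrix (Fin n)} {hp : IsType C n M} {Mx : Matrix (Fin n) (Fin n) ℤ}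
  {X₀ : XF hp p k Mx} {j : Fin n}

/-- Kac coordinates of an isolated element -/
theorem kac (K : Kit X X₀) (H : Ok X C n j) (h3 : 3 ≠ p) (hS : Z0 X S = S) (hu : u ∈ X.T) (he : El 3 {u}) (hI : Iso X S u)
    (hn : u ∉ Zc X (X.Sz S)) : ∃ (K' : Kit X X₀) (s : Finset (Fin n)) (c : Fin n → ℤ) (i : ℕ), s.Nonempty ∧
      (∀ i ∈ s, ((3 : ℕ) : ℤ) ∣ hr C n i) ∧ (∀ i, i ∉ s → c i = 0) ∧ hr C n ⬝ᵥ c = 3 ^ i ∧
      (∀ a, a ∈ X.Sz (insert u (S : Set Y)) ↔ X.Rt a ∧ RS C n s (K'.e a)) ∧ (∀ a, a ∈ X.Sz S ↔ X.Rt a ∧ LS C n s (K'.e a)) ∧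
      ∀ i ∈ s, hr C n i = 3 → u ^ 3 ∈ Zc X (X.Sz S) := by
  obtain ⟨i, hi⟩ := he u rfl
  obtain ⟨s₀, a1, ⟨i', a2⟩, a3⟩ := exists_s Nat.prime_three h3 hS hu hi
  obtain ⟨ζ, v, b1, b2, b3⟩ := exists_exp X (mul_mem hu (Z0_le_T X _ a1))
  obtain ⟨i₁, -, b4⟩ := (Nat.dvd_prime_pow Nat.prime_three).1 (b2.trans (orderOf_dvd_of_pow_eq_one a2))
  have c0 : ∀ a ∈ X.Sz S, X.χ a u = X.χ a (X.τ (coch v ζ)) := fun a ha => by
    rw [← b3, X.χ_mul a hu (Z0_le_T X _ a1), ha.2 s₀ (hS.le a1), mul_one]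
  have c1 : ∀ a, a ∈ X.Sz (insert u (S : Set Y)) ↔ K.e a ∈ Rn X₀.D (orderOf ζ) (K.φ v) := fun a => by
    rw [← a3, b3, Sz_exp]
    exact and_congr (K.rt a) (by rw [K.dot]; rfl)
  have c2 : ∀ a, a ∈ X.Sz S ↔ K.e a ∈ Cl X₀.D (Rn X₀.D (orderOf ζ) (K.φ v)) := fun a => by
    refine ⟨fun ha => ⟨(K.rt a).1 ha.1, fun (v₀ : Fin n → ℤ) h0 => ?_⟩, fun ha => ?_⟩
    · obtain ⟨f, hf, hP⟩ := H.pm
      obtain ⟨β, hβ⟩ := pm_co hP v₀
      have h1 : ∀ b, X.wt b ⬝ᵥ K.ψ β = f * (K.e b ⬝ᵥ v₀) := fun b => by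
        rw [K.dot_ψ, ← hβ, dotProduct_smul, smul_eq_mul]
      exact (mul_eq_zero.1 ((h1 a).symm.trans (hI _ (fun b hb => (h1 b).trans (mul_eq_zero_of_right _ (h0 _ ((c1 b).1 hb))))
        a ha))).resolve_left (Int.natCast_ne_zero.2 hf)
    · obtain ⟨w, -, h2⟩ := exists_gen (X := X) (S : Set Y)
      rw [hS] at h2
      refine (h2 a ((K.rt a).2 ha.1)).2 ((K.dot a w).trans (ha.2 _ fun (b : Fin n → ℤ) hb => ?_))
      have h3 := (c1 (K.e.symm b)).2 ((K.e.apply_symm_apply b).symm ▸ hb)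
      exact (K.dot_symm b w).symm.trans ((h2 _ h3.1).1 (Sz_anti (Set.subset_insert _ _) h3))
  rcases kacD X₀ Nat.prime_three (Int.natCast_pos.2 b1) (K.φ v) with ⟨c, h1, h2⟩ | ⟨w, s, c, h1, h2, h4, h5, h6, h7, h8⟩
  · refine (hn ⟨hu, fun a ha => (c0 a ha).trans ((χ_exp X a v ζ).2 ?_)⟩).elim
    have h4 := h2 _ ((c2 a).1 ha)
    rw [K.dot]
    rw [b4, Nat.cast_pow] at h4 ⊢
    exact ((Int.prime_three.coprime_iff_not_dvd.2 h1).pow_left (m := i₁)).dvd_of_dvd_mul_left h4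
  refine ⟨K.tw H.sl w⁻¹, s, c, i₁, h1, h2, h4, by rw [h5, b4, Nat.cast_pow, Nat.cast_ofNat], fun a => ?_, fun a => ?_,
    fun i hi e => ⟨pow_mem hu 3, fun a ha => ?_⟩⟩
  · rw [c1, h6]
    exact and_congr_left' ((K.tw H.sl w⁻¹).rt a).symm
  · rw [c2, h7]
    exact and_congr_left' ((K.tw H.sl w⁻¹).rt a).symm
  · have h9 := h8 i hi _ ((c2 a).1 ha)
    rw [χ_pow X a hu, c0 a ha, K.χ_coch, ← Units.val_pow_eq_pow_val, Units.val_eq_one, ← _root_.zpow_natCast, ← _root_.zpow_mul,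
      ← orderOf_dvd_iff_zpow_eq_one, mul_comm]
    rw [e] at h9
    exact h9

variable {C' : ChevalleyDatum} {r : ℕ} {i₀ : Fin r} {B : Matrix (Fin r) (Fin n) ℤ} {s : Finset (Fin n)}

theorem dot_B (h : ∀ i j, B i ⬝ᵥ co C n (B j) = cartanOf C' r j i) (a b : Fin r → ℤ) :
    (a ᵥ* B) ⬝ᵥ co C n (b ᵥ* B) = a ⬝ᵥ co C' r b := by
  rw [vecMul_eq_sum, vecMul_eq_sum, sum_dotProduct]
  refine Finset.sum_congr rfl fun i _ => ?_
  rw [smul_dotProduct, show co C n _ = _ from map_sum (coH C n) _ _, dotProduct_sum, smul_eq_mul, co]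
  refine congrArg _ (Finset.sum_congr rfl fun j _ => ?_)
  rw [map_zsmul, dotProduct_smul, smul_eq_mul, ← h]
  rfl

theorem emb (K : Kit X X₀) (h1 : ∀ a, a ∈ X.Sz (insert u (S : Set Y)) ↔ X.Rt a ∧ RS C n s (K.e a))
    (h2 : ∀ a, a ∈ X.Sz S ↔ X.Rt a ∧ LS C n s (K.e a)) (hc : Ck C n s C' r i₀ B) (hs : SL C' r) {f : ℕ} (hf : f ≠ 0)
    (hP : PM C' r f) (hN : Nb C' r) : ∃ j, Emb X (X.Sz S) u C' r i₀ j := by
  obtain ⟨J, hJ⟩ : ∃ J : (Fin r → ℤ) →+ (X.I → ℤ), ∀ a, K.e (J a) = a ᵥ* B :=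
    ⟨K.e.symm.toAddMonoidHom.comp (vecMulLinear B).toAddMonoidHom, fun a => K.e.apply_symm_apply _⟩
  have a1 : ∀ t' : Fin C'.nroots, J (vec C' r t') ∈ X.Sz S ∧ (RS C n s (K.e (J (vec C' r t'))) ↔ 3 ∣ vec C' r t' i₀) := fun t' => by
    obtain ⟨t, e1, e2, e3⟩ := hc.2.1 t'
    rw [h2, K.rt, hJ, ← e1]
    exact ⟨⟨rt_vec X₀ t, e2⟩, e3⟩
  have a2 : ∀ a (t' : Fin C'.nroots), X.wt (J a) ⬝ᵥ X.cor (J (vec C' r t')) = a ⬝ᵥ co C' r (vec C' r t') := fun a t' => by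
    rw [K.wt_cor _ (a1 t').1.1, hJ, hJ, dot_B hc.1]
  have a3 : ∀ c ∈ X.Sz S, (∃ t' : Fin C'.nroots, J (vec C' r t') = c) ∨ (RS C n s (K.e c) ∧ (∀ i, K.e c ⬝ᵥ co C n (B i) = 0) ∧
      c ∉ Bg X (X.Sz S)) := fun c hc' => by
    refine (K.forall_rt (Q := fun a => LS C n s a → (∃ t' : Fin C'.nroots, a = vec C' r t' ᵥ* B) ∨ (RS C n s a ∧
      (∀ i, a ⬝ᵥ co C n (B i) = 0) ∧ ∀ t₁ : Fin C.nroots, LS C n s (vec C n t₁) → a ⬝ᵥ co C n (vec C n t₁) ≠ -1)) hc.2.2 hc'.1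
      ((h2 c).1 hc').2).imp (Exists.imp fun t' e => K.e.injective ((hJ _).trans e.symm)) (And.imp_right (And.imp_right ?_))
    rintro h ⟨-, b, hb, e⟩
    exact K.forall_rt (Q := fun b => LS C n s b → K.e c ⬝ᵥ co C n b ≠ -1) h hb.1 ((h2 b).1 hb).2 ((K.wt_cor c hb.1).symm.trans e)
  have a4 : ∀ t' : Fin C'.nroots, J (vec C' r t') ∈ Bg X (X.Sz S) := fun t' =>
    let ⟨t, e⟩ := hN t'
    ⟨(a1 t').1, _, (a1 t).1, (a2 _ t).trans e⟩
  refine ⟨J, (injective_iff_map_eq_zero J).2 fun a ha => co_inj hs hf hP (funext fun i => ?_),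
    fun c => ⟨fun h => (a3 c h.1).resolve_right fun e => e.2.2 h, fun ⟨t', e⟩ => e ▸ a4 t'⟩, a2, fun c hc' h => ?_, fun t' => ?_⟩
  · have h := dot_B hc.1 a (sr i)
    rw [← hJ, ha, map_zero, zero_dotProduct, co_comm hs, sr_dot] at h
    rw [← h, co_zero]
    rfl
  · obtain ⟨e1, e2, -⟩ := (a3 c hc').resolve_left fun ⟨t', e⟩ => h (e ▸ a4 t')
    refine ⟨((h1 c).2 ⟨hc'.1, e1⟩).2 u (.inl rfl), fun t' => ?_⟩
    rw [K.wt_cor _ (a1 t').1.1, hJ, vecMul_eq_sum, show co C n _ = _ from map_sum (coH C n) _ _, dotProduct_sum]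
    exact Finset.sum_eq_zero fun i _ => by rw [map_zsmul, dotProduct_smul, show K.e c ⬝ᵥ coH C n (B i) = 0 from e2 i, smul_zero]
  · rw [← (a1 t').2]
    refine ⟨fun h => ((h1 _).1 ⟨(a1 t').1.1, ?_⟩).2, fun h => ((h1 _).2 ⟨(a1 t').1.1, h⟩).2 u (.inl rfl)⟩
    rintro z (rfl | hz)
    exacts [h, (a1 t').1.2 z hz]

theorem all {i : Fin n} (K : Kit X X₀) (h2 : ∀ a, a ∈ X.Sz S ↔ X.Rt a ∧ LS C n {i} (K.e a)) (c : X.I → ℤ) (hc : X.Rt c) :
    c ∈ X.Sz S := (h2 c).2 ⟨hc, fun a ha b hb => by rw [Finset.mem_singleton.1 ha, Finset.mem_singleton.1 hb]⟩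

end Nf

open Nf

/-- **The normal form of an isolated element.** -/
theorem nf {n : ℕ} (hE : TE X n) (h3 : 3 ≠ p) (hS : Z0 X S = S) (hu : u ∈ X.T) (he : El 3 {u}) (hI : Iso X S u)
    (hn : u ∉ Zc X (X.Sz S)) : u ^ 3 ∈ Zc X (X.Sz S) ∧
      (((n = 6 → ∀ c, X.Rt c → c ∈ X.Sz S) ∧ ∃ j, Emb X (X.Sz S) u chevE6 6 3 j) ∨
      (n ≠ 6 ∧ (n = 7 → ∀ c, X.Rt c → c ∈ X.Sz S) ∧ ∃ j, Emb X (X.Sz S) u chevE7 7 4 j) ∨
      (n = 8 ∧ (∀ c, X.Rt c → c ∈ X.Sz S) ∧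
        ((∃ j, Emb X (X.Sz S) u chevE8 8 1 j) ∨ ∃ j, Emb X (X.Sz S) u chevE8 8 6 j))) := by
  rcases hE.ty with ⟨rfl, -⟩ | ⟨rfl, -⟩ | ⟨rfl, -⟩
  · obtain ⟨_, X₀, ⟨K⟩⟩ := hE.kit6
    obtain ⟨K, s, c, i, h1, h2, -, -, h4, h5, h6⟩ := kac K hE.ok6 h3 hS hu he hI hn
    obtain rfl := supp6 s h1 h2
    exact ⟨h6 3 (by decide) (by decide +kernel), .inl ⟨fun _ => all K h5, emb K h4 h5 ck6 sl_E6 (by decide) pm_E6 nb6⟩⟩
  · obtain ⟨_, X₀, ⟨K⟩⟩ := hE.kit7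
    obtain ⟨K, s, c, i, h1, h2, -, -, h4, h5, h6⟩ := kac K hE.ok7 h3 hS hu he hI hn
    rcases supp7 s h1 h2 with rfl | rfl | rfl
    · exact ⟨h6 4 (by decide) (by decide +kernel),
        .inr (.inl ⟨by decide, fun _ => all K h5, emb K h4 h5 ck7a sl_E7 (by decide) pm_E7 nb7⟩)⟩
    · exact ⟨h6 2 (by decide) (by decide +kernel),
        .inr (.inl ⟨by decide, fun _ => all K h5, emb K h4 h5 ck7b sl_E7 (by decide) pm_E7 nb7⟩)⟩
    · exact ⟨h6 2 (by decide) (by decide +kernel), .inl ⟨fun e => absurd e (by decide),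
        emb K h4 h5 ck7c sl_E6 (by decide) pm_E6 nb6⟩⟩
  · obtain ⟨_, X₀, ⟨K⟩⟩ := hE.kit8
    obtain ⟨K, s, c, i, h1, h2, h7, h8, h4, h5, h6⟩ := kac K hE.ok8 h3 hS hu he hI hn
    have t1 : hr chevE8 8 1 = 3 := by decide +kernel
    have t6 : hr chevE8 8 6 = 3 := by decide +kernel
    rcases K8.supp h1 h2 with rfl | rfl | rfl | rfl | rfl | rfl | rfl
    · rw [dot_one fun m hm => h7 m (Finset.notMem_singleton.2 hm), show hr chevE8 8 3 = 6 by decide +kernel] at h8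
      have := Int.odd_iff.1 (Odd.pow (n := i) (show Odd (3 : ℤ) by decide))
      omega
    · exact ⟨h6 1 (by decide) t1, .inr (.inr ⟨rfl, all K h5, .inl (emb K h4 h5 ck8a sl_E8 (by decide) pm_E8 nb8)⟩)⟩
    · exact ⟨h6 6 (by decide) t6, .inr (.inr ⟨rfl, all K h5, .inr (emb K h4 h5 ck8e sl_E8 (by decide) pm_E8 nb8)⟩)⟩
    · exact ⟨h6 1 (by decide) t1,
        .inr (.inl ⟨by decide, fun e => absurd e (by decide), emb K h4 h5 ck8b sl_E7 (by decide) pm_E7 nb7⟩)⟩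
    · exact ⟨h6 1 (by decide) t1,
        .inr (.inl ⟨by decide, fun e => absurd e (by decide), emb K h4 h5 ck8c sl_E7 (by decide) pm_E7 nb7⟩)⟩
    · exact ⟨h6 6 (by decide) t6, .inl ⟨fun e => absurd e (by decide), emb K h4 h5 ck8d sl_E6 (by decide) pm_E6 nb6⟩⟩
    · exact ⟨h6 1 (by decide) t1, .inl ⟨fun e => absurd e (by decide), emb K h4 h5 ck8f sl_E6 (by decide) pm_E6 nb6⟩⟩

end Cfsg.Agent.RC.B
end

-- part: RC/B/PlC
section
set_option linter.all false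
open scoped Cfsg.Agent.FastGrp

/-!
# RC (S4576), [PL]: the finite checks (helper12)
-/

set_option autoImplicit false
set_option maxRecDepth 100000
set_option Elab.async false

namespace Cfsg.Agent.RC.B.Pl

open Cfsg Cfsg.Lie Matrix Finset Cfsg.Agent.KM.Tor Cfsg.Agent.Nodes.RGDChev Cfsg.Agent.Tits.Roots
  Cfsg.Agent.ChevalleyStructure.CoxeterGeomTypes
open Cfsg.Agent.H931.KC (hr)

/-- the roots of `E₆` -/
abbrev r6 (s : Fin chevE6.nroots) : Fin 6 → ℤ := vec chevE6 6 s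

/-- the three forms agree up to the sign `ε` -/
def K6 (y h a c : Fin 6 → ℤ) (ε : ℤ) : Prop := 3 ∣ c 3 - ε * a 3 ∧ 3 ∣ c ⬝ᵥ y - ε * a ⬝ᵥ y ∧ 3 ∣ c ⬝ᵥ h - ε * a ⬝ᵥ h

instance K6.dec (y h a c : Fin 6 → ℤ) (ε : ℤ) : Decidable (K6 y h a c ε) := by unfold K6; infer_instance

/-- the positive roots of a subsystem of type `A₃` -/
def l6 : List (Fin 6 → ℤ) := [![1, 0, 0, 0, 0, 0], ![0, 0, 1, 0, 0, 0], ![0, 0, 0, 1, 0, 0], ![1, 0, 1, 0, 0, 0],
  ![0, 0, 1, 1, 0, 0], ![1, 0, 1, 1, 0, 0]]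

/-- the form `h` separates the twelve components -/
def M6 (y h : Fin 6 → ℤ) : Prop := ∀ a ∈ l6, ∃ b, K6 y h a (r6 b) 1 ∧ a ⬝ᵥ co chevE6 6 (r6 b) = -1 ∧
  3 ∣ a ⬝ᵥ y * r6 b 3 + -a 3 * r6 b ⬝ᵥ y ∧ ∀ c, 3 ∣ a ⬝ᵥ y * r6 c 3 + -a 3 * r6 c ⬝ᵥ y →
    if K6 y h a (r6 c) 1 ∨ K6 y h a (r6 c) (-1) then A2P a (r6 b) (r6 c)
    else r6 c ⬝ᵥ co chevE6 6 a = 0 ∧ r6 c ⬝ᵥ co chevE6 6 (r6 b) = 0

instance M6.dec (y h : Fin 6 → ℤ) : Decidable (M6 y h) := by unfold M6; infer_instance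

private def fv (b n s : ℕ) (i : Fin n) : ℤ :=
  Int.subNatNat (Nat.mod (Nat.shiftRight b (Nat.add (Nat.mul 32 s) (Nat.mul 4 i))) 16) 8

private def B6 : ℕ := 0x9abaa9009aba99009aaa990099aa990089aa99009aa9990099a9990089a9990099999900899999008899990099998900899989008899890088898900888889009aa9980099a9980089a9980099999800899998008899980099989800899898008898980088889800999988008999880088998800888988009998880089988800889888009988880089888800988888007888880087888800778888008878880087788800777888008887880088778800877788007777880088887800887878008778780077787800887778008777780077777800876778007767780076677800888887008887870088778700877787007777870088777700877777007777770087677700776777007667770087667700776677007666770076567700765667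

private theorem v6 : ∀ s : Fin chevE6.nroots, vec chevE6 6 s = fv B6 6 s := by decide +kernel

private def B7 : ℕ := 0x9abcbaa09abcba909abcaa909abbaa909aabaa9099abaa9089abaa909abba9909aaba99099aba99089aba9909aaaa99099aaa99089aaa990999aa990899aa990889aa9909aaa999099aa999089aa9990999a9990899a9990889a9990999999908999999088999990888999909999989089999890889998908889989088889890888888909aaa998099aa998089aa9980999a9980899a9980889a998099999980899999808899998088899980999989808999898088998980888989808888898099999880899998808899988088899880888898809999888089998880889988808889888099988880899888808898888099888880898888809888888078888880878888807788888088788880877888807778888088878880887788808777888077778880888878808887788088777880877778807777788088888780888787808877878087778780777787808887778088777780877777807777778088767780877677807776778087667780776677807666778088888870888878708887787088777870877778707777787088877770887777708777777077777770887677708776777077767770876677707766777076667770887667708776677077766770876667707766677076666770876567707765677076656770765567708765667077656670766566707655667076546670765456707654566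

private theorem v7 : ∀ s : Fin chevE7.nroots, vec chevE7 7 s = fv B7 7 s := by decide +kernel

private def B8 : ℕ := 0xabcdecba9bcdecba9acdecba9abdecba9abcecba9abcdcba9abcdbba9abcdcaa9abcdbaa9abccbaa9abbcbaa9aabcbaa99abcbaa89abcbaa9abcdbb99abcdba99abccba99abbcba99aabcba999abcba989abcba99abccaa99abbcaa99aabcaa999abcaa989abcaa99abbbaa99aabbaa999abbaa989abbaa99aaabaa999aabaa989aabaa9999abaa9899abaa9889abaa99abbba999aabba9999abba9989abba999aaaba9999aaba9989aaba99999aba99899aba99889aba999aaaaa9999aaaa9989aaaa99999aaa99899aaa99889aaa999999aa998999aa998899aa998889aa999aaaa99999aaa99989aaa999999aa999899aa999889aa9999999a9998999a9998899a9998889a9999999999989999999889999998889999988889999999999898999998988999989888999898888998988888989888888899aaaa99899aaa99889aaa998999aa998899aa998889aa9989999a9988999a9988899a9988889a99899999998899999988899999888899998888899989999989889999898889998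98888998988888989888888898999999888999998888999988888999888888998888888988999998888999988888999888888998888888988899998888899988888899888888898888999888888998888888988888998888888988888898888888788888888788888877888888887888888778888877788888888788888877888887778888777788888888788888877888887778888777788877777888888887888888778888877788887777888777778877777788888888788888787888877878887778788777787877777878888877788887777888777778877777787777777888876778887767788777677877776778887667788776677877766778876667787766677876666778888888878888878788887787888777878877778787777787777777878888777788877777887777778777777777777777888767778877677787776777777767778876677787766777777667778766677777666777766667778887667788776677877766777777667788766677877666777776667787666677776666777666667788765677877656777776567787665677776656777666567787655677776556777665567776555677887656678776566777765667876656677766566776665667876556677765566776655667765556678765466777654667766546677655466776544667876545677765456776654567765545677654456776543567765435578765456677654566766545667655456676544566765435667654346676543556765434567654245676532456764324567543245665432456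

private theorem v8 : ∀ s : Fin chevE8.nroots, vec chevE8 8 s = fv B8 8 s := by decide +kernel

private theorem b6 (x a : Fin 6 → ℤ) : x ⬝ᵥ co chevE6 6 a = x 0 * (2 * a 0 - a 2) + x 1 * (2 * a 1 - a 3) +
    x 2 * (2 * a 2 - a 0 - a 3) + x 3 * (2 * a 3 - a 1 - a 2 - a 4) + x 4 * (2 * a 4 - a 3 - a 5) + x 5 * (2 * a 5 - a 4) := by
  have h : cartanOf chevE6 6 = ![![2, 0, -1, 0, 0, 0], ![0, 2, 0, -1, 0, 0], ![-1, 0, 2, -1, 0, 0], ![0, -1, -1, 2, -1, 0],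
    ![0, 0, 0, -1, 2, -1], ![0, 0, 0, 0, -1, 2]] := by decide +kernel
  delta co
  simp only [dotProduct, h, Fin.sum_univ_six, Matrix.cons_val]
  ring

private theorem d6 (x a : Fin 6 → ℤ) : x ⬝ᵥ a = x 0 * a 0 + x 1 * a 1 + x 2 * a 2 + x 3 * a 3 + x 4 * a 4 + x 5 * a 5 :=
  Fin.sum_univ_six _

private theorem b8 (x a : Fin 8 → ℤ) : x ⬝ᵥ co chevE8 8 a = x 0 * (2 * a 0 - a 2) + x 1 * (2 * a 1 - a 3) +
    x 2 * (2 * a 2 - a 0 - a 3) + x 3 * (2 * a 3 - a 1 - a 2 - a 4) + x 4 * (2 * a 4 - a 3 - a 5) + x 5 * (2 * a 5 - a 4 - a 6) +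
    x 6 * (2 * a 6 - a 5 - a 7) + x 7 * (2 * a 7 - a 6) := by
  have h : cartanOf chevE8 8 = ![![2, 0, -1, 0, 0, 0, 0, 0], ![0, 2, 0, -1, 0, 0, 0, 0], ![-1, 0, 2, -1, 0, 0, 0, 0],
    ![0, -1, -1, 2, -1, 0, 0, 0], ![0, 0, 0, -1, 2, -1, 0, 0], ![0, 0, 0, 0, -1, 2, -1, 0], ![0, 0, 0, 0, 0, -1, 2, -1],
    ![0, 0, 0, 0, 0, 0, -1, 2]] := by decide +kernel
  delta co
  simp only [dotProduct, h, Fin.sum_univ_eight, Matrix.cons_val]
  ring

theorem m6 : ∀ s ∈ [(1 : ℤ), 2], ∀ t ∈ [(1 : ℤ), 2], ∀ r ∈ [(1 : ℤ), 2], ∀ c ∈ [(0 : ℤ), 1, 2],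
    M6 ![s, t, s, c, r, r] ![s, 0, s, 0, -r, -r] := by
  simp only [M6, K6, b6, v6]
  simp only [d6, Matrix.cons_val]
  decide +kernel

theorem rt6 : ∀ a ∈ l6, ∃ s, r6 s = a := by decide +kernel

theorem rt6' : ∀ a ∈ [![1, 0, 0, 0, 0, 0], ![0, 1, 0, 0, 0, 0], ![0, 0, 1, 0, 0, 0], ![0, 0, 0, 0, 1, 0],
    ![0, 0, 0, 0, 0, 1], ![1, 0, 1, 0, 0, 0], ![0, 0, 0, 0, 1, 1]], ∃ s, r6 s = a := by decide +kernel

theorem hr8 : hr chevE8 8 = ![2, 3, 4, 6, 5, 4, 3, 2] := by decide +kernel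

/-- `A2P a b` is the canonical component of the roots with `3 ∣ c i` -/
def Cn (C : ChevalleyDatum) (n : ℕ) (i : Fin n) (a b : Fin n → ℤ) : Prop :=
  (∃ s : Fin C.nroots, vec C n s = a) ∧ (∃ s : Fin C.nroots, vec C n s = b) ∧ 3 ∣ a i ∧ 3 ∣ b i ∧ a ⬝ᵥ co C n b = -1 ∧
  ∀ c : Fin C.nroots, 3 ∣ vec C n c i → A2P a b (vec C n c) ∨ (vec C n c ⬝ᵥ co C n a = 0 ∧ vec C n c ⬝ᵥ co C n b = 0 ∧
    ∃ d : Fin C.nroots, (3 ∣ vec C n d i ∧ vec C n d ⬝ᵥ co C n (vec C n c) ≠ 0) ∧ ∃ e : Fin C.nroots, 3 ∣ vec C n e i ∧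
      vec C n e ⬝ᵥ co C n (vec C n c) ≠ 0 ∧ vec C n d ⬝ᵥ co C n (vec C n e) = 0)

instance Cn.dec (C : ChevalleyDatum) (n : ℕ) (i : Fin n) (a b : Fin n → ℤ) : Decidable (Cn C n i a b) := by
  unfold Cn; infer_instance

theorem cn7 : Cn chevE7 7 4 (sr 5) (sr 6) := by
  simp only [Cn, v7]
  decide +kernel

theorem cn8 : Cn chevE8 8 6 (sr 7) (-hr chevE8 8) := by
  simp only [Cn, b8, v8, hr8]
  decide +kernel

/-- the common zeros -/
def N2 (C : ChevalleyDatum) (n : ℕ) (i : Fin n) (y : Fin n → ℤ) : ℕ :=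
  #{s : Fin C.nroots | 3 ∣ vec C n s i ∧ 3 ∣ vec C n s ⬝ᵥ y}

private theorem n2_eq (C : ChevalleyDatum) (n : ℕ) (i : Fin n) (y : Fin n → ℤ) {α : Type} (g : Fin C.nroots → α) (q : α → Bool)
    {T : List α} (hT : ((List.finRange C.nroots).filter fun s : Fin C.nroots => 3 ∣ vec C n s i).map g = T)
    (h : ∀ s, q (g s) = decide (3 ∣ vec C n s ⬝ᵥ y)) : N2 C n i y = T.countP q := by
  rw [← hT, List.countP_map, List.countP_filter, N2, Finset.card_def, Finset.filter_val, ← Multiset.countP_eq_card_filter]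
  refine (Multiset.coe_countP _ (List.finRange C.nroots)).trans (List.countP_congr fun s _ => ?_)
  simp [h, and_comm]

private def T7 : List (ℤ × ℤ × ℤ × ℤ) := [
  (-2, -2, -3, -4), (-1, -2, -3, -4), (-1, -2, -2, -4), (-1, -2, -2, -3), (-1, -1, -2, -3), (-1, -1, -1, -1),
  (-1, 0, -1, -1), (-1, 0, -1, 0), (-1, 0, 0, 0), (0, -1, -1, -1), (0, -1, 0, -1), (0, -1, 0, 0), (0, 0, -1, -1),
  (0, 0, -1, 0), (0, 0, 0, -1), (0, 0, 0, 0), (0, 0, 0, 0), (0, 0, 0, 0), (0, 0, 0, 0), (0, 0, 0, 0), (0, 0, 0, 0),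
  (0, 0, 0, 1), (0, 0, 1, 0), (0, 0, 1, 1), (0, 1, 0, 0), (0, 1, 0, 1), (0, 1, 1, 1), (1, 0, 0, 0), (1, 0, 1, 0),
  (1, 0, 1, 1), (1, 1, 1, 1), (1, 1, 2, 3), (1, 2, 2, 3), (1, 2, 2, 4), (1, 2, 3, 4), (2, 2, 3, 4)]

private theorem n27 (a b c d : ℤ) : N2 chevE7 7 4 ![a, b, c, d, 0, 0, 0] =
    T7.countP fun v => 3 ∣ v.1 * a + v.2.1 * b + v.2.2.1 * c + v.2.2.2 * d :=
  n2_eq _ _ _ _ (fun s => (vec chevE7 7 s 0, vec chevE7 7 s 1, vec chevE7 7 s 2, vec chevE7 7 s 3)) _ (by decide +kernel)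
    fun s => by simp only [dotProduct, Fin.sum_univ_seven, Matrix.cons_val, mul_zero, add_zero]

private def T8 : List (ℤ × ℤ × ℤ × ℤ × ℤ × ℤ) := [
  (-2, -3, -4, -6, -5, -4), (-2, -3, -4, -6, -5, -4), (-1, -2, -2, -3, -2, -1), (-1, -1, -2, -3, -2, -1),
  (-1, -1, -2, -2, -2, -1), (-1, -1, -2, -2, -1, -1), (-1, -1, -2, -2, -1, 0), (-1, -1, -1, -2, -2, -1),
  (-1, -1, -1, -2, -1, -1), (-1, -1, -1, -2, -1, 0), (-1, -1, -1, -1, -1, -1), (-1, -1, -1, -1, -1, 0),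
  (-1, -1, -1, -1, 0, 0), (-1, 0, -1, -1, -1, -1), (-1, 0, -1, -1, -1, 0), (-1, 0, -1, -1, 0, 0), (-1, 0, -1, 0, 0, 0),
  (-1, 0, 0, 0, 0, 0), (0, -1, -1, -2, -2, -1), (0, -1, -1, -2, -1, -1), (0, -1, -1, -2, -1, 0),
  (0, -1, -1, -1, -1, -1), (0, -1, -1, -1, -1, 0), (0, -1, -1, -1, 0, 0), (0, -1, 0, -1, -1, -1),
  (0, -1, 0, -1, -1, 0), (0, -1, 0, -1, 0, 0), (0, -1, 0, 0, 0, 0), (0, 0, -1, -1, -1, -1), (0, 0, -1, -1, -1, 0),
  (0, 0, -1, -1, 0, 0), (0, 0, -1, 0, 0, 0), (0, 0, 0, -1, -1, -1), (0, 0, 0, -1, -1, 0), (0, 0, 0, -1, 0, 0),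
  (0, 0, 0, 0, -1, -1), (0, 0, 0, 0, -1, 0), (0, 0, 0, 0, 0, -1), (0, 0, 0, 0, 0, 0), (0, 0, 0, 0, 0, 0),
  (0, 0, 0, 0, 0, 1), (0, 0, 0, 0, 1, 0), (0, 0, 0, 0, 1, 1), (0, 0, 0, 1, 0, 0), (0, 0, 0, 1, 1, 0),
  (0, 0, 0, 1, 1, 1), (0, 0, 1, 0, 0, 0), (0, 0, 1, 1, 0, 0), (0, 0, 1, 1, 1, 0), (0, 0, 1, 1, 1, 1),
  (0, 1, 0, 0, 0, 0), (0, 1, 0, 1, 0, 0), (0, 1, 0, 1, 1, 0), (0, 1, 0, 1, 1, 1), (0, 1, 1, 1, 0, 0),
  (0, 1, 1, 1, 1, 0), (0, 1, 1, 1, 1, 1), (0, 1, 1, 2, 1, 0), (0, 1, 1, 2, 1, 1), (0, 1, 1, 2, 2, 1),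
  (1, 0, 0, 0, 0, 0), (1, 0, 1, 0, 0, 0), (1, 0, 1, 1, 0, 0), (1, 0, 1, 1, 1, 0), (1, 0, 1, 1, 1, 1),
  (1, 1, 1, 1, 0, 0), (1, 1, 1, 1, 1, 0), (1, 1, 1, 1, 1, 1), (1, 1, 1, 2, 1, 0), (1, 1, 1, 2, 1, 1),
  (1, 1, 1, 2, 2, 1), (1, 1, 2, 2, 1, 0), (1, 1, 2, 2, 1, 1), (1, 1, 2, 2, 2, 1), (1, 1, 2, 3, 2, 1),
  (1, 2, 2, 3, 2, 1), (2, 3, 4, 6, 5, 4), (2, 3, 4, 6, 5, 4)]

private theorem n28 (a b c d e f : ℤ) : N2 chevE8 8 6 ![a, b, c, d, e, f, 0, 0] = T8.countP fun v =>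
    3 ∣ v.1 * a + v.2.1 * b + v.2.2.1 * c + v.2.2.2.1 * d + v.2.2.2.2.1 * e + v.2.2.2.2.2 * f :=
  n2_eq _ _ _ _ (fun s => (vec chevE8 8 s 0, vec chevE8 8 s 1, vec chevE8 8 s 2, vec chevE8 8 s 3, vec chevE8 8 s 4,
    vec chevE8 8 s 5)) _ (by decide +kernel) fun s => by simp only [dotProduct, Fin.sum_univ_eight, Matrix.cons_val, mul_zero, add_zero]

theorem z7 : ∀ a ∈ [(0 : ℤ), 1, 2], ∀ b ∈ [(0 : ℤ), 1, 2], ∀ c ∈ [(0 : ℤ), 1, 2], ∀ d ∈ [(0 : ℤ), 1, 2],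
    N2 chevE7 7 4 ![a, b, c, d, 0, 0, 0] ≠ 6 := by
  simp only [n27]
  decide +kernel

/-- a third of the cases -/
def Z8 (a : ℤ) : Prop := ∀ c ∈ [(0 : ℤ), 1, 2], ∀ e ∈ [(0 : ℤ), 1, 2], ∀ f ∈ [(0 : ℤ), 1, 2], 3 ∣ 2 * a + c + 2 * e + f →
  ∀ b ∈ [(0 : ℤ), 1, 2], ∀ d ∈ [(0 : ℤ), 1, 2], N2 chevE8 8 6 ![a, b, c, d, e, f, 0, 0] ≠ 18

instance Z8.dec (a : ℤ) : Decidable (Z8 a) := by unfold Z8; infer_instance

theorem z80 : Z8 0 := by
  simp only [Z8, n28]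
  decide +kernel

theorem z81 : Z8 1 := by
  simp only [Z8, n28]
  decide +kernel

theorem z82 : Z8 2 := by
  simp only [Z8, n28]
  decide +kernel

theorem sq8 : ∀ i j, 3 ∣ ∑ s ∈ (univ.filter fun s : Fin chevE8.nroots => 3 ∣ vec chevE8 8 s 1),
    vec chevE8 8 s i * vec chevE8 8 s j := by
  decide +kernel

theorem lv8 : ∀ s : Fin chevE8.nroots, (3 ∣ vec chevE8 8 s 6 ∧ ¬ A2P (sr 7) (-hr chevE8 8) (vec chevE8 8 s)) ↔
    vec chevE8 8 s ⬝ᵥ co chevE8 8 (sr 7) + 5 * vec chevE8 8 s ⬝ᵥ co chevE8 8 (-hr chevE8 8) = 0 := by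
  simp only [b8, v8, hr8]
  decide +kernel

theorem n6 : #{s : Fin chevE6.nroots | 3 ∣ vec chevE6 6 s 3} = 18 := by decide +kernel

theorem n7 : #{s : Fin chevE7.nroots | 3 ∣ vec chevE7 7 s 4} = 36 := by decide +kernel

theorem n8a : #{s : Fin chevE8.nroots | 3 ∣ vec chevE8 8 s 1} = 72 := by decide +kernel

theorem n8e : #{s : Fin chevE8.nroots | 3 ∣ vec chevE8 8 s 6} = 78 := by decide +kernel

theorem n8l : #{s : Fin chevE8.nroots | 3 ∣ vec chevE8 8 s 6 ∧ ¬ A2P (sr 7) (-hr chevE8 8) (vec chevE8 8 s)} = 72 := by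
  decide +kernel

end Cfsg.Agent.RC.B.Pl
end

-- part: RC/B/Sup
section
set_option linter.all false
open scoped Cfsg.Agent.FastGrp

/-!
# RC (S4576), `l = 3` : a torus in the support (helper98)
-/

set_option autoImplicit false

namespace Cfsg.Agent.RC.B

open Cfsg Cfsg.Agent.DL Cfsg.Agent.Nodes.Reps

theorem GF_eq_inf {Y : Type} [Group Y] (F : MulAut Y) {G T : Subgroup Y} (h : T ≤ G) : GF F T = T ⊓ GF F G :=
  le_antisymm (fun _ ht => ⟨ht.1, h ht.1, ht.2⟩) fun _ ht => ⟨ht.1, ht.2.2⟩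

/-- [SUP] -/
theorem boxSup : BoxSup := by
  intro p _ k _ _ Y _ N _ _ ρ F G _ X l θ _ _
  have := X.amb.finite_GF G
  obtain ⟨_, ⟨y, hy, rfl, h1⟩, h2⟩ := KM.Uu.exists_tor X θ.2
  have hN := (X.stable_iff hy).1 h1
  refine ⟨y, hy, hN, ?_⟩
  have h0 : Nat.card ↥(GF F G) ≠ 0 := Nat.card_pos.ne'
  have h3 := ne_zero_of_dvd_ne_zero h0 h2
  have h4 := (Nat.factorization_le_iff_dvd h3 h0).2 h2 l
  rw [Nat.factorization_mul (left_ne_zero_of_mul h3) (right_ne_zero_of_mul h3), Finsupp.add_apply] at h4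
  rwa [GF_eq_inf F (X.conj hy hN).T_le_G]

end Cfsg.Agent.RC.B
end

-- part: RC/B/A2KAll
section
set_option linter.all false

/-!
# RC (S4576), [A2K] without hypotheses (helper55)
-/

set_option autoImplicit false

namespace Cfsg.Agent.RC.B

/-- **[A2K]** -/
theorem boxA2K : BoxA2K := boxA2K_of boxTri boxLn boxLE boxSup boxFr

end Cfsg.Agent.RC.B
end

-- part: RC/B/PK_mg
section

end

-- part: RC/B/PlA
section
set_option linter.all false
open scoped Cfsg.Agent.FastGrp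

/-!
# RC (S4576), [PL]: tools (helper12)
-/

set_option autoImplicit false
set_option linter.unusedSectionVars false

namespace Cfsg.Agent.RC.B.Pl

open Cfsg Cfsg.Lie Cfsg.Agent.DL Cfsg.Agent.Nodes.Reps Matrix Cfsg.Agent.KM.Ht Cfsg.Agent.KM.Tor
open Cfsg.Agent.KZ.DatX Cfsg.Agent.Nodes.RGDChev Cfsg.Agent.Nodes.Coroot Cfsg.Agent.ChevalleyStructure.NPerm
  Cfsg.Agent.ChevalleyStructure.CoxeterGeom Cfsg.Agent.ChevalleyStructure.CoxeterGeomTypes Cfsg.Agent.Tits.Roots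
open Cfsg.Agent.TO.X.Cn (χ_pow pm_E8)
open Cfsg.Agent.KM.Ex (sr_dot)

theorem four {ι : Type} (T : Finset ι) (A B : ι → ℤ) : (T.filter fun s => 3 ∣ A s).card + (T.filter fun s => 3 ∣ B s).card +
    (T.filter fun s => 3 ∣ A s + B s).card + (T.filter fun s => 3 ∣ A s - B s).card =
      T.card + 3 * (T.filter fun s => 3 ∣ A s ∧ 3 ∣ B s).card := by
  simp only [Finset.card_filter]
  rw [Finset.card_eq_sum_ones, Finset.mul_sum]
  simp only [← Finset.sum_add_distrib]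
  refine Finset.sum_congr rfl fun s _ => ?_
  rcases show A s % 3 = 0 ∨ A s % 3 = 1 ∨ A s % 3 = 2 by omega with h | h | h <;>
    rcases show B s % 3 = 0 ∨ B s % 3 = 1 ∨ B s % 3 = 2 by omega with h' | h' | h' <;> split_ifs <;> omega

theorem det3 {a b c d i j : ℤ} (h : ¬ 3 ∣ a * d - b * c) (h1 : 3 ∣ a * i + b * j) (h2 : 3 ∣ c * i + d * j) :
    3 ∣ i ∧ 3 ∣ j := by
  refine ⟨(Int.prime_three.dvd_or_dvd (a := a * d - b * c) ?_).resolve_left h,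
    (Int.prime_three.dvd_or_dvd (a := a * d - b * c) ?_).resolve_left h⟩
  · exact (show d * (a * i + b * j) - b * (c * i + d * j) = (a * d - b * c) * i by ring) ▸ dvd_sub (h1.mul_left _) (h2.mul_left _)
  · exact (show a * (c * i + d * j) - c * (a * i + b * j) = (a * d - b * c) * j by ring) ▸ dvd_sub (h2.mul_left _) (h1.mul_left _)

theorem dot3 {r : ℕ} (a d : Fin r → ℤ) (i₀ : Fin r) (h : ∀ i, i ≠ i₀ → 3 ∣ d i) : 3 ∣ a ⬝ᵥ d - a i₀ * d i₀ := by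
  rw [dotProduct, ← Finset.add_sum_erase _ _ (Finset.mem_univ i₀), add_sub_cancel_left]
  exact Finset.dvd_sum fun i hi => (h i (Finset.ne_of_mem_erase hi)).mul_left _

variable {p : ℕ} [Fact p.Prime] {k : Type} [Field k] [CharP k p] {Y : Type} [Group Y] {N : Type} [Fintype N]
  [DecidableEq N] {ρ : Y →* GL N k} {F : MulAut Y} {G : Subgroup Y} [IsAlgClosed k] (X : Datum p ρ F G)

/-- the common zeros -/
def Pz (S : Subgroup Y) (u v : Y) : Set (X.I → ℤ) := {c | c ∈ Bg X (X.Sz S) ∧ X.χ c u = 1 ∧ X.χ c v = 1}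

/-- a plane modulo the centre -/
structure Hy (n : ℕ) (D S : Subgroup Y) (y u v : Y) : Prop where
  te : TE X n
  st : St X D S y
  uT : u ∈ X.T
  vT : v ∈ X.T
  uZ : u ∈ Zn D
  vZ : v ∈ Zn D
  ne : ∀ i j : ℤ, ¬ (3 ∣ i ∧ 3 ∣ j) → u ^ i * v ^ j ∉ Zc X (X.Sz S)

variable {X} {n : ℕ} {D S : Subgroup Y} {y u v x t : Y} {a b c : X.I → ℤ} {Ψ : Set (X.I → ℤ)}
  {C : ChevalleyDatum} {r : ℕ} {M : CoxeterMatrix (Fin r)} {i₀ : Fin r} {j : (Fin r → ℤ) →+ (X.I → ℤ)}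

theorem χ_zpow (a : X.I → ℤ) (ht : t ∈ X.T) (m : ℤ) : X.χ a (t ^ m) = X.χ a t ^ m := by
  cases m with
  | ofNat n => rw [Int.ofNat_eq_natCast, _root_.zpow_natCast, _root_.zpow_natCast, χ_pow X a ht]
  | negSucc n => rw [_root_.zpow_negSucc, _root_.zpow_negSucc, X.χ_inv a (pow_mem ht _), χ_pow X a ht]

theorem χ_uv (a : X.I → ℤ) (hu : u ∈ X.T) (hv : v ∈ X.T) {ω : k} (hω : IsPrimitiveRoot ω 3) {A B : ℤ}
    (hA : X.χ a u = ω ^ A) (hB : X.χ a v = ω ^ B) (m n : ℤ) : X.χ a (u ^ m * v ^ n) = 1 ↔ 3 ∣ m * A + n * B := by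
  rw [X.χ_mul a (zpow_mem hu m) (zpow_mem hv n), χ_zpow a hu, χ_zpow a hv, hA, hB, ← _root_.zpow_mul, ← _root_.zpow_mul,
    ← zpow_add₀ (hω.ne_zero (by decide)), hω.zpow_eq_one_iff_dvd, mul_comm A, mul_comm B]
  rfl

theorem ex_pow (ht : t ∈ X.T) (h3 : t ^ 3 ∈ Zc X Ψ) (hc : c ∈ Ψ) {ω : k} (hω : IsPrimitiveRoot ω 3) :
    ∃ i ∈ [(0 : ℤ), 1, 2], X.χ c t = ω ^ i := by
  obtain ⟨i, h1, h2⟩ := hω.eq_pow_of_pow_eq_one ((χ_pow X c ht 3).symm.trans (h3.2 c hc))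
  refine ⟨i, ?_, h2.symm.trans (_root_.zpow_natCast ω i).symm⟩
  interval_cases i <;> simp

theorem χ_eq {ω : k} (h0 : ω ≠ 0) {z : Fin r → ℤ} (h : ∀ i, X.χ (j (sr i)) t = ω ^ z i) (a : Fin r → ℤ) :
    X.χ (j a) t = ω ^ (a ⬝ᵥ z) := by
  conv_lhs => rw [sum_sr a, map_sum]
  unfold dotProduct
  induction (Finset.univ : Finset (Fin r)) using Finset.induction_on with
  | empty => simp [X.χ_zero]
  | insert i s hi ih => rw [Finset.sum_insert hi, Finset.sum_insert hi, X.χ_add, ih, map_zsmul, X.χ_zsmul, h, zpow_add₀ h0,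
      ← _root_.zpow_mul, mul_comm (z i)]

theorem ex_sr (hp : IsType C r M) (i : Fin r) : ∃ s : Fin C.nroots, vec C r s = sr i :=
  ⟨⟨_, simple_lt hp.inList (lt_rank hp i)⟩, vec_simple hp i⟩

theorem mem_A2 (hj : Function.Injective j) (a b x : Fin r → ℤ) : j x ∈ A2 X (j a) (j b) ↔ A2P a b x := by
  simp only [A2, A2P, Set.mem_insert_iff, Set.mem_singleton_iff, ← map_add, ← map_neg, hj.eq_iff]

theorem hex (hE : TE X n) (ha : X.Rt a) (hb : X.Rt b) : X.ex a = X.ex b := by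
  rcases hE.ty with ⟨rfl, -⟩ | ⟨rfl, -⟩ | ⟨rfl, -⟩
  · obtain ⟨_, X₀, ⟨K⟩⟩ := hE.kit6
    exact K.ex_eq hE.ok6 ha hb
  · obtain ⟨_, X₀, ⟨K⟩⟩ := hE.kit7
    exact K.ex_eq hE.ok7 ha hb
  · obtain ⟨_, X₀, ⟨K⟩⟩ := hE.kit8
    exact K.ex_eq hE.ok8 ha hb

theorem g_Bg (hE : TE X n) (h : St X D S y) (hc : c ∈ Bg X (X.Sz S)) : X.g c ∈ Bg X (X.Sz S) :=
  let ⟨b, hb, e⟩ := hc.2
  ⟨h.can.stab c hc.1, _, h.can.stab b hb, (R.pr_g hc.1.1 hb.1 (hex hE hc.1.1 hb.1)).trans e⟩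

/-- the centre of `E₈` -/
theorem cen8 (hE : TE X 8) (ht : t ∈ X.T) (h : ∀ c, X.Rt c → X.χ c t = 1) : t = 1 := by
  obtain ⟨_, X₀, ⟨K⟩⟩ := hE.kit8
  obtain ⟨ζ, β, -, -, rfl⟩ := K.exists_el hE.ok8 ht
  refine (K.τ_ψ_eq_one hE.ok8 β ζ).2 fun i => ?_
  obtain ⟨γ, hγ⟩ := pm_co pm_E8 (sr i)
  rw [Nat.cast_one, one_smul] at hγ
  rw [← sr_dot i β, dotProduct_comm, hγ, co_comm sl_E8, dotProduct]
  refine Finset.dvd_sum fun m _ => Dvd.dvd.mul_left ?_ _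
  have h1 := h _ (K.rt_sr m)
  rwa [K.χ_ψ, Units.val_eq_one, AddEquiv.apply_symm_apply, sr_dot, ← orderOf_dvd_iff_zpow_eq_one] at h1

theorem bg8 (hE : TE X 8) (hS : ∀ c, X.Rt c → c ∈ X.Sz S) (hc : X.Rt c) : c ∈ Bg X (X.Sz S) := by
  obtain ⟨_, X₀, ⟨K⟩⟩ := hE.kit8
  obtain ⟨s, e⟩ := K.forall_rt (Q := fun a => ∃ t : Fin chevE8.nroots, a ⬝ᵥ co chevE8 8 (vec chevE8 8 t) = -1) Nf.nb8 hc
  exact ⟨hS c hc, _, hS _ (K.rt_vec s), by rw [K.wt_cor _ (K.rt_vec s), AddEquiv.apply_symm_apply, e]⟩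

/-- a stable component is centralised -/
theorem pk (hPK : BoxPK) (h : St X D S y) (hu : u ∈ X.T) (hu' : u ∈ Zn D) (hx : x ∈ X.T) (hx' : x ∈ Zn D)
    (x3 : x ^ 3 ∈ Zc X (X.Sz S)) (hc : Cmp X (X.Sz (insert u (S : Set Y))) a b) (hg : X.g a ∈ A2 X a b) :
    x ∈ Zc X (A2 X a b) := by
  by_contra e
  have fr := boxFr X 3 D S Nat.prime_three h.p3 h.pi h.loc.pg (fun _ hd => (h.loc.le hd).1) h.can
  have sub : X.Sz (insert u (S : Set Y)) ⊆ X.Sz S := Sz_anti (Set.subset_insert _ _)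
  exact hPK X D S ⊥ y _ a b x h bot_le (Set.insert_subset hu (Zl.Can.le_T h.can)) sub hc (fr.2.2.2.2 u hu hu').2 hx'.1 hx e
    (Ln.Zc_anti (hc.sub.trans sub) x3) (fun d hd => by
      rw [hx'.2 d hd, mul_inv_cancel_right, mul_inv_cancel]
      exact one_mem _) hg

section Emb

variable (E : Emb X (X.Sz S) u C r i₀ j)
include E

theorem bg (s : Fin C.nroots) : j (vec C r s) ∈ Bg X (X.Sz S) := (E.big _).2 ⟨s, rfl⟩

theorem ins {s : Fin C.nroots} (h : X.χ (j (vec C r s)) t = 1) : j (vec C r s) ∈ X.Sz (insert t (S : Set Y)) :=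
  ⟨(bg E s).1.1, fun z hz => hz.elim (fun e => e ▸ h) ((bg E s).1.2 z)⟩

theorem cnt (hp : IsType C r M) {P : (X.I → ℤ) → Prop} {Q : Fin C.nroots → Prop} [DecidablePred Q]
    (h : ∀ s : Fin C.nroots, P (j (vec C r s)) ↔ Q s) : {c | c ∈ Bg X (X.Sz S) ∧ P c}.ncard = (Finset.univ.filter Q).card := by
  rw [← Set.ncard_coe_finset, ← Set.ncard_image_of_injective _ (f := fun s : Fin C.nroots => j (vec C r s))
    fun s t e => Fin.ext (vec_inj hp s.2 t.2 (E.inj e))]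
  refine congrArg _ (Set.ext fun c => ⟨fun hc => ?_, ?_⟩)
  · obtain ⟨s, rfl⟩ := (E.big c).1 hc.1
    exact ⟨s, by simpa using (h s).1 hc.2, rfl⟩
  · rintro ⟨s, hs, rfl⟩
    exact ⟨bg E s, (h s).2 (by simpa using hs)⟩

theorem nb (hp : IsType C r M) : (Bg X (X.Sz S)).ncard = C.nroots := by
  simpa using cnt E hp (P := fun _ => True) (Q := fun _ => True) fun _ => Iff.rfl

theorem rep (hp : IsType C r M) (hu : u ∈ X.T) (hv : v ∈ X.T) (u3 : u ^ 3 ∈ Zc X (X.Sz S)) (v3 : ∀ i, i ∈ Set.univ →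
    X.χ (j (sr i)) (v ^ 3) = 1) : ∃ z : Fin r → ℤ, (∀ i, z i ∈ [(0 : ℤ), 1, 2]) ∧
      ∀ (a : Fin r → ℤ) (m n : ℤ), X.χ (j a) (u ^ m * v ^ n) = 1 ↔ 3 ∣ m * a i₀ + n * a ⬝ᵥ z := by
  have : Fact (Nat.Prime 3) := ⟨Nat.prime_three⟩
  have h1 : ∀ i, X.χ (j (sr i)) u = 1 ↔ 3 ∣ sr i i₀ := fun i => by
    obtain ⟨s, e⟩ := ex_sr hp i
    exact e ▸ E.ker s
  have hω : IsPrimitiveRoot (X.χ (j (sr i₀)) u) 3 := by
    obtain ⟨s, e⟩ := ex_sr hp i₀
    have h2 := IsPrimitiveRoot.orderOf (X.χ (j (sr i₀)) u)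
    rwa [orderOf_eq_prime ((χ_pow X _ hu 3).symm.trans (u3.2 _ (e ▸ (bg E s).1))) fun e => by
      rw [h1, sr_self] at e
      omega] at h2
  choose z h2 h3 using fun i => ex_pow (Ψ := {j (sr i)}) hv ⟨pow_mem hv 3, fun _ e => e ▸ v3 i trivial⟩ rfl hω
  refine ⟨z, h2, fun a m n => χ_uv _ hu hv hω ?_ (χ_eq (hω.ne_zero (by decide)) h3 a) m n⟩
  rw [← sr_dot i₀ a, dotProduct_comm]
  refine χ_eq (hω.ne_zero (by decide)) (fun i => ?_) a
  by_cases e : i = i₀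
  · rw [e, sr_self, _root_.zpow_one]
  · rw [sr_ne e, _root_.zpow_zero, h1, sr_ne (Ne.symm e)]
    exact dvd_zero _

theorem v3 (hp : IsType C r M) (h : v ^ 3 ∈ Zc X (X.Sz S)) : ∀ i, i ∈ Set.univ → X.χ (j (sr i)) (v ^ 3) = 1 := fun i _ => by
  obtain ⟨s, e⟩ := ex_sr hp i
  exact h.2 _ (e ▸ (bg E s).1)

theorem cnt2 (hp : IsType C r M) {z z' : Fin r → ℤ}
    (h : ∀ (a : Fin r → ℤ) (m n : ℤ), X.χ (j a) (u ^ m * v ^ n) = 1 ↔ 3 ∣ m * a i₀ + n * a ⬝ᵥ z)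
    (hz : ∀ i, i ≠ i₀ → z i = z' i) : (Pz X S u v).ncard = N2 C r i₀ z' := by
  refine cnt E hp fun s => (and_congr (E.ker s) Iff.rfl).trans (and_congr_right fun ⟨m, hm⟩ => ?_)
  have h1 := h (vec C r s) 0 1
  have h2 := dot3 (vec C r s) (z - z') i₀ fun i hi => by rw [Pi.sub_apply, hz i hi, sub_self]; exact dvd_zero _
  rw [_root_.zpow_zero, one_mul, _root_.zpow_one] at h1
  rw [dotProduct_sub, hm, mul_assoc] at h2
  rw [h1]
  omega

theorem cmp (hS : SL C r) {a b : Fin C.nroots} (ha : X.χ (j (vec C r a)) t = 1) (hb : X.χ (j (vec C r b)) t = 1)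
    (hab : vec C r a ⬝ᵥ co C r (vec C r b) = -1) (h : ∀ c : Fin C.nroots, X.χ (j (vec C r c)) t = 1 →
      A2P (vec C r a) (vec C r b) (vec C r c) ∨
        (vec C r c ⬝ᵥ co C r (vec C r a) = 0 ∧ vec C r c ⬝ᵥ co C r (vec C r b) = 0)) :
    Cmp X (X.Sz (insert t (S : Set Y))) (j (vec C r a)) (j (vec C r b)) := by
  have h1 := (E.pr _ a).trans ((co_comm hS _ _).trans hab)
  have ha' : j (vec C r a) ∈ X.Lam (insert t (S : Set Y)) := (ins E ha).2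
  have hb' : j (vec C r b) ∈ X.Lam (insert t (S : Set Y)) := (ins E hb).2
  refine ⟨fun c hc => ⟨Dec.a2_rt (bg E a).1.1 (bg E b).1.1 h1 c hc, show c ∈ X.Lam (insert t (S : Set Y)) from ?_⟩,
    (E.pr _ b).trans hab, h1, fun c hc hn => ?_⟩
  · rcases hc with rfl | rfl | rfl | rfl | rfl | rfl
    exacts [ha', hb', add_mem ha' hb', neg_mem ha', neg_mem hb', neg_mem (add_mem ha' hb')]
  by_cases e : c ∈ Bg X (X.Sz S)
  · obtain ⟨s, rfl⟩ := (E.big c).1 e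
    rw [E.pr, E.pr]
    exact (h s (hc.2 t (.inl rfl))).resolve_left fun e => hn ((mem_A2 E.inj _ _ _).2 e)
  · have h2 := (E.oth c (Sz_anti (Set.subset_insert _ _) hc) e).2
    exact ⟨h2 a, h2 b⟩

/-- the canonical component -/
theorem can (hS : SL C r) (hE : TE X n) (h : St X D S y) (hu : u ∈ X.T) (hF : F u = u) {a b : Fin r → ℤ} (hc : Cn C r i₀ a b) :
    Cmp X (X.Sz (insert u (S : Set Y))) (j a) (j b) ∧ X.g (j a) ∈ A2 X (j a) (j b) := by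
  obtain ⟨⟨a, rfl⟩, ⟨b, rfl⟩, h1, h2, h3, h4⟩ := hc
  have c1 := cmp E hS ((E.ker a).2 h1) ((E.ker b).2 h2) h3 fun c hc =>
    (h4 c ((E.ker c).1 hc)).imp_right fun e => ⟨e.1, e.2.1⟩
  have hg : ∀ c ∈ X.Sz (insert u (S : Set Y)), X.g c ∈ X.Sz (insert u (S : Set Y)) := fun c =>
    X.g_mem_Sz (Set.insert_subset hu (Zl.Can.le_T h.can)) fun z hz =>
      hz.elim (fun e => .inl (e ▸ hF)) fun e => .inr (h.can.stF z e)
  refine ⟨c1, by_contra fun hn => ?_⟩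
  obtain ⟨c, e⟩ := (E.big _).1 (g_Bg hE h (bg E a))
  have c2 := hg _ (c1.sub Dec.a_mem)
  rw [← e] at c2 hn
  obtain ⟨-, -, d, ⟨d1, d2⟩, d', d3, d4, d5⟩ := (h4 c ((E.ker c).1 (c2.2 u (.inl rfl)))).resolve_left fun e =>
    hn ((mem_A2 E.inj _ _ _).2 e)
  have key : ∀ d : Fin C.nroots, 3 ∣ vec C r d i₀ → vec C r d ⬝ᵥ co C r (vec C r c) ≠ 0 →
      ∃ w ∈ A2 X (j (vec C r a)) (j (vec C r b)), X.g w = j (vec C r d) := fun d d1 d2 => by
    obtain ⟨w, hw, e'⟩ := (X.g_bijOn X.Sz_root hg).surjOn (ins E ((E.ker d).2 d1))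
    refine ⟨w, A2K.mem_of_ne c1 X.Sz_root hw Dec.a_mem fun e0 => d2 ?_, e'⟩
    rw [← E.pr, ← e', e]
    exact (A2K.g_pair hw.1 (bg E a).1.1).2 e0
  obtain ⟨w, w1, w2⟩ := key d d1 d2
  obtain ⟨w', w3, w4⟩ := key d' d3 d4
  refine A2K.ne_zero c1 X.Sz_root w1 w3 ((A2K.g_pair (c1.sub w1).1 (c1.sub w3).1).1 ?_)
  rw [w2, w4, E.pr, d5]

end Emb

namespace Hy

variable (H : Hy X n D S y u v)
include H

theorem pw (m n : ℤ) : u ^ m * v ^ n ∈ X.T ∧ u ^ m * v ^ n ∈ Zn D :=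
  ⟨mul_mem (zpow_mem H.uT m) (zpow_mem H.vT n), mul_mem (zpow_mem H.uZ m) (zpow_mem H.vZ n)⟩

theorem fix (hx : x ∈ Zn D) : F x = x := (H.st.loc.le hx.1).2

theorem chg {a b c d : ℤ} (h : ¬ 3 ∣ a * d - b * c) : Hy X n D S y (u ^ a * v ^ b) (u ^ c * v ^ d) := by
  have e : Commute u v := X.T_comm H.uT H.vT
  refine ⟨H.te, H.st, (H.pw a b).1, (H.pw c d).1, (H.pw a b).2, (H.pw c d).2, fun i j hn h1 =>
    H.ne (a * i + c * j) (b * i + d * j) (fun h2 => hn (det3 (by rwa [mul_comm c]) h2.1 h2.2)) ?_⟩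
  rwa [(e.zpow_zpow a b).mul_zpow, (e.zpow_zpow c d).mul_zpow, ← _root_.zpow_mul, ← _root_.zpow_mul, ← _root_.zpow_mul,
    ← _root_.zpow_mul, (e.symm.zpow_zpow _ _).mul_mul_mul_comm, ← _root_.zpow_add, ← _root_.zpow_add] at h1

theorem swap : Hy X n D S y v u := by simpa using H.chg (a := 0) (b := 1) (c := 1) (d := 0) (by decide)

theorem nf : u ^ 3 ∈ Zc X (X.Sz S) ∧
      (((n = 6 → ∀ c, X.Rt c → c ∈ X.Sz S) ∧ ∃ j, Emb X (X.Sz S) u chevE6 6 3 j) ∨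
      (n ≠ 6 ∧ (n = 7 → ∀ c, X.Rt c → c ∈ X.Sz S) ∧ ∃ j, Emb X (X.Sz S) u chevE7 7 4 j) ∨
      (n = 8 ∧ (∀ c, X.Rt c → c ∈ X.Sz S) ∧
        ((∃ j, Emb X (X.Sz S) u chevE8 8 1 j) ∨ ∃ j, Emb X (X.Sz S) u chevE8 8 6 j))) :=
  B.nf H.te H.st.p3 H.st.can.z0 H.uT (fun z hz => Zl.el_D H.st.loc z (hz ▸ H.uZ.1))
    ((boxFr X 3 D S Nat.prime_three H.st.p3 H.st.pi H.st.loc.pg (fun _ hd => (H.st.loc.le hd).1) H.st.can).2.2.2.2 u H.uT H.uZ).1
    (by simpa using H.ne 1 0 (by decide))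

theorem u3 : u ^ 3 ∈ Zc X (X.Sz S) := H.nf.1

theorem v3 : v ^ 3 ∈ Zc X (X.Sz S) := H.swap.nf.1

theorem log : ∃ A B : (X.I → ℤ) → ℤ, ∀ c ∈ X.Sz S, ∀ m n : ℤ, X.χ c (u ^ m * v ^ n) = 1 ↔ 3 ∣ m * A c + n * B c := by
  obtain ⟨ζ, hζ⟩ := exists_prim p k (n := 3) fun h =>
    H.st.p3 ((Nat.prime_dvd_prime_iff_eq Fact.out Nat.prime_three).1 h).symm
  have hω : IsPrimitiveRoot (ζ : k) 3 := IsPrimitiveRoot.coe_units_iff.2 (hζ ▸ IsPrimitiveRoot.orderOf ζ)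
  choose! A _ hA using fun c hc => ex_pow (c := c) H.uT H.u3 hc hω
  choose! B _ hB using fun c hc => ex_pow (c := c) H.vT H.v3 hc hω
  exact ⟨A, B, fun c hc => χ_uv c H.uT H.vT hω (hA c hc) (hB c hc)⟩

theorem pz {a b c d : ℤ} (h : ¬ 3 ∣ a * d - b * c) : Pz X S (u ^ a * v ^ b) (u ^ c * v ^ d) = Pz X S u v := by
  obtain ⟨A, B, h1⟩ := H.log
  refine Set.ext fun e => and_congr_right fun he => ?_
  have h2 := h1 e he.1 1 0
  have h3 := h1 e he.1 0 1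
  simp only [_root_.zpow_zero, _root_.zpow_one, mul_one, one_mul, zero_mul, add_zero, zero_add] at h2 h3
  rw [h1 e he.1, h1 e he.1, h2, h3]
  exact ⟨fun k => det3 h k.1 k.2, fun k => ⟨dvd_add (k.1.mul_left _) (k.2.mul_left _), dvd_add (k.1.mul_left _) (k.2.mul_left _)⟩⟩

/-- the four lines of the plane -/
theorem sum : (Pz X S (u ^ (1 : ℤ) * v ^ (0 : ℤ)) 1).ncard + (Pz X S (u ^ (0 : ℤ) * v ^ (1 : ℤ)) 1).ncard +
    (Pz X S (u ^ (1 : ℤ) * v ^ (1 : ℤ)) 1).ncard + (Pz X S (u ^ (1 : ℤ) * v ^ (-1 : ℤ)) 1).ncard =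
      (Bg X (X.Sz S)).ncard + 3 * (Pz X S u v).ncard := by
  obtain ⟨A, B, h1⟩ := H.log
  have hf : (Bg X (X.Sz S)).Finite := X.finite_roots.subset fun _ h => h.1.1
  have h2 : ∀ (x x' : Y) (Q : (X.I → ℤ) → Prop) [DecidablePred Q], (∀ c ∈ X.Sz S, X.χ c x = 1 ∧ X.χ c x' = 1 ↔ Q c) →
      (Pz X S x x').ncard = (hf.toFinset.filter Q).card := fun x x' Q _ h => by
    rw [← Set.ncard_coe_finset]
    refine congrArg _ (Set.ext fun c => ?_)
    rw [Finset.coe_filter, Set.mem_ofPred, Set.Finite.mem_toFinset]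
    exact and_congr_right fun hc => h c hc.1
  rw [Set.ncard_eq_toFinset_card _ hf, ← H.pz (a := 1) (b := 0) (c := 0) (d := 1) (by decide),
    h2 _ _ (fun s => 3 ∣ A s) fun c hc => by rw [h1 c hc]; simp [X.χ_one],
    h2 _ _ (fun s => 3 ∣ B s) fun c hc => by rw [h1 c hc]; simp [X.χ_one],
    h2 _ _ (fun s => 3 ∣ A s + B s) fun c hc => by rw [h1 c hc]; simp [X.χ_one],
    h2 _ _ (fun s => 3 ∣ A s - B s) fun c hc => by rw [h1 c hc]; simp [X.χ_one, sub_eq_add_neg],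
    h2 _ _ (fun s => 3 ∣ A s ∧ 3 ∣ B s) fun c hc => by rw [h1 c hc, h1 c hc]; simp]
  exact four _ A B

end Hy

end Cfsg.Agent.RC.B.Pl

private theorem dce_b3ea6f87a405 : _root_.True := by
  try have : _root_.True := by simp only [_root_.Cfsg.Agent.RC.B.Pl.Hy.congr_simp]
  try have : _root_.True := by simp only [_root_.Cfsg.Agent.KM.Tor.A2P.eq_1]
  exact _root_.True.intro
end

-- part: RC/B/Pl
section
set_option linter.all false
open scoped Cfsg.Agent.FastGrp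

/-!
# RC (S4576), [PL]: no plane modulo the centre of the canonical Levi subgroup (helper12)
-/

set_option autoImplicit false
set_option linter.unusedSectionVars false

namespace Cfsg.Agent.RC.B

open Cfsg Cfsg.Lie Cfsg.Agent.DL Cfsg.Agent.Nodes.Reps Matrix Cfsg.Agent.KM.Ht Cfsg.Agent.KM.Tor
open Cfsg.Agent.KZ.DatX Cfsg.Agent.Nodes.RGDChev Cfsg.Agent.Nodes.Coroot Cfsg.Agent.ChevalleyStructure.NPerm
  Cfsg.Agent.ChevalleyStructure.CoxeterGeom Cfsg.Agent.ChevalleyStructure.CoxeterGeomTypes Cfsg.Agent.Tits.Roots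
open Cfsg.Agent.TO.X.Cn (χ_pow)
open Cfsg.Agent.H931.KC (hr)
open Cfsg.Agent.KM.Ex (sr_dot)

/-- the plane of `E₈` with the centraliser `A₂ A₂ A₂ A₂` -/
def BoxP8 : Prop := AllD fun {_} _ {k} _ _ {Y} _ _ _ _ _ {F} _ _ X => ∀ (D S : Subgroup Y) (y u x : Y)
  (a b : Fin 4 → X.I → ℤ), TE X 8 → St X D S y → (∀ c, X.Rt c → c ∈ X.Sz S) → u ∈ X.T → x ∈ X.T → u ∈ Zn D → x ∈ Zn D →
  x ^ 3 = 1 → (∀ i, Cmp X (X.Sz {x, u}) (a i) (b i)) → (∀ c ∈ X.Sz {x, u}, ∃ i, c ∈ A2 X (a i) (b i)) →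
  (∀ i j, i ≠ j → a i ∉ A2 X (a j) (b j)) → (∀ i, X.g (a i) ∈ A2 X (a i) (b i)) →
  (∀ i (ω : kˣ), orderOf ω = 3 → F (zc X (a i) (b i) ω) = zc X (a i) (b i) ω) → Cmp X (X.Sz {u}) (a 0) (b 0) →
  Lvs X (X.Sz {u} \ A2 X (a 0) (b 0)) → (X.Sz {u} \ A2 X (a 0) (b 0)).ncard = 72 →
  (∀ ζ ∈ Zc X (X.Sz {u}), ζ ^ 3 = 1 → ζ ∈ Subgroup.zpowers u) → False

namespace Pl

theorem eps {q ε m n A A' B B' : ℤ} (e : 3 ∣ q - ε) (h : 3 ∣ m * (A' - q * A) + n * (B' - q * B)) :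
    3 ∣ m * (A' - ε * A) + n * (B' - ε * B) :=
  (show m * (A' - q * A) + n * (B' - q * B) + (q - ε) * (m * A + n * B) = m * (A' - ε * A) + n * (B' - ε * B) by ring) ▸
    dvd_add h (e.mul_right _)

variable {p : ℕ} [Fact p.Prime] {k : Type} [Field k] [CharP k p] {Y : Type} [Group Y] {N : Type} [Fintype N]
  [DecidableEq N] {ρ : Y →* GL N k} {F : MulAut Y} {G : Subgroup Y} [IsAlgClosed k] (X : Datum p ρ F G)

/-- an element of type `E₆ A₂` -/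
structure Ee (u : Y) (Ψ : Set (X.I → ℤ)) (a b : X.I → ℤ) : Prop where
  cmp : Cmp X (X.Sz {u}) a b
  g : X.g a ∈ A2 X a b
  sub : A2 X a b ⊆ Ψ
  lv : ∀ c, X.Rt c → (c ∈ X.Sz {u} \ A2 X a b ↔ X.wt c ⬝ᵥ (X.cor a + (5 : ℤ) • X.cor b) = 0)
  n72 : (X.Sz {u} \ A2 X a b).ncard = 72
  n78 : (X.Sz {u}).ncard = 78
  n6 : (A2 X a b).ncard = 6
  h3 : ∀ ζ ∈ Zc X (X.Sz {u}), ζ ^ 3 = 1 → ζ ∈ Subgroup.zpowers u

variable {X} {n : ℕ} {D S : Subgroup Y} {y u v x t : Y}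

theorem nz {C : ChevalleyDatum} {r : ℕ} {M : CoxeterMatrix (Fin r)} {i₀ : Fin r} {j : (Fin r → ℤ) →+ (X.I → ℤ)}
    (E : Emb X (X.Sz S) u C r i₀ j) (hp : IsType C r M) :
    (Pz X S u 1).ncard = (Finset.univ.filter fun s : Fin C.nroots => 3 ∣ vec C r s i₀).card :=
  cnt E hp fun s => by rw [X.χ_one, E.ker, and_iff_left rfl]

namespace Hy

variable (H : Hy X n D S y u v) (hPK : BoxPK)
include H hPK

theorem t6 {j : (Fin 6 → ℤ) →+ (X.I → ℤ)} (E : Emb X (X.Sz S) u chevE6 6 3 j) : (Pz X S u v).ncard ≠ 0 := fun h0 => by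
  rw [Set.ncard_eq_zero (X.finite_roots.subset fun _ h => h.1.1.1)] at h0
  obtain ⟨z, z1, z2⟩ := rep E hpE6 H.uT H.vT H.u3 (Pl.v3 E hpE6 H.v3)
  have h1 : ∀ s, X.χ (j (r6 s)) u = 1 → X.χ (j (r6 s)) v = 1 → False := fun s e e' => h0.subset ⟨bg E s, e, e'⟩
  have h2 : ∀ a, (∃ s, r6 s = a) → 3 ∣ a 3 → ¬ 3 ∣ a ⬝ᵥ z := by
    rintro _ ⟨s, rfl⟩ e e'
    exact h1 s ((E.ker s).2 e) (by simpa using (z2 (r6 s) 0 1).2 (by simpa using e'))
  obtain ⟨s, t, r, c, hs, ht, hr, hc, rfl⟩ : ∃ s t r c : ℤ, s ∈ [(1 : ℤ), 2] ∧ t ∈ [(1 : ℤ), 2] ∧ r ∈ [(1 : ℤ), 2] ∧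
      c ∈ [(0 : ℤ), 1, 2] ∧ z = ![s, t, s, c, r, r] := by
    have h3 := fun a ha => h2 a (rt6' a ha)
    simp [dotProduct, Fin.sum_univ_six] at h3
    have := z1 0; have := z1 1; have := z1 2; have := z1 4; have := z1 5
    simp only [List.mem_cons, List.not_mem_nil, or_false] at *
    refine ⟨z 0, z 1, z 4, z 3, by omega, by omega, by omega, z1 3, funext fun i => ?_⟩
    fin_cases i <;> simp <;> omega
  choose τ hτ using fun a : Fin chevE6.nroots => (E.big _).1 (g_Bg H.te H.st (bg E a))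
  choose σ hσ using ex_sr hpE6
  obtain ⟨f, hf⟩ : ∃ f, ∀ a, X.Rt a → X.ex a = f := ⟨_, fun a ha => hex H.te ha (bg E (σ 0)).1.1⟩
  obtain ⟨ε, e1, e2⟩ : ∃ ε : ℤ, (ε = 1 ∨ ε = -1) ∧ 3 ∣ (p : ℤ) ^ f - ε := by
    have h3 : ¬ 3 ∣ (p : ℤ) ^ f := fun e => H.st.p3 ((Nat.prime_dvd_prime_iff_eq Nat.prime_three Fact.out).1
      (Int.natCast_dvd_natCast.1 (Int.prime_three.dvd_of_dvd_pow e)))
    by_cases e : 3 ∣ (p : ℤ) ^ f - 1
    exacts [⟨1, .inl rfl, e⟩, ⟨-1, .inr rfl, by omega⟩]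
  have h4 : ∀ a, r6 (τ a) = r6 a ᵥ* Matrix.of fun i => r6 (τ (σ i)) := fun a => E.inj (X.ψ_injective (by
    rw [hτ, X.ψ_g (bg E a).1.1, hf _ (bg E a).1.1, vecMul_eq_sum, map_sum, map_sum]
    conv_lhs => rw [sum_sr (vec chevE6 6 a), map_sum, Finset.smul_sum]
    refine Finset.sum_congr rfl fun i _ => ?_
    rw [map_zsmul, map_zsmul, map_zsmul, smul_comm, ← hσ, ← hf _ (bg E (σ i)).1.1, ← X.ψ_g (bg E (σ i)).1.1, ← hτ]
    rfl))
  have h5 : ∀ a (m n : ℤ), 3 ∣ m * (r6 (τ a) 3 - ε * r6 a 3) + n * (r6 (τ a) ⬝ᵥ ![s, t, s, c, r, r] - ε * r6 a ⬝ᵥ ![s, t, s, c, r, r]) :=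
    fun a m n => by
    have k1 := X.χ_F (bg E a).1.1 (H.pw m n).1
    rw [H.fix (H.pw m n).2, hf _ (bg E a).1.1, ← hτ] at k1
    have k2 := (z2 (r6 (τ a) - (p : ℤ) ^ f • r6 a) m n).1 (by
      rw [map_sub, sub_eq_add_neg, X.χ_add, X.χ_neg, map_zsmul, X.χ_zsmul, k1, ← Nat.cast_pow, _root_.zpow_natCast,
        mul_inv_cancel₀ (pow_ne_zero _ (X.χ_ne_zero _ _))])
    rw [sub_dotProduct, smul_dotProduct, Pi.sub_apply, Pi.smul_apply, smul_eq_mul, smul_eq_mul] at k2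
    exact eps e2 k2
  obtain ⟨a, ha, h6⟩ : ∃ a ∈ l6, 3 ∣ a ⬝ᵥ ((Matrix.of fun i => r6 (τ (σ i))) *ᵥ ![s, 0, s, 0, -r, -r] - ε • ![s, 0, s, 0, -r, -r]) := by
    generalize (Matrix.of fun i => r6 (τ (σ i))) *ᵥ ![s, 0, s, 0, -r, -r] - ε • ![s, 0, s, 0, -r, -r] = w
    simp [l6, dotProduct, Fin.sum_univ_six]
    omega
  obtain ⟨b, b1, b2, b3, b4⟩ := m6 s hs t ht r hr c hc a ha
  obtain ⟨a, rfl⟩ := rt6 a ha
  rw [dotProduct_sub, dotProduct_mulVec, ← h4, dotProduct_smul, smul_eq_mul] at h6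
  have h7 : K6 ![s, t, s, c, r, r] ![s, 0, s, 0, -r, -r] (r6 a) (r6 (τ a)) ε :=
    ⟨by simpa using h5 a 1 0, by simpa only [zero_mul, one_mul, zero_add] using h5 a 0 1, h6⟩
  have c1 := cmp E sl_E6 (t := u ^ (r6 a ⬝ᵥ ![s, t, s, c, r, r]) * v ^ (-r6 a 3)) (a := a) (b := b)
    ((z2 _ _ _).2 ⟨0, by ring⟩) ((z2 _ _ _).2 b3) b2 fun c hc => by
      have h8 := b4 c ((z2 _ _ _).1 hc)
      split_ifs at h8
      exacts [.inl h8, .inr h8]
  have h8 := b4 (τ a) (by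
    convert h5 a (r6 a ⬝ᵥ ![s, t, s, c, r, r]) (-r6 a 3) using 1
    ring)
  rw [if_pos (e1.imp (fun e => e ▸ h7) fun e => e ▸ h7), ← mem_A2 E.inj, hτ] at h8
  exact h1 a ((pk hPK H.st (H.pw _ _).1 (H.pw _ _).2 H.uT H.uZ H.u3 c1 h8).2 _ Dec.a_mem)
    ((pk hPK H.st (H.pw _ _).1 (H.pw _ _).2 H.vT H.vZ H.v3 c1 h8).2 _ Dec.a_mem)

theorem t7 {j : (Fin 7 → ℤ) →+ (X.I → ℤ)} (E : Emb X (X.Sz S) u chevE7 7 4 j) : (Pz X S u v).ncard ≠ 6 := by
  obtain ⟨z, z1, z2⟩ := rep E hpE7 H.uT H.vT H.u3 (Pl.v3 E hpE7 H.v3)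
  obtain ⟨c1, c2⟩ := can E sl_E7 H.te H.st H.uT (H.fix H.uZ) cn7
  have h1 := pk hPK H.st H.uT H.uZ H.vT H.vZ H.v3 c1 c2
  have h2 := (z2 (sr 5) 0 1).1 (by simpa using h1.2 _ Dec.a_mem)
  have h3 := (z2 (sr 6) 0 1).1 (by simpa using h1.2 _ Dec.b_mem)
  rw [sr_dot] at h2 h3
  rw [cnt2 E hpE7 z2 (z' := ![z 0, z 1, z 2, z 3, 0, 0, 0]) fun i hi => ?_]
  · exact z7 _ (z1 0) _ (z1 1) _ (z1 2) _ (z1 3)
  have := z1 5; have := z1 6
  simp only [List.mem_cons, List.not_mem_nil, or_false] at *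
  fin_cases i <;> simp at hi ⊢ <;> omega

omit hPK in
theorem t8a {j : (Fin 8 → ℤ) →+ (X.I → ℤ)} (E : Emb X (X.Sz S) u chevE8 8 1 j) : 3 ∣ (Pz X S u v).ncard := by
  obtain ⟨z, -, z2⟩ := rep E hpE8 H.uT H.vT H.u3 (Pl.v3 E hpE8 H.v3)
  rw [cnt2 E hpE8 z2 (z' := z) fun _ _ => rfl, N2, ← Finset.filter_filter]
  have h0 := n8a
  have h1 := sq8
  generalize (Finset.univ.filter fun s : Fin chevE8.nroots => 3 ∣ vec chevE8 8 s 1) = T at h0 h1 ⊢
  have h2 : 3 ∣ ∑ s ∈ T, vec chevE8 8 s ⬝ᵥ z * vec chevE8 8 s ⬝ᵥ z := by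
    simp only [dotProduct, Finset.sum_mul_sum]
    rw [Finset.sum_comm]
    refine Finset.dvd_sum fun i _ => ?_
    rw [Finset.sum_comm]
    refine Finset.dvd_sum fun i' _ => ?_
    simp only [mul_mul_mul_comm _ (z i), ← Finset.sum_mul]
    exact (h1 i i').mul_right _
  have h3 : 3 ∣ ∑ s ∈ T, (vec chevE8 8 s ⬝ᵥ z * vec chevE8 8 s ⬝ᵥ z - 1 + if 3 ∣ vec chevE8 8 s ⬝ᵥ z then 1 else 0) := by
    refine Finset.dvd_sum fun s _ => ?_
    generalize vec chevE8 8 s ⬝ᵥ z = w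
    split_ifs with e
    · rw [sub_add_cancel]
      exact e.mul_left _
    · rw [add_zero, show w * w - 1 = (w - 1) * (w + 1) by ring]
      by_cases e' : 3 ∣ w - 1
      exacts [e'.mul_right _, Dvd.dvd.mul_left (by omega) _]
  rw [Finset.sum_add_distrib, Finset.sum_sub_distrib, Finset.sum_boole, Finset.sum_const, h0] at h3
  simp only [nsmul_eq_mul, Nat.cast_ofNat, mul_one] at h3
  omega

end Hy

theorem Hy.t8e (H : Hy X 8 D S y u v) (hPK : BoxPK) (hS : ∀ c, X.Rt c → c ∈ X.Sz S) {j : (Fin 8 → ℤ) →+ (X.I → ℤ)}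
    (E : Emb X (X.Sz S) u chevE8 8 6 j) : (Pz X S u v).ncard ≠ 18 ∧ ∃ a b, Ee X u (Pz X S u v) a b := by
  obtain ⟨z, z1, z2⟩ := rep E hpE8 H.uT H.vT H.u3 (Pl.v3 E hpE8 H.v3)
  obtain ⟨c1, c2⟩ := can E sl_E8 H.te H.st H.uT (H.fix H.uZ) cn8
  have h1 := pk hPK H.st H.uT H.uZ H.vT H.vZ H.v3 c1 c2
  rw [One.Sz_insert, Set.inter_eq_left.2 fun c hc => hS c hc.1] at c1
  have a1 : ∀ s : Fin chevE8.nroots, j (vec chevE8 8 s) ∈ X.Sz {u} ↔ 3 ∣ vec chevE8 8 s 6 := fun s =>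
    ⟨fun h => (E.ker s).1 (h.2 u rfl), fun h => ⟨(bg E s).1.1, fun _ e => e ▸ (E.ker s).2 h⟩⟩
  have a2 : ∀ A ⊆ X.Sz {u}, A = {c | c ∈ Bg X (X.Sz S) ∧ c ∈ A} := fun A hA =>
    Set.ext fun c => ⟨fun h => ⟨bg8 H.te hS (hA h).1, h⟩, fun h => h.2⟩
  have a3 : (X.Sz {u} \ A2 X (j (sr 7)) (j (-hr chevE8 8))).ncard = 72 := by
    rw [a2 _ Set.sdiff_subset, ← n8l]
    exact cnt E hpE8 fun s => and_congr (a1 s) (mem_A2 E.inj _ _ _).not
  have a4 : (X.Sz {u}).ncard = 78 := by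
    rw [a2 _ subset_rfl, ← n8e]
    exact cnt E hpE8 a1
  refine ⟨?_, _, _, c1, c2, fun c hc => ⟨bg8 H.te hS (c1.sub hc).1, (c1.sub hc).2 u rfl, h1.2 c hc⟩, fun c hc => ?_, a3, a4, ?_,
    fun ζ hζ h3 => ?_⟩
  · have h2 := (z2 (sr 7) 0 1).1 (by simpa using h1.2 _ Dec.a_mem)
    have h3 := (z2 (-hr chevE8 8) 0 1).1 (by simpa only [_root_.zpow_zero, _root_.zpow_one, one_mul] using h1.2 _ Dec.b_mem)
    rw [sr_dot] at h2
    simp [hr8, dotProduct, Fin.sum_univ_eight] at h3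
    have h4 := z1 7
    have h5 := z1 0
    simp only [List.mem_cons, List.not_mem_nil, or_false] at h4 h5
    rw [cnt2 E hpE8 z2 (z' := ![z 0, z 1, z 2, z 3, z 4, z 5, 0, 0]) fun i hi => by fin_cases i <;> simp at hi ⊢ <;> omega]
    have h6 : Z8 (z 0) := by
      rcases h5 with e | e | e <;> rw [e]
      exacts [z80, z81, z82]
    exact h6 _ (z1 2) _ (z1 4) _ (z1 5) (by omega) _ (z1 1) _ (z1 3)
  · obtain ⟨s, rfl⟩ := (E.big c).1 (bg8 H.te hS hc)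
    obtain ⟨⟨a, ea⟩, ⟨b, eb⟩, -⟩ := cn8
    refine (and_congr (a1 s) (mem_A2 E.inj _ _ _).not).trans ((lv8 s).trans ?_)
    rw [← ea, ← eb, dotProduct_add, dotProduct_smul, E.pr, E.pr, smul_eq_mul]
  · have := Set.ncard_sdiff_add_ncard_of_subset c1.sub (X.finite_roots.subset fun _ h => h.1)
    omega
  · obtain ⟨w, -, w2⟩ := rep E hpE8 H.uT hζ.1 H.u3 fun i _ => by rw [h3, X.χ_one]
    refine ⟨w 6, (eq_of_inv_mul_eq_one (cen8 H.te (mul_mem (inv_mem (zpow_mem H.uT _)) hζ.1) fun c hc => ?_))⟩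
    obtain ⟨s, rfl⟩ := (E.big c).1 (bg8 H.te hS hc)
    have h4 := dot3 (vec chevE8 8 s) w 6 fun i hi => by
      obtain ⟨s, e⟩ := ex_sr hpE8 i
      have h5 := (w2 (sr i) 0 1).1 (by
        simpa [← e] using hζ.2 _ ((a1 s).2 (by rw [e, sr_ne (Ne.symm hi)]; exact dvd_zero _)))
      rwa [sr_dot, zero_mul, zero_add, one_mul] at h5
    simpa using (w2 (vec chevE8 8 s) (-w 6) 1).2 (by convert h4 using 1; ring)

theorem Hy.typ (H : Hy X n D S y u v) (hPK : BoxPK) :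
    ((Bg X (X.Sz S)).ncard = 72 ∧ (Pz X S u 1).ncard = 18 ∧ (Pz X S u v).ncard ≠ 0) ∨
    ((Bg X (X.Sz S)).ncard = 126 ∧ (Pz X S u 1).ncard = 36 ∧ (Pz X S u v).ncard ≠ 6) ∨
    ((Bg X (X.Sz S)).ncard = 240 ∧ (Pz X S u 1).ncard = 72 ∧ 3 ∣ (Pz X S u v).ncard) ∨
    (((Bg X (X.Sz S)).ncard = 240 ∧ (Pz X S u 1).ncard = 78 ∧ (Pz X S u v).ncard ≠ 18) ∧
      n = 8 ∧ (∀ c, X.Rt c → c ∈ X.Sz S) ∧ ∃ a b, Ee X u (Pz X S u v) a b) := by
  rcases H.nf.2 with ⟨-, j, E⟩ | ⟨-, -, j, E⟩ | ⟨rfl, hS, ⟨j, E⟩ | ⟨j, E⟩⟩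
  · exact .inl ⟨nb E hpE6, (nz E hpE6).trans n6, H.t6 hPK E⟩
  · exact .inr (.inl ⟨nb E hpE7, (nz E hpE7).trans n7, H.t7 hPK E⟩)
  · exact .inr (.inr (.inl ⟨nb E hpE8, (nz E hpE8).trans n8a, H.t8a E⟩))
  · exact .inr (.inr (.inr ⟨⟨nb E hpE8, (nz E hpE8).trans n8e, (H.t8e hPK hS E).1⟩, rfl, hS, (H.t8e hPK hS E).2⟩))

/-- the four lines -/
def ln : Fin 4 → ℤ × ℤ := ![(1, 0), (0, 1), (1, 1), (1, -1)]

theorem ln_ne : ∀ i j, i ≠ j → ¬ 3 ∣ (ln i).1 * (ln j).2 - (ln i).2 * (ln j).1 := by decide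

theorem Hy.all (H : Hy X n D S y u v) (hPK : BoxPK) : (Pz X S u v).ncard = 24 ∧ n = 8 ∧ (∀ c, X.Rt c → c ∈ X.Sz S) ∧
    ∀ i, ∃ a b, Ee X (u ^ (ln i).1 * v ^ (ln i).2) (Pz X S u v) a b := by
  have key := fun (a b c d : ℤ) (h : ¬ 3 ∣ a * d - b * c) => H.pz h ▸ (H.chg h).typ hPK
  have h0 := key 1 0 0 1 (by decide)
  have h1 := key 0 1 1 0 (by decide)
  have h2 := key 1 1 0 1 (by decide)
  have h3 := key 1 (-1) 0 1 (by decide)
  have h4 := H.sum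
  rcases h0 with h0 | h0 | h0 | ⟨h0, a0⟩ <;> rcases h1 with h1 | h1 | h1 | ⟨h1, a1⟩ <;> try omega
  all_goals rcases h2 with h2 | h2 | h2 | ⟨h2, a2⟩ <;> rcases h3 with h3 | h3 | h3 | ⟨h3, a3⟩ <;> try omega
  refine ⟨by omega, a0.1, a0.2.1, fun i => ?_⟩
  fin_cases i
  exacts [a0.2.2, a1.2.2, a2.2.2, a3.2.2]

theorem Hy.false (H : Hy X n D S y u v) (hPK : BoxPK) (h8 : BoxP8) : False := by
  obtain ⟨h24, rfl, hS, h⟩ := H.all hPK
  choose a b h using h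
  have hf : ∀ Z : Set Y, (X.Sz Z).Finite := fun Z => X.finite_roots.subset fun _ h => h.1
  have e0 : ∀ u v : Y, Pz X S u v = X.Sz {v, u} := fun u v => Set.ext fun c =>
    ⟨fun h => ⟨h.1.1.1, fun z hz => hz.elim (fun e => e ▸ h.2.2) fun e => e ▸ h.2.1⟩,
      fun h => ⟨bg8 H.te hS h.1, h.2 u (.inr rfl), h.2 v (.inl rfl)⟩⟩
  have e1 : ∀ i j, i ≠ j → X.Sz {u ^ (ln j).1 * v ^ (ln j).2, u ^ (ln i).1 * v ^ (ln i).2} = X.Sz {v, u} := fun i j e => by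
    rw [← e0, ← e0, H.pz (ln_ne i j e)]
  rw [e0] at h h24
  have c1 : ∀ i, Cmp X (X.Sz {v, u}) (a i) (b i) := fun i => ⟨(h i).sub, (h i).cmp.ab, (h i).cmp.ba, fun c hc =>
    (h i).cmp.orth c (Sz_anti (Set.subset_insert _ _) ((e1 i (i + 1) (by fin_cases i <;> decide)).ge hc))⟩
  have dis : ∀ i j, i ≠ j → ∀ c ∈ A2 X (a i) (b i), c ∉ A2 X (a j) (b j) := fun i j e c k1 k2 => by
    have k3 := A2K.sub_of_mem (c1 i) (c1 j) X.Sz_root k1 k2
    have k4 : X.Sz {u ^ (ln i).1 * v ^ (ln i).2} ⊆ X.Sz {v, u} := fun d hd => by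
      by_cases k5 : d ∈ A2 X (a i) (b i)
      · exact (h i).sub k5
      rw [← e1 i j e, One.Sz_insert]
      refine ⟨(((h j).lv d hd.1).2 ?_).1, hd⟩
      rw [dotProduct_add, dotProduct_smul, (h i).cmp.orth' X.Sz_root d hd k5 _ (k3 Dec.a_mem),
        (h i).cmp.orth' X.Sz_root d hd k5 _ (k3 Dec.b_mem), smul_zero, add_zero]
    have := Set.ncard_le_ncard k4 (hf _)
    rw [(h i).n78] at this
    omega
  have cov : (⋃ i, A2 X (a i) (b i)) = X.Sz {v, u} := Set.eq_of_subset_of_ncard_le (Set.iUnion_subset fun i => (h i).sub) (by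
    rw [Set.ncard_iUnion_of_finite (fun i => (hf _).subset (h i).sub) fun i j e => Set.disjoint_left.2 (dis i j e), h24]
    simp [(h _).n6, finsum_eq_sum_of_fintype]) (hf _)
  have h0 := h 0
  rw [show u ^ (ln 0).1 * v ^ (ln 0).2 = u by simp [ln]] at h0
  refine h8 X D S y u v a b H.te H.st hS H.uT H.vT H.uZ H.vZ (cen8 H.te H.v3.1 fun c hc => H.v3.2 c (hS c hc)) c1
    (fun c hc => Set.mem_iUnion.1 (cov.ge hc)) (fun i j e => dis i j e _ Dec.a_mem) (fun i => (h i).g) (fun i ω hω => ?_)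
    h0.cmp ⟨_, h0.lv⟩ h0.n72 h0.h3
  obtain ⟨m, hm⟩ := (h i).h3 _ (A2K.zc_mem (h i).cmp X.Sz_root hω) (R.zc_three _ _ (hω ▸ pow_orderOf_eq_one ω))
  rw [← hm]
  exact H.fix (zpow_mem (H.pw _ _).2 m)

end Pl

/-- **[PL]** -/
theorem boxPl_of (hPK : BoxPK) (h8 : BoxP8) : BoxPl := by
  intro p _ k _ _ Y _ N _ _ ρ F G _ X n D S y u v hE h hu hv hu' hv'
  by_contra e
  exact Pl.Hy.false ⟨hE, h, hu, hv, hu', hv', fun i j h1 h2 => e ⟨i, j, h1, h2⟩⟩ hPK h8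

end Cfsg.Agent.RC.B

private theorem dce_2c77b5b93e72 : _root_.True := by
  try have : _root_.True := by simp only [_root_.Cfsg.Agent.RC.B.Pl.l6.eq_1]
  try have : _root_.True := by simp only [_root_.Cfsg.Agent.RC.B.Pl.N2.eq_1]
  try have : _root_.True := by simp only [_root_.Cfsg.Agent.RC.B.Pl.ln.eq_1]
  exact _root_.True.intro
end

-- part: RC/B/Tor
section
prune_inst 0xdffdfdbfacefffffff7ffffef9dfffd9aeefffffdffdfbffed73df2fdf6be98ffdfb97fdf492ffbed7f3bcb2b8785bfdffffffee6bfc7ffffd5ff47fffee5fe5f6bd2871969c340ffc6fffebfbff8e7f000000000000000000000000000041004210000000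
set_option linter.all false
open scoped Cfsg.Agent.FastGrp

/-!
# RC (S4576), `l = 3` : a torus in the support which contains an admissible torus (helper98)
-/

set_option autoImplicit false
set_option linter.unusedSectionVars false

namespace Cfsg.Agent.RC.B

open Cfsg Cfsg.Agent.DL Cfsg.Agent.DL.PP Cfsg.Agent.Nodes.Reps Cfsg.Agent.KM.Ht Cfsg.Agent.KM.Si Cfsg.Agent.KM.Tor
  Cfsg.Agent.Blocks Cfsg.Agent.KZ.Lie Cfsg.Agent.LV.One Cfsg.Agent.Nodes.BNOf Matrix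

namespace To

/-- a defect group at a large prime which contains a conjugate of `S` -/
theorem nz {K : Type} [Group K] [Finite K] {r w : ℕ} (hr : r.Prime) (hw : w < r) (hK : Sw w r K) (ψ : IrrCharacter K)
    {S : Subgroup K} (hS : IsPGroup r S) {y : K} (hc : ∀ s ∈ S, y * s = s * y) (h0 : ∀ s ∈ S, (ψ : K → ℂ) (y * s) ≠ 0) :
    ∃ E : Subgroup K, IsPGroup r E ∧ (∃ g, ∀ s ∈ S, g⁻¹ * s * g ∈ E) ∧ ∀ s ∈ E, St.Reg E s → (ψ : K → ℂ) s ≠ 0 := by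
  have := Fact.mk hr
  have := Fintype.ofFinite K
  obtain ⟨M, E, hM, hE, e1, e2, e3⟩ := V2.exists_E hr hw hK ψ
  have := hM.2.1.isPrime
  obtain ⟨x, z, h1, h2, ⟨a, ha⟩, ⟨b, hb⟩, ⟨k, h3⟩, h4⟩ := RegularCount.exists_pPart (p := r) y
  have h5 : ∀ s ∈ S, Commute x s := fun s hs => ha ▸ Commute.zpow_left (hc s hs) a
  have h6 : ∀ s ∈ S, Commute z s := fun s hs => hb ▸ Commute.zpow_left (hc s hs) b
  have h7 : x ^ r ^ k = 1 := h3 ▸ pow_orderOf_eq_one x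
  refine ⟨E, e1, V2.cover (m := 1) hK (by omega) hr.one_lt e1 hS h7 h5 fun s hs => ⟨1, one_pos, le_rfl, ?_⟩,
    fun s hs hR => ?_⟩
  · rw [pow_one]
    refine e3 _ _ ⟨z, ?_, h2.mul_left (h6 s hs).symm, ?_, h4⟩ (h0 s hs)
    · rw [← h1, mul_assoc, ← (h6 s hs).eq, mul_assoc]
    · obtain ⟨j, hj⟩ := hS ⟨s, hs⟩
      have h9 : (x * s) ^ r ^ (k + j) = 1 := by
        rw [(h5 s hs).mul_pow, pow_add, pow_mul, h7, one_pow, one_mul, mul_comm, pow_mul,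
          show s ^ r ^ j = 1 from congrArg Subtype.val hj, one_pow]
      obtain ⟨i, -, hi⟩ := (Nat.dvd_prime_pow hr).1 (orderOf_dvd_of_pow_eq_one h9)
      exact ⟨i, hi⟩
  · have h : St.Hy r w M E (Subgroup.centralizer (E : Set K)) ψ := ⟨hM, hw, hK, e1, rfl, e2.ge⟩
    have h' : St.Hy r w M E (E ⊔ Subgroup.centralizer (E : Set K)) ψ :=
      ⟨hM, hw, hK, e1, (sup_eq_right.2 h.le).symm, e2.ge⟩
    obtain ⟨b, -, hb⟩ := (S0973.result r M hM _ (Basic.isPBlock_blockOf ψ) E hE).1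
    obtain ⟨ξ, rfl⟩ := hb.1
    exact h'.ne_zero (ξ := ξ) hb hs hR

variable {p : ℕ} [Fact p.Prime] {k : Type} [Field k] [CharP k p] {Y : Type} [Group Y] {N : Type} [Fintype N]
  [DecidableEq N] {ρ : Y →* GL N k} {F : MulAut Y} {G : Subgroup Y} [IsAlgClosed k] (X : Datum p ρ F G)

/-- a regular element of an `r`-subgroup -/
theorem reg_elt {r : ℕ} (hr : r.Prime) (hp : r ≠ p) (hW : Nat.card X.W < r) (hR : Nat.card {a // X.Rt a} < r)
    {E : Subgroup ↥(GF F G)} (hE : IsPGroup r E) : ∃ s ∈ E, ∀ g ∈ G, g * s = s * g → ∀ u ∈ E, g * u = u * g := by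
  have := Fact.mk hr
  have := X.amb.finite_GF G
  obtain ⟨y, hy, w, hw, h⟩ := TO.X11.toral (D := X) hp (Nat.not_dvd_of_pos_of_lt Nat.card_pos hW) hE
    ((GF F G).subtype.comp E.subtype) fun u => (u : GF F G).2
  set X' := X.conj hy ⟨w, hw⟩
  have hT : ∀ s ∈ E, (s : Y) ∈ X'.T := fun s hs => mem_cj.2 (h ⟨s, hs⟩)
  have : Finite {a // X'.Rt a} := X'.finite_roots
  let B := {a : {a // X'.Rt a} // ¬ E ≤ Lb.ker X' a.1}
  obtain ⟨s, hs, hU⟩ := Gb.exists_out hr ((Nat.card_le_card_of_injective (Subtype.val : B → _)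
    Subtype.val_injective).trans_lt hR) hE (fun i => Lb.ker X' ((Finite.equivFin B).symm i).1.1)
    fun i => ((Finite.equivFin B).symm i).2
  refine ⟨s, hs, fun x hx e u hu => ?_⟩
  have h1 : x ∈ X'.cen {(s : Y)} := by
    refine Lb.mem_cen X' (Set.singleton_subset_iff.2 (hT s hs)) ?_ hx (Subgroup.mem_centralizer_singleton_iff.2 e)
    rintro _ rfl
    obtain ⟨n, hn⟩ := hE ⟨s, hs⟩
    exact ⟨r ^ n, (hr.coprime_iff_not_dvd.2 (Nat.not_dvd_of_pos_of_lt Nat.card_pos hW)).pow_left n,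
      congrArg (fun x : E => ((x : GF F G) : Y)) hn⟩
  have h2 : X'.Sz {(s : Y)} ⊆ X'.Sz (Subtype.val '' (E : Set ↥(GF F G))) := fun a ha => by
    refine ⟨ha.1, ?_⟩
    rintro _ ⟨u, hu, rfl⟩
    by_contra h3
    have h4 := hU (Finite.equivFin B ⟨⟨a, ha.1⟩, fun h => h3 (h hu).2⟩)
    simp only [Equiv.symm_apply_apply] at h4
    exact h4 ⟨hT s hs, ha.2 _ rfl⟩
  have h3 := X'.cen_le_centralizer (Z := Subtype.val '' (E : Set ↥(GF F G))) (by rintro _ ⟨u, hu, rfl⟩; exact hT u hu)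
    ((sup_le_sup_left (RGD.Sup_mono h2) _ : X'.cen _ ≤ X'.cen _) h1)
  exact (h3 u ⟨u, hu, rfl⟩).symm

theorem mem_Sz {A : Set Y} {b : X.I → ℤ} (hb : X.Rt b) (h0 : ∀ v, Pp X (X.Sz A) v → X.wt b ⬝ᵥ v = 0) :
    b ∈ X.Sz (Z0 X A) := ⟨hb, fun z hz => by
  induction hz using Subgroup.closure_induction with
  | mem z hz =>
    obtain ⟨v, a, h, rfl⟩ := hz
    rw [X.χ_τ, chr_coch, show ∑ j, X.wt b j * v j = 0 from h0 v h, zpow_zero, Units.val_one]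
  | one => exact X.χ_one b
  | mul x y hx hy h1 h2 => rw [X.χ_mul b (Z0_le_T X A hx) (Z0_le_T X A hy), h1, h2, mul_one]
  | inv x hx h1 => rw [X.χ_inv b (Z0_le_T X A hx), h1, inv_one]⟩

/-- the elements of order `r` of `Z0` see all roots -/
theorem generic (A : Set Y) : ∃ b : ℕ, ∀ r : ℕ, r.Prime → r ≠ p → b < r → ∀ Z : Set Y,
    (∀ v, Pp X (X.Sz A) v → ∀ ζ : kˣ, ζ ^ r = 1 → X.τ (coch v ζ) ∈ Z) → X.Sz Z ⊆ X.Sz (Z0 X A) := by
  have : Finite {a // X.Rt a} := X.finite_roots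
  have := Fintype.ofFinite {a // X.Rt a}
  have h1 : ∀ a : {a // X.Rt a}, ∃ v, Pp X (X.Sz A) v ∧ (X.wt a ⬝ᵥ v = 0 → ∀ u, Pp X (X.Sz A) u → X.wt a ⬝ᵥ u = 0) :=
    fun a => by
      by_cases e : ∀ u, Pp X (X.Sz A) u → X.wt a ⬝ᵥ u = 0
      · exact ⟨0, fun _ _ => dotProduct_zero _, fun _ => e⟩
      · push Not at e
        obtain ⟨u, h1, h2⟩ := e
        exact ⟨u, h1, fun e => absurd e h2⟩
  choose v h1 h2 using h1
  refine ⟨∑ a : {a // X.Rt a}, (X.wt a ⬝ᵥ v a).natAbs, fun r hr hp hb Z hZ a ha => mem_Sz X ha.1 (h2 ⟨a, ha.1⟩ ?_)⟩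
  have : NeZero (r : k) := ⟨fun e => hp ((Nat.prime_dvd_prime_iff_eq Fact.out hr).1 ((CharP.cast_eq_zero_iff k p r).1 e)).symm⟩
  have : NeZero r := ⟨hr.ne_zero⟩
  obtain ⟨ζ, hζ⟩ := HasEnoughRootsOfUnity.exists_primitiveRoot k r
  have hu := hζ.isUnit hr.ne_zero
  have hζ' : IsPrimitiveRoot hu.unit r := IsPrimitiveRoot.coe_units_iff.1 hζ
  have h3 := ha.2 _ (hZ _ (h1 ⟨a, ha.1⟩) hu.unit hζ'.pow_eq_one)
  rw [X.χ_τ, chr_coch, Units.val_eq_one, hζ'.zpow_eq_one_iff_dvd] at h3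
  by_contra e
  have h4 := Nat.le_of_dvd (Int.natAbs_pos.2 e) (Int.natCast_dvd.1 h3)
  have h5 := Finset.single_le_sum (f := fun a : {a // X.Rt a} => (X.wt a ⬝ᵥ v a).natAbs) (fun _ _ => Nat.zero_le _)
    (Finset.mem_univ ⟨a, ha.1⟩)
  omega

end To

open To in
/-- [TOR] -/
theorem boxTor : BoxTor := by
  intro p _ k _ _ Y _ N _ _ ρ F G _ X _ l M B D y hy hN A c hq hM hlp hB hD hA hc χ hχ
  have hp : p.Prime := Fact.out
  have := Fintype.ofFinite ↥(GF F G)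
  obtain ⟨f⟩ := nonempty_fr X
  have L := Mg.lvl_conj f.L hy hN
  set X' := X.conj hy hN
  have hZ : (Z0 X' A : Set Y) ⊆ X'.T := Z0_le_T X' A
  have hF : ∀ a ∈ X'.Sz (Z0 X' A), X'.g a ∈ X'.Sz (Z0 X' A) := fun _ => X'.g_mem_Sz hZ (Ad.boxP' X' A hA.stab).1
  let X₂ := X'.sub hZ hF rfl
  have L₂ : Lvl X₂ f.d f.e := ⟨L.d_pos, L.e_pos, fun w => by rw [Lb.sub_Wm]; exact L.pow _⟩
  obtain ⟨b₀, hb₀⟩ := generic X' A
  set b := b₀ + Nat.card X'.W ^ 2 + Nat.card X'.W + Nat.card {a // X'.Rt a} + Nat.card ↥(GF F G) with hb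
  obtain ⟨N₂, j₀, hN2, hN2', hr⟩ : ∃ N₁ j₀ : ℕ, N₁ ≠ 0 ∧ N₁.Coprime p ∧ ∀ j, j₀ ≤ j → (N₁ : ℤ) ∣ (p : ℤ) ^ (f.e * j) - 1 →
      ∃ r : ℕ, r.Prime ∧ b < r ∧ r ≠ p ∧ ∀ v, Pp X' (X'.Sz A) v → v ≠ 0 → (r : ℤ) ∣ c * (p : ℤ) ^ (f.e * j) - 1 := by
    by_cases e : ∃ v, Pp X' (X'.Sz A) v ∧ v ≠ 0
    · obtain ⟨v, h1, h2⟩ := e
      have h3 : ∀ n, X'.Mx ^ n *ᵥ v = c ^ n • v := fun n => by
        induction n with
        | zero => simp
        | succ n ih => rw [pow_succ, ← mulVec_mulVec, hc v h1, mulVec_smul, ih, smul_smul, pow_succ']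
      have h4 := h3 f.d
      have h5 := L.pow 1
      rw [X'.Wm_one, Matrix.one_mul] at h5
      rw [h5, smul_mulVec, one_mulVec] at h4
      have h6 := smul_left_injective ℤ h2 h4
      have h7 : (1 : ℤ) < (p : ℤ) ^ f.e := one_lt_pow₀ (Nat.one_lt_cast.2 hp.one_lt) L.e_pos.ne'
      obtain ⟨N₁, j₀, k1, k2, k3⟩ := big_prime f.e b (c := c) hp L.e_pos
        (by rintro rfl; rw [zero_pow L.d_pos.ne'] at h6; omega) (by rintro rfl; rw [one_pow] at h6; omega)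
      refine ⟨N₁, j₀, k1, k2, fun j hj h => ?_⟩
      obtain ⟨r, r1, r2, r3, r4⟩ := k3 j hj h
      exact ⟨r, r1, r2, r3, fun _ _ _ => r4⟩
    · obtain ⟨r, r1, r2⟩ := Nat.exists_infinite_primes (b + p + 1)
      exact ⟨1, 0, one_ne_zero, Nat.coprime_one_left p, fun _ _ _ =>
        ⟨r, r2, by omega, by omega, fun v h1 h2 => absurd ⟨v, h1, h2⟩ e⟩⟩
  have hP : ∀ w, ((Pw X₂ w).eval 1).natAbs = ordT X₂ w := fun w => by
    rw [Pw_one, Int.natAbs_mul, Int.natAbs_natCast]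
    rcases sgZ_sign X₂ w with e | e <;> simp [e]
  have := X₂.fW
  obtain ⟨w, hw⟩ := fam hq f hM.1 hlp χ (Pw X₂) (fun w => (Pw_zero w).2)
    (fun w => Int.natAbs_ne_zero.1 (by rw [hP]; exact ordT_ne w)) (b := b) hN2 hN2' fun m j _ ψ h1 h2 h3 h4 => by
      have hm := h4.pr.pos
      obtain ⟨r, r1, r2, r3, r4⟩ := hr j h1.le h3
      obtain ⟨-, z, -, hz1, hz2⟩ := Ad.core' X' hM hB hD hA hχ h4
      have hle := Ad.rZ_le_cZ X' A (GF (F ^ m) G) r1 (h := Nat.card ↥(GF F G)) fun e => by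
        have := Nat.le_of_dvd Nat.card_pos e
        omega
      have hW : Nat.card X'.W < r := by omega
      obtain ⟨E, e1, ⟨g, e2⟩, e3⟩ := nz r1 hW (Lb.sw (X'.pow hm) r1 r3 hW) ψ (rZ_p X' A _ r) (fun s hs => hz1 s (hle hs))
        fun s hs => Ad.ne_of_unit hM (hz2 s (hle hs))
      obtain ⟨s, s1, s2⟩ := reg_elt (X'.pow hm) r1 r3 hW (show Nat.card {a // X'.Rt a} < r by omega) e1
      have s3 := e3 s s1 fun x hx u hu => Subtype.ext
        (s2 x x.2.1 (congrArg Subtype.val (Subgroup.mem_centralizer_singleton_iff.1 hx)) u hu).symm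
      obtain ⟨y₁, k1, k2, k3, k4⟩ := supp (X'.pow hm) ψ (g * s * g⁻¹) (fun e => by
        obtain ⟨n, hn⟩ := e1 ⟨s, s1⟩
        rw [← MulAut.conj_apply, MulEquiv.orderOf_eq] at e
        exact r3 ((Nat.prime_dvd_prime_iff_eq hp r1).1 (hp.dvd_of_dvd_pow
          (e.trans (orderOf_dvd_of_pow_eq_one (congrArg Subtype.val hn))))).symm) (by rwa [Basic.irr_conj ψ.2])
      have k5 : ∀ u : rZ X' A (GF (F ^ m) G) r, ((u : GF (F ^ m) G) : Y) ∈ cj y₁ X'.T := fun u => by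
        refine ((X'.pow hm).conj k1 k2).centralizer_T.le ⟨(u : GF (F ^ m) G).2.1, fun t ht => ?_⟩
        have t1 : t ∈ G := ((X'.pow hm).conj k1 k2).T_le_G ht
        have t2 := ((X'.pow hm).conj k1 k2).T_comm ht k3
        have t3 := s2 ((g : Y)⁻¹ * t * g) (mul_mem (mul_mem (inv_mem g.2.1) t1) g.2.1) (by
          simp only [Subgroup.coe_mul, Subgroup.coe_inv] at t2
          calc _ = (g : Y)⁻¹ * (t * (g * s * (g : Y)⁻¹)) * g := by group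
            _ = _ := by rw [t2]; group) _ (e2 u u.2)
        simp only [Subgroup.coe_mul, Subgroup.coe_inv] at t3
        calc _ = (g : Y) * ((g : Y)⁻¹ * t * g * ((g : Y)⁻¹ * (u : GF (F ^ m) G) * g)) * (g : Y)⁻¹ := by group
          _ = _ := by rw [t3]; group
      obtain ⟨c₁, c1, n, c2, -, rfl⟩ := X'.exists_conj_form (fun u => mem_cj.1 (k5 u)) (fun u => Z0_le_T X' A u.2.1) k1
        fun u => by group
      have c3 : c₁ ∈ X'.cen (Z0 X' A) := X'.S_le_cen _ (RGD.Sup_mono (hb₀ r r1 r3 (by omega) _ fun v hv ζ hζ => by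
        refine ⟨⟨⟨_, X'.T_le_G (X'.τ_mem _), ?_⟩, mem_Z0 hv ζ, 1, Subtype.ext ?_⟩, rfl⟩
        · show (F ^ m) (X'.τ (coch v ζ)) = X'.τ (coch v ζ)
          rw [X'.F_pow_τ, mon_coch, h2, pow_Mx L, smul_mulVec, hc v hv, smul_smul]
          by_cases e : v = 0
          · rw [e, smul_zero]
          obtain ⟨a, ha⟩ := r4 v hv e
          congr 1
          funext i
          rw [coch_apply, coch_apply, Pi.smul_apply, smul_eq_mul, mul_comm _ c, eq_add_of_sub_eq ha, add_mul, one_mul,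
            _root_.zpow_add, mul_assoc, _root_.zpow_mul, zpow_natCast, hζ, _root_.one_zpow, one_mul]
        · show X'.τ (coch v ζ) ^ r ^ 1 = 1
          rw [pow_one, ← map_pow, ← map_one X'.τ]
          congr 1
          funext i
          rw [Pi.pow_apply, coch_apply, ← zpow_natCast, ← _root_.zpow_mul, mul_comm, _root_.zpow_mul, zpow_natCast, hζ,
            _root_.one_zpow,
            Pi.one_apply]) c1)
      have c4 : cj (c₁ * n) X'.T = cj c₁ X'.T := by rw [cj_mul, X'.cj_T c2]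
      obtain ⟨v, hv⟩ := ((X₂.pow hm).stable_iff c3).1 (c4 ▸ ((X'.pow hm).stable_iff k1).2 k2)
      have c5 : ((Pw X₂ v).eval ((p : ℤ) ^ (f.e * j))).natAbs = Nat.card ↥(GF (F ^ m) (cj (c₁ * n) X'.T)) := by
        rw [Pw_pow L₂ hm h2, Int.natAbs_mul, Int.natAbs_natCast, c4,
          GF_eq_inf (F ^ m) ((X₂.pow hm).conj c3 ⟨v, hv⟩).T_le_G]
        refine Eq.trans ?_ ((X₂.pow hm).card_cj_TF c3 hv).symm
        rcases sgZ_sign (X₂.pow hm) v with e | e <;> simp [e, ordT]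
      refine ⟨v, Int.natAbs_ne_zero.1 ?_, fun r' r5 r6 r7 => c5 ▸ k4 r' r5 r6 (show Nat.card X'.W ^ 2 < r' by omega)⟩
      have := X'.amb.pow hm |>.finite_GF (cj (c₁ * n) X'.T)
      rw [c5]
      exact Nat.card_pos.ne'
  obtain ⟨y', h1, h2⟩ := X₂.exists_type w
  refine ⟨y', X'.cen_le_G _ h1, ⟨_, X'.rp_of_sub hZ hF rfl h2⟩, fun z hz => ?_, ?_⟩
  · show z ∈ cj y' X'.T
    rw [mem_cj, mul_assoc, X'.cen_le_centralizer hZ h1 z hz, inv_mul_cancel_left]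
    exact hZ hz
  · rw [hP] at hw
    show _ + (Nat.card ↥(GF F (cj y' X'.T))).factorization l ≤ _
    rw [GF_eq_inf F (T := cj y' X'.T) (X₂.conj h1 ⟨w, h2⟩).T_le_G]
    exact (X₂.card_cj_TF h1 h2).symm ▸ hw

end Cfsg.Agent.RC.B
end

-- part: RC/B/R8
section
set_option linter.all false
open scoped Cfsg.Agent.FastGrp

/-!
# RC (S4576): [R8] (helper14)
-/

set_option autoImplicit false
set_option linter.unusedSectionVars false

namespace Cfsg.Agent.RC.B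

open Cfsg Cfsg.Lie Cfsg.Agent.DL Cfsg.Agent.Nodes.Reps Matrix Subgroup Cfsg.Agent.KM.Ht Cfsg.Agent.KM.Tor
  Cfsg.Agent.KZ.DatX Cfsg.Agent.Nodes.RGDChev Cfsg.Agent.ChevalleyStructure.NPerm Cfsg.Agent.ChevalleyStructure.CoxeterGeom
  Cfsg.Agent.ChevalleyStructure.CoxeterGeomTypes Cfsg.Agent.Tits.Roots
open Cfsg.Agent.KM.Tor.TW (pr pr_add pr_neg pr_self pr_act pr_smul pr_sub)
open Cfsg.Agent.TO.X.Cn (Pi1 comm_exp χ_exp χ_pow)
open Cfsg.Agent.H931.KC (hr)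
open Cfsg.Agent.KM.Ex (sr_dot)

namespace R

/-- the embedding of `E₆` -/
def J8 : Matrix (Fin 8) (Fin 6) ℤ := !![0, 0, 1, 0, 0, 0; 0, 0, 0, 1, 0, 0; 1, 0, 0, 1, 0, 0; 0, 0, 0, 2, 0, 0; 0, 0, 0, 1, 1, 0;
  0, 0, 0, 1, 0, 1; 0, 0, 0, 1, 0, 0; 0, 1, 0, 0, 0, 0]

/-- its left inverse -/
def L8 : Matrix (Fin 6) (Fin 8) ℤ := !![0, -1, 1, 0, 0, 0, 0, 0; 0, 0, 0, 0, 0, 0, 0, 1; 1, 0, 0, 0, 0, 0, 0, 0;
  0, 1, 0, 0, 0, 0, 0, 0; 0, -1, 0, 0, 1, 0, 0, 0; 0, -1, 0, 0, 0, 1, 0, 0]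

private def w1 (t : ℕ) : Fin chevE6.nroots := ⟨Nat.mod (Nat.mod (Nat.shiftRight
  0x474646000000000045454443430000424241404000373635350036353500000000000000000000003f3f3c3e3b3b3f3f3c3e3b3b3d3a3a0034342d332c2c322b2b00322b2b00000000000039392a3131293028282f2727002f272700000000000000000000000038380026262500002626250024242e002e1900192323002221210000222121000f0f000000000000000000000000202018002020181f1f171e16161d0e0e0000000000001c1c15001c1c151b1b141a1313000d0d0a0c0c090b08080c0c090b080800000000000000000000001212110012121110000707060505000004040302020000000000010100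
  (Nat.mul 8 t)) 256) 72, Nat.mod_lt _ (by decide)⟩

private def w2 (t : ℕ) : Fin chevE8.nroots := ⟨Nat.mod (Nat.mod (Nat.shiftRight
  0xefeee6e5e4dfdeddc0bebbbfbdbaa387dad9d8b6b4b1a09e9b78b5b3b0a29f9d9a7f7e7b7471705552504d3f3c3a7754514f3e3b39171615684c35323034312f1211100b0a090100
  (Nat.mul 8 t)) 256) 240, Nat.mod_lt _ (by decide)⟩

private theorem hr8' : hr chevE8 8 = ![2, 3, 4, 6, 5, 4, 3, 2] := by decide +kernel

private theorem mJ (v : Fin 6 → ℤ) : J8 *ᵥ v = ![v 2, v 3, v 0 + v 3, 2 * v 3, v 3 + v 4, v 3 + v 5, v 3, v 1] := by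
  ext i
  fin_cases i <;> simp [J8, mulVec, dotProduct, Fin.sum_univ_six]

private theorem mL (v : Fin 8 → ℤ) : L8 *ᵥ v = ![v 2 - v 1, v 7, v 0, v 1, v 4 - v 1, v 5 - v 1] := by
  ext i
  fin_cases i <;> simp [L8, mulVec, dotProduct, Fin.sum_univ_eight] <;> ring

theorem chk8 : Chk chevE8 8 {1, 3, 6} J8 L8 := by
  have k1 : ∀ t : Fin chevE8.nroots, LS chevE8 8 {1, 3, 6} (vec chevE8 8 t) → vec chevE6 6 (w1 t) = L8 *ᵥ vec chevE8 8 t ∧
      J8 *ᵥ (L8 *ᵥ vec chevE8 8 t) = vec chevE8 8 t := by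
    simp only [mL, mJ]
    delta LS
    rewrite [hr8']
    decide +kernel
  have k2 : ∀ t : Fin chevE6.nroots, vec chevE8 8 (w2 t) = J8 *ᵥ vec chevE6 6 t ∧ LS chevE8 8 {1, 3, 6} (J8 *ᵥ vec chevE6 6 t) ∧
      (RS chevE8 8 {1, 3, 6} (J8 *ᵥ vec chevE6 6 t) ↔ 3 ∣ vec chevE6 6 t 3) := by
    simp only [mJ]
    delta LS RS
    rewrite [hr8']
    decide +kernel
  have k3 : ∀ v, co chevE8 8 (J8 *ᵥ v) ᵥ* J8 = co chevE6 6 v := fun v => by
    have e : J8ᵀ * of (cartanOf chevE8 8) * J8 = of (cartanOf chevE6 6) := by decide +kernel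
    show ((J8 *ᵥ v) ᵥ* of (cartanOf chevE8 8)) ᵥ* J8 = v ᵥ* of (cartanOf chevE6 6)
    rw [← e, ← vecMul_vecMul, ← vecMul_vecMul, vecMul_transpose]
  exact ⟨by decide +kernel, fun t h => ⟨⟨_, (k1 t h).1⟩, (k1 t h).2⟩, fun t => ⟨⟨_, (k2 t).1⟩, (k2 t).2.1, (k2 t).2.2, k3 _⟩⟩

theorem hr8 : hr chevE8 8 = ![2, 3, 4, 6, 5, 4, 3, 2] ∧ (∀ i, ((3 : ℕ) : ℤ) ∣ hr chevE8 8 i → i ∈ ({1, 3, 6} : Finset (Fin 8))) ∧
    (∃ t : Fin chevE8.nroots, co chevE8 8 (vec chevE8 8 t) = ![0, -2, 0, 1, 0, 0, 0, 0]) ∧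
    ∃ t : Fin chevE8.nroots, co chevE8 8 (vec chevE8 8 t) = ![0, 1, 0, 0, 0, 0, -1, 0] :=
  ⟨hr8', by rewrite [hr8']; decide +kernel, ⟨⟨98, by decide⟩, by decide +kernel⟩, ⟨204, by decide⟩, by decide +kernel⟩

variable {p : ℕ} [Fact p.Prime] {k : Type} [Field k] [CharP k p] {Y : Type} [Group Y] {N : Type} [Fintype N]
  [DecidableEq N] {ρ : Y →* GL N k} {F : MulAut Y} {G : Subgroup Y} [IsAlgClosed k] {X : Datum p ρ F G}
  {D S : Subgroup Y} {u y : Y}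

theorem cyc_of {Q : Subgroup Y} [Finite Q] (hQ : Q ≤ X.T) (c : X.I → ℤ) (h : ∀ t ∈ Q, X.χ c t = 1 → t = 1) : IsCyclic Q :=
  isCyclic_of_injective_ringHom (R := k) ⟨⟨fun t => X.χ c t, X.χ_one c⟩, fun s t => X.χ_mul c (hQ s.2) (hQ t.2)⟩
    ((injective_iff_map_eq_one _).2 fun t ht => Subtype.ext (h t t.2 ht))

theorem χ_two (c : X.I → ℤ) (A B : X.R → ℤ) (x y : kˣ) :
    X.χ c (X.τ (coch A x * coch B y)) = (x ^ (X.wt c ⬝ᵥ A) * y ^ (X.wt c ⬝ᵥ B) : kˣ) := by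
  rw [X.χ_τ, map_mul, chr_coch, chr_coch]
  rfl

theorem S_form (hS : Z0 X S = S) {A B : X.R → ℤ} (h : ∀ v, Pp X (X.Sz S) v → ∃ x y : ℤ, v = x • A + y • B) {t : Y}
    (ht : t ∈ S) : ∃ x y : kˣ, t = X.τ (coch A x * coch B y) := by
  obtain ⟨⟨x, y⟩, e⟩ : t ∈ (X.τ.comp ((coch A).coprod (coch B))).range := by
    refine (closure_le _).2 ?_ (hS.ge ht)
    rintro _ ⟨v, a, hv, rfl⟩
    obtain ⟨x, y, rfl⟩ := h v hv
    exact ⟨(a ^ x, a ^ y), by rw [coch_add, coch_zsmul, coch_zsmul]; rfl⟩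
  exact ⟨x, y, e.symm⟩

/-- corank at most one -/
theorem cyc_one (hS : Z0 X S = S) {A : X.R → ℤ} (h : ∀ v, Pp X (X.Sz S) v → ∃ x : ℤ, v = x • A) (c : X.I → ℤ)
    (hc : X.wt c ⬝ᵥ A = 1) {Q : Subgroup Y} [Finite Q] (hQ : Q ≤ S) : IsCyclic Q := by
  refine cyc_of (hQ.trans (S_le_T hS)) c fun t ht h1 => ?_
  obtain ⟨x, y, rfl⟩ := S_form hS (A := A) (B := 0) (fun v hv => (h v hv).imp fun x e => ⟨0, by rw [e, smul_zero, add_zero]⟩) (hQ ht)
  rw [χ_two, hc, dotProduct_zero, zpow_zero, mul_one, _root_.zpow_one, Units.val_eq_one] at h1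
  rw [h1, map_one, one_mul, show coch (0 : X.R → ℤ) y = 1 from funext fun _ => zpow_zero y, map_one]

theorem ord3 [Finite D] (hD : El 3 (D : Set Y)) (hT : S ≤ X.T) {A B : X.R → ℤ}
    (h : ∀ t ∈ S, ∃ x y : kˣ, t = X.τ (coch A x * coch B y)) {c c' : X.I → ℤ} (h1 : X.wt c ⬝ᵥ A = 1)
    (h2 : X.wt c' ⬝ᵥ A = 0) (h3 : X.wt c' ⬝ᵥ B = 1) (hn : ¬ IsCyclic ↥(D ⊓ S)) :
    ∃ ω : kˣ, orderOf ω = 3 ∧ X.τ (coch A ω) ∈ D := by
  have : Finite ↥(D ⊓ S) := Finite.of_injective _ (inclusion_injective inf_le_left)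
  obtain ⟨t, ht, h4, h5⟩ : ∃ t ∈ D ⊓ S, X.χ c' t = 1 ∧ t ≠ 1 := by
    by_contra e
    exact hn (cyc_of (inf_le_right.trans hT) c' fun t ht h4 => by_contra fun h5 => e ⟨t, ht, h4, h5⟩)
  obtain ⟨x, y, rfl⟩ := h t ht.2
  rw [χ_two, h2, h3, zpow_zero, one_mul, _root_.zpow_one, Units.val_eq_one] at h4
  rw [h4, map_one, mul_one] at ht h5
  obtain ⟨j, hj⟩ := hD _ ht.1
  have h6 : orderOf x ∣ 3 ^ j := by
    have := (χ_exp X c A (x ^ 3 ^ j)).1 (by rw [map_pow, map_pow, hj, X.χ_one])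
    rw [h1, Int.natCast_dvd_ofNat, Nat.dvd_one, orderOf_eq_one_iff] at this
    exact orderOf_dvd_of_pow_eq_one this
  obtain ⟨e, -, he⟩ := (Nat.dvd_prime_pow Nat.prime_three).1 h6
  have h7 : 3 ∣ orderOf x := he ▸ dvd_pow_self 3 fun e0 => h5 (by
    rw [e0, pow_zero, orderOf_eq_one_iff] at he
    rw [he, map_one, map_one])
  exact ⟨x ^ (orderOf x / 3), orderOf_pow_orderOf_div (he ▸ pow_ne_zero _ (by decide)) h7, by
    rw [map_pow, map_pow]; exact pow_mem ht.1 _⟩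

theorem pr_eq_zero (hS : Sl X) {a c : X.I → ℤ} (ha : X.Rt a) (hc : X.Rt c) (h : 3 ∣ pr X c a) : pr X c a = 0 := by
  by_cases h1 : c = a
  · rw [h1, pr_self ha] at h
    omega
  by_cases h2 : c = -a
  · rw [h2, pr_neg, pr_self ha] at h
    omega
  have := TW.bd hS hc ha h1 h2
  omega

theorem act_fix (hS : Sl X) (hL : LA X) {a : X.I → ℤ} (ha : X.Rt a) {w : X.W}
    (h : ∀ j, 3 ∣ (X.Wm w *ᵥ X.cor a) j - X.cor a j) : X.Wm w *ᵥ X.cor a = X.cor a := by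
  rw [← X.cor_act w ha] at h ⊢
  have hb : X.Rt (X.act w a) := ha.act w
  generalize X.act w a = b at h hb
  have h0 : ∀ c, 3 ∣ X.wt c ⬝ᵥ (X.cor b - X.cor a) := fun c => Finset.dvd_sum fun j _ => (h j).mul_left _
  by_contra e
  have h1 := h0 b
  rw [dotProduct_sub, show X.wt b ⬝ᵥ X.cor b = 2 from pr_self hb] at h1
  by_cases h2 : b = -a
  · rw [h2, map_neg, neg_dotProduct, show X.wt a ⬝ᵥ X.cor a = 2 from pr_self ha] at h1
    omega
  have h3 := TW.bd hS hb ha (fun e' => e (e' ▸ rfl)) h2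
  obtain ⟨c, -, hc⟩ := (hL b a hb ha (by unfold pr at h3; omega)).2.2
  exact hc (h0 c)

/-- corank two, the orthogonal complement is spanned by two coroots -/
theorem two (h : St X D S y) (hu : u ∈ X.T) (hz : u ∈ Zn D) {a b c c' : X.I → ℤ} (ha : X.Rt a) (hb : X.Rt b)
    (pa : Pp X (X.Sz S) (X.cor a)) (pb : Pp X (X.Sz S) (X.cor b))
    (sp : ∀ v, Pp X (X.Sz S) v → ∃ x y : ℤ, v = x • X.cor a + y • X.cor b) (h1 : X.wt c ⬝ᵥ X.cor a = 1)
    (h2 : X.wt c ⬝ᵥ X.cor b = 0) (h3 : X.wt c' ⬝ᵥ X.cor a = 0) (h4 : X.wt c' ⬝ᵥ X.cor b = 1) (hn : ¬ IsCyclic ↥(D ⊓ S)) :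
    (∀ ζ ∈ S, ζ ^ 3 = 1 → ζ ∈ D) ∧ ∃ Z : Set Y, Z.Finite ∧ Z ⊆ X.T ∧ Z ⊆ Zn D ∧ CC X Z ∧
      X.Sz Z = X.Sz (insert u (S : Set Y)) := by
  have := Zl.fin_D X h.loc
  have hT := Zl.Can.le_T h.can
  have hf := fun t => S_form h.can.z0 sp (t := t)
  obtain ⟨ω, k1, k2⟩ := ord3 (Zl.el_D h.loc) hT hf h1 h3 h4 hn
  obtain ⟨ξ, k3, k4⟩ := ord3 (Zl.el_D h.loc) hT (fun t ht => let ⟨x, y, e⟩ := hf t ht; ⟨y, x, by rw [e, mul_comm]⟩) h4 h2 h1 hn
  have sa : X.τ (coch (X.cor a) ω) ∈ S := h.can.z0.le (mem_Z0 pa ω)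
  have sb : X.τ (coch (X.cor b) ξ) ∈ S := h.can.z0.le (mem_Z0 pb ξ)
  have hZ : ({u, X.τ (coch (X.cor a) ω), X.τ (coch (X.cor b) ξ)} : Set Y) ⊆ X.T := by
    rintro _ (rfl | rfl | rfl)
    exacts [hu, hT sa, hT sb]
  have e : X.Sz {u, X.τ (coch (X.cor a) ω), X.τ (coch (X.cor b) ξ)} = X.Sz (insert u (S : Set Y)) := by
    refine Set.ext fun d => and_congr_right fun hd => ⟨fun h5 z hz => hz.elim (fun e => h5 z (.inl e)) fun hz => ?_, fun h5 => ?_⟩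
    · obtain ⟨x, y, rfl⟩ := hf z hz
      have a1 := (χ_exp X d _ _).1 (h5 _ (.inr (.inl rfl)))
      have a2 := (χ_exp X d _ _).1 (h5 _ (.inr (.inr rfl)))
      rw [k1] at a1
      rw [k3] at a2
      rw [χ_two, show X.wt d ⬝ᵥ X.cor a = 0 from pr_eq_zero h.sl ha hd a1,
        show X.wt d ⬝ᵥ X.cor b = 0 from pr_eq_zero h.sl hb hd a2, zpow_zero, zpow_zero, mul_one, Units.val_one]
    · rintro _ (rfl | rfl | rfl)
      exacts [h5 _ (.inl rfl), h5 _ (.inr sa), h5 _ (.inr sb)]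
  refine ⟨fun ζ h5 h6 => ?_, _, Set.toFinite _, hZ, ?_, fun g hg hc => ?_, e⟩
  · obtain ⟨x, y, rfl⟩ := hf ζ h5
    have a1 := fun d => (χ_pow X d (X.τ_mem (coch (X.cor a) x * coch (X.cor b) y)) 3).symm.trans ((congrArg _ h6).trans (X.χ_one d))
    have a2 := a1 c
    have a3 := a1 c'
    rw [χ_two, h1, h2, zpow_zero, mul_one, _root_.zpow_one, ← Units.val_pow_eq_pow_val, Units.val_eq_one] at a2
    rw [χ_two, h3, h4, zpow_zero, one_mul, _root_.zpow_one, ← Units.val_pow_eq_pow_val, Units.val_eq_one] at a3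
    obtain ⟨i, -, rfl⟩ := (k1 ▸ IsPrimitiveRoot.orderOf ω).eq_pow_of_mem_rootsOfUnity (ξ := x) a2
    obtain ⟨j, -, rfl⟩ := (k3 ▸ IsPrimitiveRoot.orderOf ξ).eq_pow_of_mem_rootsOfUnity (ξ := y) a3
    rw [map_mul, map_pow, map_pow, map_pow, map_pow]
    exact mul_mem (pow_mem k2 _) (pow_mem k4 _)
  · rintro _ (rfl | rfl | rfl)
    exacts [hz, Zl.St.inf_le h ⟨k2, sa⟩, Zl.St.inf_le h ⟨k4, sb⟩]
  · obtain ⟨d, hd, m, ⟨w, hm⟩, h5, rfl⟩ := X.exists_cen_form hZ hg hc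
    obtain ⟨i, hi⟩ := Zl.el_D h.loc u hz.1
    refine mul_mem (X.S_le_cen _ hd) (cen_congr e ▸ cc_ins Nat.prime_three h.p3 h.pi h.can.z0 hu hi m (X.NN_le_G ⟨w, hm⟩) fun z hz =>
      hz.elim (fun e => h5 z (.inl e)) fun hz => ?_)
    obtain ⟨x, y, rfl⟩ := hf z hz
    have a1 := comm_exp X hm (v := X.cor a) (ζ := ω) fun z hz => h5 z (.inr (.inl hz))
    have a2 := comm_exp X hm (v := X.cor b) (ζ := ξ) fun z hz => h5 z (.inr (.inr hz))
    rw [k1] at a1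
    rw [k3] at a2
    rw [mul_inv_eq_iff_eq_mul.1 (X.conj_τ hm _), map_mul (mon _), mon_coch, mon_coch, act_fix h.sl h.la ha a1,
      act_fix h.sl h.la hb a2]

end R

open R in
/-- **[R8]** -/
theorem boxR8_of (hA : BoxA2K) (hR : BoxRot) (hK : BoxK1) : BoxR8 := by
  intro p _ k _ _ Y _ N _ _ ρ F G _ X D S y u hE h hu hz hn
  by_contra hc
  have := Zl.fin_D X h.loc
  have : Finite ↥(D ⊓ S) := Finite.of_injective _ (inclusion_injective inf_le_left)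
  obtain ⟨i, hi⟩ := Zl.el_D h.loc u hz.1
  have hI := ((boxFr X 3 D S Nat.prime_three h.p3 h.pi h.loc.pg (fun _ hd => (h.loc.le hd).1) h.can).2.2.2.2 u hu hz).1
  obtain ⟨_, X₀, ⟨K⟩⟩ := hE.kit8
  obtain ⟨K, s, -, h2, h4, h5⟩ := nfK K hE.ok8 h.p3 h.can.z0 hu hi hI hn
  obtain ⟨e0, e1, ⟨ta, ea⟩, tb, eb⟩ := hr8
  have ra := K.rt_vec ta
  have rb := K.rt_vec tb
  rw [← K.e.apply_symm_apply (vec chevE8 8 ta), ← K.φ_cor ra] at ea
  rw [← K.e.apply_symm_apply (vec chevE8 8 tb), ← K.φ_cor rb] at eb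
  generalize K.e.symm (vec chevE8 8 ta) = a at ra ea
  generalize K.e.symm (vec chevE8 8 tb) = b at rb eb
  have pp : ∀ v, Pp X (X.Sz S) v ↔ (∀ i, i ∉ s → K.φ v i = 0) ∧ hr chevE8 8 ⬝ᵥ K.φ v = 0 := fun v =>
    (Iff.intro (fun h => h.anti Sz_ins_sub) (hI v)).trans ((kit_pp K h4 v).trans (pp_RS X₀))
  have sp : ∀ v, Pp X (X.Sz S) v → K.φ v 1 + 2 * K.φ v 3 + K.φ v 6 = 0 ∧ v = K.φ v 3 • X.cor a + (-K.φ v 6) • X.cor b := by
    intro v hv
    obtain ⟨a1, a2⟩ := (pp v).1 hv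
    have a3 : ∀ i, i ∉ ({1, 3, 6} : Finset (Fin 8)) → K.φ v i = 0 := fun i hi => a1 i fun e => hi (e1 i (h2 i e))
    have z0 := a3 0 (by decide)
    have z2 := a3 2 (by decide)
    have z4 := a3 4 (by decide)
    have z5 := a3 5 (by decide)
    have z7 := a3 7 (by decide)
    rw [e0] at a2
    simp [dotProduct, Fin.sum_univ_eight, z0, z2, z4, z5, z7] at a2
    refine ⟨by omega, K.φ_inj hE.ok8 ?_⟩
    rw [map_add, map_zsmul, map_zsmul, ea, eb]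
    funext i
    fin_cases i <;> simp [z0, z2, z4, z5, z7]
    omega
  have c1 : X.wt (K.e.symm (sr 3)) ⬝ᵥ X.cor a = 1 := by rw [K.dot_symm, ea]; decide
  have c2 : X.wt (K.e.symm (sr 3)) ⬝ᵥ X.cor b = 0 := by rw [K.dot_symm, eb]; decide
  have c3 : X.wt (K.e.symm (-sr 6)) ⬝ᵥ X.cor a = 0 := by rw [K.dot_symm, ea]; decide
  have c4 : X.wt (K.e.symm (-sr 6)) ⬝ᵥ X.cor b = 1 := by rw [K.dot_symm, eb]; decide
  by_cases s3 : 3 ∉ s
  · exact hc (cyc_one h.can.z0 (fun v hv => ⟨_, (sp v hv).2.trans (by rw [((pp v).1 hv).1 3 s3, zero_smul, zero_add])⟩) _ c4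
      inf_le_right)
  by_cases s6 : 6 ∉ s
  · exact hc (cyc_one h.can.z0 (fun v hv => ⟨_, (sp v hv).2.trans (by
      rw [((pp v).1 hv).1 6 s6, neg_zero, zero_smul, add_zero])⟩) _ c1 inf_le_right)
  by_cases s1 : 1 ∉ s
  · refine hc (cyc_one h.can.z0 (A := X.cor a + (2 : ℤ) • X.cor b) (fun v hv => ⟨K.φ v 3, (sp v hv).2.trans ?_⟩) _
      (by rw [dotProduct_add, dotProduct_smul, c1, c2]; rfl) inf_le_right)
    have a1 := (sp v hv).1
    rw [((pp v).1 hv).1 1 s1] at a1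
    rw [show -K.φ v 6 = K.φ v 3 * 2 by omega, smul_add, smul_smul]
  obtain rfl : s = {1, 3, 6} := Finset.Subset.antisymm (fun i hi => e1 i (h2 i hi)) (by
    simpa [Finset.insert_subset_iff] using ⟨not_not.1 s1, not_not.1 s3, not_not.1 s6⟩)
  obtain ⟨j, E⟩ := em_of K chk8 Sz_ins_sub h4 h5
  obtain ⟨a1, Z, a2, a3, a4, a5, a6⟩ := two h hu hz ra rb ((pp _).2 (by rw [ea, e0]; decide)) ((pp _).2 (by rw [eb, e0]; decide))
    (fun v hv => ⟨_, _, (sp v hv).2⟩) c1 c2 c3 c4 hc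
  obtain ⟨k1, k2⟩ := hK X 8 hE h.p3
  refine E.pk.core hA hR h (fun _ _ => K.ex_eq hE.ok8) hu hz a2 a3 a4 a5 a6 fun ζ b1 b2 => (h.loc.le (a1 ζ ?_ b2)).2
  simpa only [Subgroup.card_eq_one.1 k1, sup_bot_eq] using k2 S h.can.z0 ζ b1 fun z hz => ⟨1, by rw [hz, pow_one, b2]⟩

end Cfsg.Agent.RC.B
end
end
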