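import Cfsg.Agent.RC.B.Ty_m3
import Cfsg.Agent.KM.Tor.TW_m3
import Cfsg.Agent.Lib.ListFast
import Cfsg.Agent.RC.B.R1_m3
import Cfsg.Agent.RC.A.Tw_mg_m3
import Cfsg.Agent.KM.Tor.E6a_m3
import Cfsg.Agent.RC.B.R8_m3
import Cfsg.Agent.KM.Tor.NA_m3
import Cfsg.Agent.RC.D1
import Cfsg.Agent.S2098
import Cfsg.Agent.StandardComponent.SpTwoAut
import Cfsg.Agent.ClassicalGeometry.OrthDickson
import Cfsg.Agent.LieClassical.OmegaCenter
import Cfsg.Agent.LieClassical.OmegaReindex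
import Cfsg.Agent.RC.A.Desc
import Cfsg.Agent.RC.X.E6_m3
import Cfsg.Agent.RC.B.BR_m3
import Cfsg.Agent.KM.Odd
import Cfsg.Agent.KM.Mu.Rows
import Cfsg.Agent.S0000
import Cfsg.Agent.PQ.Spor.Tabs
import Cfsg.Agent.TH.Spor.J3Tab
import Cfsg.Agent.Lib.FinFast
import Cfsg.Agent.KM.Sp.Main
import Cfsg.Agent.TH.Spor.InD
import Cfsg.Agent.S2044
import Cfsg.Agent.S2045
import Cfsg.Agent.S2050
import Cfsg.Agent.S2054
import Cfsg.Agent.S2056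
import Cfsg.Agent.S2057
import Cfsg.Agent.MK.S7.X22
import Cfsg.Agent.FastGrp
import Cfsg.Agent.Prune
set_option linter.all false

section
prune_inst 0x7f00000000000000000000000000000000000000000000000000000000000000000000000000000000000000000000000000000000000000000000000000000000000000000000000000000000000000003fffffffffffffffffffffffffffbeffbdffffffff

-- part: RC/D2P
section
set_option linter.all false
open scoped Cfsg.Agent.FastGrp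

/-!
# RC (S4576): no plane of isolated elements in the centre of a defect group (helper90)

The root system of an isolated element has two components; `F` fixes or swaps them.  Rows `F₄`, `²F₄`, `E₈` (`l ≥ 5`).
-/

set_option autoImplicit false
set_option linter.unusedSectionVars false

namespace Cfsg.Agent.RC.D2

open Cfsg Cfsg.Lie Cfsg.Agent.DL Cfsg.Agent.KZ.DatX Cfsg.Agent.Nodes.RGDChev Cfsg.Agent.ChevalleyStructure.NPerm
open Cfsg.Agent.KM Cfsg.Agent.KM.Mu Cfsg.Agent.KM.Ex Cfsg.Agent.KM.Ht Cfsg.Agent.KM.Tor Matrix Subgroup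
open Cfsg.Agent.TO.X.Cn (Pi1 PM pi1 pm_F4 pm_E8 exists_exp χ_exp mem_cen rp_pow)
open Cfsg.Agent.Nodes.Reps Cfsg.Agent.Nodes.BNOf Cfsg.Agent.Nodes.Coroot

section Dat

variable {p : ℕ} [Fact p.Prime] {k : Type} [Field k] [CharP k p] {Y : Type} [Group Y] {N : Type} [Fintype N]
  [DecidableEq N] {ρ : Y →* GL N k} {F : MulAut Y} {G : Subgroup Y} [IsAlgClosed k] (X : Datum p ρ F G)

/-- connected sets of roots -/
def Hub (Φ : Set (X.I → ℤ)) : Prop :=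
  ∃ a₀ ∈ Φ, ∀ a ∈ Φ, ∃ b ∈ Φ, cpr X.cs X.h a₀ b ≠ 0 ∧ cpr X.cs X.h a b ≠ 0

/-- two components -/
structure Sp2 (Ψ Ψ₁ Ψ₂ : Set (X.I → ℤ)) : Prop where
  un : Ψ₁ ∪ Ψ₂ = Ψ
  rt : ∀ a ∈ Ψ, X.Rt a
  or : ∀ a ∈ Ψ₁, ∀ b ∈ Ψ₂, cpr X.cs X.h a b = 0
  c1 : Hub X Ψ₁
  c2 : Hub X Ψ₂

/-- the root systems of the isolated elements have two components -/
def S2 (l : ℕ) : Prop := ∀ u, Is X l u → ∃ Ψ₁ Ψ₂, Sp2 X (Rn X l u) Ψ₁ Ψ₂

/-- reflection subgroups -/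
abbrev WR (Φ : Set (X.I → ℤ)) : Subgroup X.W := closure (X.rf '' Φ)

variable {X} {Ψ Ψ₁ Ψ₂ A B : Set (X.I → ℤ)} {a b : X.I → ℤ} {w w₁ w₂ v₁ v₂ : X.W} {l f : ℕ} {z t : Y}

theorem cpr_g_zero (ha : X.Rt a) (hb : X.Rt b) : cpr X.cs X.h (X.g a) (X.g b) = 0 ↔ cpr X.cs X.h a b = 0 := by
  have h1 := X.ψ_act (X.rf b) (X.g a)
  rw [X.Fw_rf hb, X.act_rf (X.g_root b hb), map_sub, map_zsmul, X.ψ_g ha, X.ψ_g hb, X.act_rf hb,
    cpr_smul X.cs X.h _ _ hb, sub_right_inj, smul_smul] at h1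
  have h2 := smul_left_injective ℤ hb.ne_zero h1
  refine ⟨fun h => ?_, fun h => ?_⟩
  · rw [h, zero_mul] at h2
    exact (mul_eq_zero.1 h2.symm).resolve_left (X.q_pos a).ne'
  · rw [h, mul_zero] at h2
    exact (mul_eq_zero.1 h2).resolve_right (X.q_pos b).ne'

theorem cor_ne (ha : X.Rt a) : X.cor a ≠ 0 := fun e => by
  have h1 := X.pair_cor ha a
  rw [cpr_self X.cs X.h ha, e] at h1
  simp at h1

theorem fw_mem (hA : ∀ a ∈ A, X.Rt a) (h : ∀ a ∈ A, X.g a ∈ B) (hw : w ∈ WR X A) : X.Fw w ∈ WR X B :=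
  (closure_le (K := (WR X B).comap X.Fw.toMonoidHom)).2 (by
    rintro _ ⟨a, ha, rfl⟩
    exact subset_closure ⟨_, h a ha, (X.Fw_rf (hA a ha)).symm⟩) hw

theorem Hub.im (h : Hub X Ψ) (h0 : ∀ a ∈ Ψ, X.Rt a) (w : X.W) : Hub X (im X w Ψ) := by
  obtain ⟨a₀, h1, h2⟩ := h
  refine ⟨X.act w a₀, act_mem_im.2 h1, fun a ha => ?_⟩
  obtain ⟨b, hb, h3, h4⟩ := h2 _ ha
  refine ⟨X.act w b, act_mem_im.2 hb, by rwa [cpr_rep X.cs X.h w _ (h0 b hb)], ?_⟩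
  rw [← act_act_inv w a]
  exact fun e => h4 ((cpr_rep X.cs X.h w _ (h0 b hb)).symm.trans e)

/-- the Weyl group of the roots which vanish at `c` fixes `c` -/
theorem mon_fix (hA : ∀ a ∈ A, X.Rt a) {c : X.R → kˣ} (h : ∀ a ∈ A, chr (X.wt a) c = 1) (hw : w ∈ WR X A) :
    mon (X.Wm w) c = c := by
  induction hw using closure_induction with
  | mem _ hx =>
    obtain ⟨a, ha, rfl⟩ := hx
    obtain ⟨m, hm, -⟩ := X.exists_rp (X.rf a)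
    have h1 := X.τ_inj ((X.conj_τ hm c).symm.trans (X.conj_τ_rf (hA a ha) hm c))
    rwa [h a ha, map_one, inv_one, mul_one] at h1
  | one => rw [X.Wm_one, mon_one]
  | mul _ _ _ _ h1 h2 => rw [X.Wm_mul, mon_mul, h2, h1]
  | inv x _ h1 => rw [← h1, ← mon_mul, ← X.Wm_mul, inv_mul_cancel, X.Wm_one, mon_one, h1]

namespace Sp2

variable (h : Sp2 X Ψ Ψ₁ Ψ₂)
include h

theorem m1 (ha : a ∈ Ψ₁) : a ∈ Ψ := h.un ▸ Set.mem_union_left _ ha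

theorem m2 (ha : a ∈ Ψ₂) : a ∈ Ψ := h.un ▸ Set.mem_union_right _ ha

theorem symm : Sp2 X Ψ Ψ₂ Ψ₁ := ⟨(Set.union_comm _ _).trans h.un, h.rt, fun a ha b hb =>
  (cpr_zero_comm X.cs X.h (h.rt a (h.m2 ha)) (h.rt b (h.m1 hb))).2 (h.or b hb a ha), h.c2, h.c1⟩

theorem im (w : X.W) : Sp2 X (im X w Ψ) (im X w Ψ₁) (im X w Ψ₂) :=
  ⟨h.un ▸ rfl, im_rt h.rt, fun a ha b hb => (cpr_rep X.cs X.h w⁻¹ a (im_rt h.rt b (h.m2 hb))).symm.trans (h.or _ ha _ hb),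
    h.c1.im (fun a ha => h.rt a (h.m1 ha)) w, h.c2.im (fun a ha => h.rt a (h.m2 ha)) w⟩

theorem fix (hw : w ∈ WR X Ψ₁) (hb : b ∈ Ψ₂) : X.act w b = b := by
  induction hw using closure_induction with
  | mem _ hx =>
    obtain ⟨a, ha, rfl⟩ := hx
    rw [X.act_rf (h.rt a (h.m1 ha)), h.symm.or b hb a ha, zero_smul, sub_zero]
  | one => rw [Datum.act, map_one, Module.End.one_apply]
  | mul _ _ _ _ h1 h2 => rw [act_mul', h2, h1]
  | inv x _ h1 => rw [← h1, act_inv_act, h1]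

theorem cor_fix (hw : w ∈ WR X Ψ₁) (hb : b ∈ Ψ₂) : X.Wm w *ᵥ X.cor b = X.cor b := by
  rw [← X.cor_act w (h.rt b (h.m2 hb)), h.fix hw hb]

theorem comm (h1 : w₁ ∈ WR X Ψ₁) (h2 : w₂ ∈ WR X Ψ₂) : w₂ * w₁ = w₁ * w₂ :=
  mem_centralizer_singleton_iff.1 ((closure_le (K := centralizer {w₁})).2 (by
    rintro _ ⟨b, hb, rfl⟩
    have h3 := X.rf_act' w₁ (h.rt b (h.m2 hb))
    rw [h.fix h1 hb] at h3
    exact mem_centralizer_singleton_iff.2 (eq_mul_inv_iff_mul_eq.1 h3)) h2)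

theorem dec (hw : w ∈ WR X Ψ) : ∃ w₁ ∈ WR X Ψ₁, ∃ w₂ ∈ WR X Ψ₂, w = w₁ * w₂ := by
  induction hw using closure_induction with
  | mem _ hx =>
    obtain ⟨a, ha, rfl⟩ := hx
    rcases h.un.ge ha with ha | ha
    · exact ⟨_, subset_closure ⟨a, ha, rfl⟩, 1, one_mem _, (mul_one _).symm⟩
    · exact ⟨1, one_mem _, _, subset_closure ⟨a, ha, rfl⟩, (one_mul _).symm⟩
  | one => exact ⟨1, one_mem _, 1, one_mem _, (mul_one _).symm⟩
  | mul _ _ _ _ h1 h2 =>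
    obtain ⟨x, hx, y, hy, rfl⟩ := h1
    obtain ⟨x', hx', y', hy', rfl⟩ := h2
    exact ⟨_, mul_mem hx hx', _, mul_mem hy hy', by rw [mul_assoc, ← mul_assoc y, h.comm hx' hy, mul_assoc, mul_assoc]⟩
  | inv _ _ h1 =>
    obtain ⟨x, hx, y, hy, rfl⟩ := h1
    exact ⟨_, inv_mem hx, _, inv_mem hy, by rw [_root_.mul_inv_rev, h.comm (inv_mem hx) (inv_mem hy)]⟩

theorem uniq (hn : ∀ v, Pp X Ψ v → v = 0) (h1 : w₁ ∈ WR X Ψ₁) (h2 : w₂ ∈ WR X Ψ₂) (h3 : v₁ ∈ WR X Ψ₁) (h4 : v₂ ∈ WR X Ψ₂)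
    (e : w₁ * w₂ = v₁ * v₂) : w₁ = v₁ ∧ w₂ = v₂ := by
  have h5 : w₁⁻¹ * v₁ = w₂ * v₂⁻¹ := by rw [inv_mul_eq_iff_eq_mul, ← mul_assoc, e, mul_inv_cancel_right]
  have h6 : w₁⁻¹ * v₁ = 1 := X.Wm_injective (by
    rw [X.Wm_one]
    refine ext_of_mulVec_single fun i => sub_eq_zero.1 (hn _ fun a ha => ?_)
    rw [dotProduct_sub, one_mulVec, dot_Wm, sub_eq_zero]
    rcases h.un.ge ha with ha | ha
    · rw [h5, h.symm.fix (inv_mem (mul_mem h2 (inv_mem h4))) ha]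
    · rw [h.fix (inv_mem (mul_mem (inv_mem h1) h3)) ha])
  exact ⟨inv_mul_eq_one.1 h6, mul_inv_eq_one.1 (h5 ▸ h6)⟩

theorem side (hg : ∀ a ∈ Ψ, X.g a ∈ Ψ) (c : Hub X A) (hA : A ⊆ Ψ) : (∀ a ∈ A, X.g a ∈ Ψ₁) ∨ ∀ a ∈ A, X.g a ∈ Ψ₂ := by
  obtain ⟨a₀, h1, h2⟩ := c
  have key : ∀ {Ψ₁ Ψ₂ : Set (X.I → ℤ)}, Sp2 X Ψ Ψ₁ Ψ₂ → X.g a₀ ∈ Ψ₁ → ∀ a ∈ A, X.g a ∈ Ψ₁ := fun h h3 a ha => by
    obtain ⟨b, hb, h4, h5⟩ := h2 a ha
    have h6 := (h.un.ge (hg b (hA hb))).resolve_right fun e =>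
      h4 ((cpr_g_zero (h.rt _ (hA h1)) (h.rt _ (hA hb))).1 (h.or _ h3 _ e))
    exact (h.un.ge (hg a (hA ha))).resolve_right fun e =>
      h5 ((cpr_g_zero (h.rt _ (hA ha)) (h.rt _ (hA hb))).1 (h.symm.or _ e _ h6))
  exact (h.un.ge (hg a₀ (hA h1))).imp (key h) (key h.symm)

theorem not_all (hg : ∀ a ∈ Ψ, X.g a ∈ Ψ) (h1 : ∀ a ∈ Ψ₁, X.g a ∈ Ψ₁) (h2 : ∀ a ∈ Ψ₂, X.g a ∈ Ψ₁) : False := by
  obtain ⟨b, hb, -⟩ := h.c2
  obtain ⟨a, ha, rfl⟩ := (X.g_bijOn h.rt hg).surjOn (h.m2 hb)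
  have h3 := h.or _ ((h.un.ge ha).elim (h1 a) (h2 a)) _ hb
  rw [cpr_self X.cs X.h (h.rt _ (h.m2 hb))] at h3
  exact two_ne_zero h3

theorem cases (hg : ∀ a ∈ Ψ, X.g a ∈ Ψ) : ((∀ a ∈ Ψ₁, X.g a ∈ Ψ₁) ∧ ∀ a ∈ Ψ₂, X.g a ∈ Ψ₂) ∨
    ((∀ a ∈ Ψ₁, X.g a ∈ Ψ₂) ∧ ∀ a ∈ Ψ₂, X.g a ∈ Ψ₁) := by
  rcases h.side hg h.c1 fun _ => h.m1 with h1 | h1 <;> rcases h.side hg h.c2 fun _ => h.m2 with h2 | h2
  exacts [(h.not_all hg h1 h2).elim, .inl ⟨h1, h2⟩, .inr ⟨h1, h2⟩, (h.symm.not_all hg h2 h1).elim]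

end Sp2

theorem mem_WR (hz : z ∈ X.T) (Fz : F z = z) {u : Y} (hu : X.Rp w u) (hc : u ∈ X.cen {z}) : w ∈ WR X (X.Sz {z}) := by
  have hZ := Set.singleton_subset_iff.2 hz
  have hF : ∀ a ∈ X.Sz {z}, X.g a ∈ X.Sz {z} := fun _ => X.g_mem_Sz hZ fun _ e => e ▸ Fz
  obtain ⟨v, hv⟩ : u ∈ (X.sub hZ hF rfl).NN := (X.sub_NN hZ hF rfl).ge ⟨⟨w, hu⟩, hc⟩
  rw [WR, ← X.range_subW]
  exact ⟨v, X.rp_unique (X.rp_of_sub hZ hF rfl hv) hu⟩

variable (h : Pi1 X f) (hl : l.Prime) (h2 : l ≠ 2) (hp : l ≠ p) (hf : l.Coprime f) (hL : NL X l) (hT : Two X l) (hS : S2 X l)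
include h hl h2 hp hf hL hT hS

/-- a fixed `l`-element of the Weyl group which is not elliptic -/
theorem exists_fix (hz : z ∈ X.T) (ht : t ∈ X.T) (Fz : F z = z) (Ft : F t = t) (z1 : z ^ l = 1) (z2 : z ≠ 1) (t1 : t ^ l = 1)
    (t2 : t ∉ zpowers z) (h5 : ∀ i j : ℤ, ¬ Ni X {z ^ i * t ^ j}) {u : Y} (hu : X.Rp w u) (Fu : F u = u)
    (hc : u ∈ centralizer ({z, t} : Set Y)) (uT : u ∉ X.T) {j : ℕ} (hj : u ^ l ^ j = 1) :
    ∃ w₁, X.Fw w₁ = w₁ ∧ w₁ ≠ 1 ∧ w₁ ^ l ^ j = 1 ∧ ∃ v, v ≠ 0 ∧ X.Wm w₁ *ᵥ v = v := by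
  have h0 := sz_empty hl hp hT hz ht z1 z2 t1 t2 h5
  have hZ : ({z, t} : Set Y) ⊆ X.T := by
    rintro _ (rfl | rfl)
    exacts [hz, ht]
  have fz := fun {u : Y} {w : X.W} => fix_zero (u := u) (w := w) h hl hp hf hL (Set.toFinite {z, t}) hZ (by
    rintro _ (rfl | rfl)
    exacts [⟨1, by rwa [pow_one]⟩, ⟨1, by rwa [pow_one]⟩]) h0
  have n1 : ¬ Ni X {z} := by simpa only [zpow_one, zpow_zero, mul_one] using h5 1 0
  have hn : ∀ v, Pp X (X.Sz {z}) v → v = 0 := fun v hv => by_contra fun e => n1 ⟨v, e, hv⟩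
  have hg : ∀ a ∈ X.Sz {z}, X.g a ∈ X.Sz {z} := fun _ => X.g_mem_Sz (Set.singleton_subset_iff.2 hz) fun _ e => e ▸ Fz
  obtain ⟨Ψ₁, Ψ₂, H⟩ : ∃ Ψ₁ Ψ₂, Sp2 X (X.Sz {z}) Ψ₁ Ψ₂ := by
    obtain ⟨ζ, hζ⟩ := exists_prim p k (n := l) fun h => hp ((Nat.prime_dvd_prime_iff_eq Fact.out hl).1 h).symm
    obtain ⟨x, rfl⟩ := exists_coch hζ hl hz z1
    rw [Sz_exp, hζ] at hn ⊢
    refine hS x ⟨fun v hv => hn v fun a ha => hv a ha.1 ha.2, fun h6 => z2 ?_⟩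
    rw [← map_one X.τ]
    exact congrArg _ (funext fun r => orderOf_dvd_iff_zpow_eq_one.1 (hζ ▸ h6 r))
  obtain ⟨w₁, m1, w₂, m2, rfl⟩ := H.dec (mem_WR hz Fz hu (mem_cen h hz z1 hf hu.mem_G (hc z (.inl rfl)).symm))
  have r1 := fun a ha => H.rt a (H.m1 ha)
  have r2 := fun a ha => H.rt a (H.m2 ha)
  obtain ⟨a, ha, -⟩ := H.c1
  obtain ⟨b, hb, -⟩ := H.c2
  have w1 : w₁ ≠ 1 := fun e => cor_ne (r1 a ha) (fz hu hc uT (by rw [e, one_mul, H.symm.cor_fix m2 ha]))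
  have e1 := X.Fw_eq_of_fix hu Fu
  rw [map_mul] at e1
  rcases H.cases hg with ⟨g1, g2⟩ | ⟨g1, g2⟩
  · refine ⟨w₁, (H.uniq hn (fw_mem r1 g1 m1) (fw_mem r2 g2 m2) m1 m2 e1).1, w1, ?_, _, cor_ne (r2 b hb), H.cor_fix m1 hb⟩
    refine (H.uniq hn (pow_mem m1 _) (pow_mem m2 (l ^ j)) (one_mem _) (one_mem _) ?_).1
    rw [← (show Commute w₁ w₂ from (H.comm m1 m2).symm).mul_pow, one_mul]
    exact X.rp_unique (rp_pow X hu _) (hj ▸ rp_one)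
  exfalso
  have e2 := (H.uniq hn (fw_mem r2 g2 m2) (fw_mem r1 g1 m1) m1 m2
    ((H.comm (fw_mem r2 g2 m2) (fw_mem r1 g1 m1)).symm.trans e1)).2
  obtain ⟨e, rfl⟩ := (X.mem_T z).1 hz
  obtain ⟨c, rfl⟩ := (X.mem_T t).1 ht
  have s1 : mon (X.Wm w₁) (mon (X.Wm w₂) c) = c := by
    rw [← mon_mul, ← X.Wm_mul]
    refine X.τ_inj ?_
    rw [← X.conj_τ hu, ← hc _ (.inr rfl), mul_inv_cancel_right]
  have s2 : mon (X.Wm w₁) e = e := mon_fix r1 (fun a ha => Units.ext ((X.χ_τ a e).symm.trans ((H.m1 ha).2 _ rfl))) m1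
  have s3 : ∀ a ∈ X.Sz {X.τ e}, chr (X.wt a) (mon (X.Wm w₁) c) = chr (X.wt a) c := fun a ha => by
    rcases H.un.ge ha with ha | ha
    · conv_rhs => rw [← s1, ← mon_mul, ← X.Wm_mul, ← H.comm m1 m2, X.Wm_mul, mon_mul, chr_mon, ← X.wt_act',
        H.symm.fix (inv_mem m2) ha]
    · rw [chr_mon, ← X.wt_act', H.fix (inv_mem m1) ha]
  obtain ⟨x, hx⟩ : ∃ x, mon (X.Wm w₁) c = x * c := ⟨_, (inv_mul_cancel_right _ _).symm⟩
  have s4 : ∀ a ∈ X.Sz {X.τ e}, X.χ a (X.τ x) = 1 := fun a ha => by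
    have h6 := s3 a ha
    rw [hx, map_mul, mul_eq_right] at h6
    rw [X.χ_τ, h6, Units.val_one]
  have c1 : c ^ l = 1 := X.τ_inj (by rw [map_pow, t1, map_one])
  have x1 : x ^ l = 1 := by
    have h6 := congrArg (· ^ l) hx
    simpa only [← map_pow, mul_pow, c1, map_one, mul_one] using h6.symm
  obtain ⟨i, hi⟩ : X.τ x ∈ zpowers (X.τ e) := by_contra fun h6 =>
    (sz_empty hl hp hT hz (X.τ_mem x) z1 z2 (by rw [← map_pow, x1, map_one]) h6 fun i j h7 => n1 (h7.mono fun a ha =>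
      ⟨ha.1, fun _ e1 => by
        have h8 : chr (X.wt a) e = 1 := Units.ext ((X.χ_τ a e).symm.trans (ha.2 _ rfl))
        have h9 : chr (X.wt a) x = 1 := Units.ext ((X.χ_τ a x).symm.trans (s4 a ha))
        rw [e1, ← map_zpow, ← map_zpow, ← map_mul, X.χ_τ, map_mul, map_zpow, map_zpow, h8, h9, _root_.one_zpow,
          _root_.one_zpow, mul_one, Units.val_one]⟩)).subset
      (show a ∈ X.Sz {X.τ e, X.τ x} from ⟨r1 a ha, by
        rintro _ (rfl | rfl)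
        exacts [(H.m1 ha).2 _ rfl, s4 a (H.m1 ha)]⟩)
  obtain rfl : x = e ^ i := X.τ_inj (hi.symm.trans (map_zpow _ _ _).symm)
  have f1 : mon X.Mx c = c := X.τ_inj ((X.F_τ c).symm.trans Ft)
  have f2 : mon X.Mx e = e := X.τ_inj ((X.F_τ e).symm.trans Fz)
  have s5 := congrArg (mon X.Mx) hx
  rw [← mon_mul, X.Mx_Wm, mon_mul, f1, e2, map_mul, map_zpow, f1, f2] at s5
  rw [s5, map_mul, map_zpow, s2, hx, ← mul_assoc, mul_eq_right, ← sq] at s1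
  have x2 : e ^ i = 1 := by
    have h6 := Nat.dvd_gcd (orderOf_dvd_of_pow_eq_one x1) (orderOf_dvd_of_pow_eq_one s1)
    rwa [(Nat.coprime_primes hl Nat.prime_two).2 h2, Nat.dvd_one, orderOf_eq_one_iff] at h6
  rw [x2, one_mul] at hx
  obtain ⟨m, hm, -⟩ := X.exists_rp w₁
  refine cor_ne (r2 b hb) (fz hm ?_ (fun e => w1 (X.rp_unique hm (rp_of_mem e))) (H.cor_fix m1 hb))
  rintro _ (rfl | rfl)
  · rw [eq_comm, ← mul_inv_eq_iff_eq_mul, X.conj_τ hm, s2]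
  · rw [eq_comm, ← mul_inv_eq_iff_eq_mul, X.conj_τ hm, hx]

/-- **there is no such plane** -/
theorem not_pl [Finite ↥(GF F G)] {M : Ideal AlgInt} {B : Set (IrrCharacter ↥(GF F G))} {D : Subgroup ↥(GF F G)}
    (hM : IsPModular l M) (hB : IsPBlock M B) (hD : IsDefectGroup l M B D) (ha : ¬ IsMulCommutative D) :
    ¬ Pl X l (D.map (GF F G).subtype) := by
  rintro ⟨y, hy, hN, z, t, zD, tD, hc, hz, ht, z1, z2, t1, t2, h5⟩
  replace h := h.conj hy hN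
  replace hL : NL (X.conj hy hN) l := hL
  replace hT : Two (X.conj hy hN) l := hT
  replace hS : S2 (X.conj hy hN) l := fun u hu =>
    let ⟨_, _, H⟩ := hS u hu
    ⟨_, _, H.un, H.rt, H.or, H.c1, H.c2⟩
  generalize X.conj hy hN = X at *
  have := Fact.mk hl
  have hP := H592.Defect.isPGroup_of_isDefectGroup hD
  have h0 := sz_empty hl hp hT hz ht z1 z2 t1 t2 h5
  have hZ : ({z, t} : Set Y) ⊆ X.T := by
    rintro _ (rfl | rfl)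
    exacts [hz, ht]
  have he : El l ({z, t} : Set Y) := by
    rintro _ (rfl | rfl)
    exacts [⟨1, by rwa [pow_one]⟩, ⟨1, by rwa [pow_one]⟩]
  have c1 : ∀ d ∈ D, (d : Y) ∈ centralizer ({z, t} : Set Y) := by
    rintro d hd _ (rfl | rfl)
    exacts [(hc d ⟨d, hd, rfl⟩).1.symm, (hc d ⟨d, hd, rfl⟩).2.symm]
  have c2 : ∀ d ∈ D, (d : Y) ∈ X.NN := fun d hd => by
    obtain ⟨c, h4, m, hm, -, e⟩ := X.exists_cen_form hZ d.2.1 (c1 d hd)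
    rw [h0] at h4
    rwa [e, mem_bot.1 ((RGD.Sup_le fun _ h => h.elim) h4), one_mul]
  obtain ⟨u, hu, uT⟩ : ∃ u ∈ D, (u : Y) ∉ X.T := by
    by_contra h6
    push Not at h6
    exact ha ⟨⟨fun a b => Subtype.ext (Subtype.ext (X.T_comm (h6 _ a.2) (h6 _ b.2)))⟩⟩
  obtain ⟨j, hj⟩ := map_el hP u ⟨u, hu, rfl⟩
  obtain ⟨g, g1, g2, g3⟩ := BHZ.Nil.exists_reg_defect hM hB hD
  have g4 : g = 1 := Subtype.ext (no_reg h hl hp hf hL (Set.toFinite _) hZ he h0 u.2.1 (c1 u hu) uT hj g.2.1 (by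
      rintro _ (rfl | rfl)
      · obtain ⟨d, hd, rfl⟩ := zD
        exact congrArg Subtype.val (g2 d hd)
      · obtain ⟨d, hd, rfl⟩ := tD
        exact congrArg Subtype.val (g2 d hd)) (congrArg Subtype.val (g2 u hu)) (by rwa [orderOf_coe]))
  obtain ⟨w, hw⟩ := c2 u hu
  obtain ⟨w₁, e1, e2, e3, v, v0, hv⟩ := exists_fix h hl h2 hp hf hL hT hS hz ht (map_subtype_le D zD).2 (map_subtype_le D tD).2
    z1 z2 t1 t2 h5 hw u.2.2 (c1 u hu) uT hj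
  obtain ⟨m, hm, Fm⟩ := X.exists_rp_fix e1
  let K : Subgroup ↥(GF F G) := X.NN.subgroupOf (GF F G)
  let x : K := ⟨⟨m, hm.mem_G, Fm⟩, w₁, hm⟩
  obtain ⟨i, n, hn, e4⟩ := Nat.exists_eq_pow_mul_and_not_dvd (orderOf_pos x).ne' l hl.ne_one
  have n0 : n ≠ 0 := fun e => hn (e ▸ dvd_zero l)
  have e5 : IsPGroup l (zpowers (x ^ n)) := IsPGroup.of_card (n := i) (by
    rw [Nat.card_zpowers, orderOf_pow' _ n0, e4, Nat.gcd_eq_right (Dvd.intro_left _ rfl),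
      Nat.mul_div_cancel _ (Nat.pos_of_ne_zero n0)])
  obtain ⟨P, hP1⟩ := e5.exists_le_sylow
  obtain ⟨Q, hQ⟩ := (hP.comap_subtype (K := K)).exists_le_sylow
  obtain ⟨s, rfl⟩ := MulAction.exists_smul_eq K P Q
  have e6 := g3 _ ((s • P).2.map K.subtype) (fun d hd => ⟨⟨d, c2 d hd⟩, hQ hd, rfl⟩) fun _ _ => by rw [g4, mul_one, one_mul]
  have e7 : ((s * x ^ n * s⁻¹ : K) : GF F G) ∈ D :=
    e6 ▸ ⟨_, smul_mem_pointwise_smul _ (MulAut.conj s) _ (hP1 (mem_zpowers _)), rfl⟩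
  obtain ⟨r, hr⟩ := s.2
  have e8 : X.Rp (r * w₁ ^ n * r⁻¹) ((s * x ^ n * s⁻¹ : K) : GF F G) := (hr.mul (rp_pow X hm n)).mul hr.inv
  have e9 : ∀ n : ℕ, X.Wm (w₁ ^ n) *ᵥ v = v := fun n => by
    induction n with
    | zero => rw [pow_zero, X.Wm_one, one_mulVec]
    | succ n ih => rw [pow_succ, X.Wm_mul, ← mulVec_mulVec, hv, ih]
  have e12 := fix_zero h hl hp hf hL (Set.toFinite _) hZ he h0 e8 (c1 _ e7) (fun e => e2 (by
    have e10 := X.rp_unique e8 (rp_of_mem e)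
    rw [mul_inv_eq_one, mul_eq_left] at e10
    have e11 := Nat.dvd_gcd (orderOf_dvd_of_pow_eq_one e3) (orderOf_dvd_of_pow_eq_one e10)
    rwa [(hl.coprime_iff_not_dvd.2 hn).pow_left j, Nat.dvd_one, orderOf_eq_one_iff] at e11)) (v := X.Wm r *ᵥ v)
    (by rw [mulVec_mulVec, ← X.Wm_mul, inv_mul_cancel_right, X.Wm_mul, ← mulVec_mulVec, e9])
  exact v0 (by rw [← Wm_Wm_inv r⁻¹ v, inv_inv, e12, mulVec_zero])

/-- **Bad primes with one bad node and two components.** -/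
theorem rk_bad [Finite ↥(GF F G)] [Fact l.Prime] (hI : I1 X l) (hs : Si.SI) (hq : X.QS) : RK l ↥(GF F G) :=
  fun _ hM km => rw_of_rcg hM (km _) fun _ _ hB hD ha _ hχ =>
    (rob_or h hl hp hf hL hI hs hq hM hB hD ha hχ).resolve_right (not_pl h hl h2 hp hf hL hT hS hM hB hD ha)

end Dat

section Fr

open Cfsg.Agent.H92.NE (bl bl_comm bl_sr FormOK bl_rep)
open Cfsg.Agent.Tits.Roots Cfsg.Agent.ChevalleyStructure.CoxeterGeom Cfsg.Agent.ChevalleyStructure.CoxeterGeomTypes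

variable {C : ChevalleyDatum} {n : ℕ} {M : CoxeterMatrix (Fin n)} {hp : IsType C n M} {r : ℕ} [Fact r.Prime] {k : Type}
  [Field k] [CharP k r] [IsAlgClosed k] {l : ℕ} {i : Fin n} {Mx : Matrix (Fin n) (Fin n) ℤ} {Bm : Fin n → Fin n → ℤ}

theorem cpr_bl (X : XF hp r k Mx) (hF : FormOK C n Bm) (h0 : ∀ j, Bm j j ≠ 0) (a : Fin n → ℤ) {b : Fin n → ℤ}
    (hb : X.D.Rt b) : cpr X.D.cs X.D.h a b = 0 ↔ bl Bm b a = 0 := by
  obtain ⟨u : M.Group, j : Fin n, rfl⟩ := hb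
  have key : ∀ z : Fin n → ℤ, 2 * bl Bm z (sr j) = Bm j j * pairing (cartanOf C n) j z := fun z => by
    rw [bl_sr, pairing, Finset.mul_sum, Finset.mul_sum]
    exact Finset.sum_congr rfl fun j' _ => by rw [← mul_assoc, hF.2 j j', mul_assoc]
  have h1 := bl_rep hp hF u (rp hp u⁻¹ a) (sr j)
  rw [show rep M.toCoxeterSystem hp.isCartan u (rp hp u⁻¹ a) = a from rep_apply_inv .., bl_comm hF.1 _ (sr j)] at h1
  have h2 := key (rp hp u⁻¹ a)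
  rw [← h1] at h2
  refine (cpr_rep_sr X.D.cs X.D.h a u j).congr_left.trans ?_
  exact ⟨fun e => (mul_eq_zero.1 (h2.trans (mul_eq_zero_of_right _ e))).resolve_left two_ne_zero,
    fun e => (mul_eq_zero.1 (h2.symm.trans (mul_eq_zero_of_right _ e))).resolve_left (h0 j)⟩

variable (C n Bm) in
/-- the check for `Hub` -/
def HubC (P : (Fin n → ℤ) → Prop) (s₀ : ℕ) : Prop := s₀ < C.nroots ∧ P (vec C n s₀) ∧ ∀ s : Fin C.nroots, P (vec C n s) →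
  ∃ t : Fin C.nroots, P (vec C n t) ∧ bl Bm (vec C n t) (vec C n s₀) ≠ 0 ∧ bl Bm (vec C n t) (vec C n s) ≠ 0

instance HubC.dec (P : (Fin n → ℤ) → Prop) [DecidablePred P] (s₀ : ℕ) : Decidable (HubC C n Bm P s₀) := by
  unfold HubC; infer_instance

theorem HubC.hub (X : XF hp r k Mx) (hF : FormOK C n Bm) (h0 : ∀ j, Bm j j ≠ 0) {P : (Fin n → ℤ) → Prop} {s₀ : ℕ}
    (h : HubC C n Bm P s₀) : Hub X.D (RP X P) := by
  refine ⟨_, ⟨rt_vec X ⟨s₀, h.1⟩, h.2.1⟩, fun a ha => ?_⟩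
  obtain ⟨s, hs, rfl⟩ := (X.rt_iff a).1 ha.1
  obtain ⟨t, h1, h2, h3⟩ := h.2.2 ⟨s, hs⟩ ha.2
  exact ⟨_, ⟨rt_vec X t, h1⟩, (cpr_bl X hF h0 _ (rt_vec X t)).not.2 h2, (cpr_bl X hF h0 _ (rt_vec X t)).not.2 h3⟩

variable (i) in
/-- the two components -/
def P1 (a : Fin n → ℤ) : Prop := ∀ m, i ≤ m → a m = 0

instance P1.dec : DecidablePred (P1 i) := fun _ => by unfold P1; infer_instance

variable (l i) in
/-- the two components -/
def P2 (a : Fin n → ℤ) : Prop := (l : ℤ) ∣ a i ∧ ¬ P1 i a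

instance P2.dec : DecidablePred (P2 l i) := fun _ => by unfold P2; infer_instance

variable (C n l i Bm) in
/-- the check for `S2` -/
def S2C (s₁ s₂ : ℕ) : Prop := FormOK C n Bm ∧ (∀ j, Bm j j ≠ 0) ∧ HubC C n Bm (P1 i) s₁ ∧ HubC C n Bm (P2 l i) s₂ ∧
  ∀ s : Fin C.nroots, P1 i (vec C n s) → ∀ t : Fin C.nroots, P2 l i (vec C n t) → bl Bm (vec C n t) (vec C n s) = 0

instance S2C.dec (s₁ s₂ : ℕ) : Decidable (S2C C n l i Bm s₁ s₂) :=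
  have : Decidable (FormOK C n Bm) := by unfold FormOK; infer_instance
  instDecidableAnd (dq := instDecidableAnd (dq := instDecidableAnd (dq := instDecidableAnd)))

theorem s2_of (X : XF hp r k Mx) (hl : l.Prime) (hB : Bad C n l i) {s₁ s₂ : ℕ} (h : S2C C n l i Bm s₁ s₂) : S2 X.D l := by
  rintro (u : Fin n → ℤ) ⟨h1, h2⟩
  have H : Sp2 X.D (RP X fun a => (l : ℤ) ∣ a i) (RP X (P1 i)) (RP X (P2 l i)) := ⟨Set.ext fun a => ⟨fun ha => ha.elim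
    (fun ha => ⟨ha.1, (dvd_zero _).trans (dvd_of_eq (ha.2 i le_rfl).symm)⟩) fun ha => ⟨ha.1, ha.2.1⟩, fun ha =>
      (em (P1 i a)).imp (fun e => ⟨ha.1, e⟩) fun e => ⟨ha.1, ha.2, e⟩⟩, RP_rt X, fun a ha b hb => by
        obtain ⟨s, hs, rfl⟩ := (X.rt_iff a).1 ha.1
        obtain ⟨t, ht, rfl⟩ := (X.rt_iff b).1 hb.1
        exact (cpr_bl X h.1 h.2.1 _ hb.1).2 (h.2.2.2.2 ⟨s, hs⟩ ha.2 ⟨t, ht⟩ hb.2),
    h.2.2.1.hub X h.1 h.2.1, h.2.2.2.1.hub X h.1 h.2.1⟩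
  have h3 := kac_one hp hl hB 1 u
  rw [pow_one] at h3
  rcases h3 with ⟨c, h3, v, h4⟩ | ⟨w, h3⟩
  · refine (h2 fun (m : Fin n) => h3.symm.dvd_of_dvd_mul_left ⟨-v m, ?_⟩).elim
    have : c * u m + l * v m = 0 := congrFun (h1 _ fun a ha => h4 a ((rt_rr X a).1 ha)) m
    linear_combination this
  · refine ⟨_, _, (?_ : im X.D w _ = _) ▸ H.im w⟩
    refine Set.ext fun a => and_congr (rt_act (X := X.D) w⁻¹) ((h3 _).symm.trans ?_)
    rw [show rp hp w (X.D.act w⁻¹ a) = a from rep_apply_inv ..]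
    rfl

theorem s2C_F4 : S2C chevF4 4 3 2 ![![2, -1, 0, 0], ![-1, 2, -2, 0], ![0, -2, 4, -2], ![0, 0, -2, 4]] 33 24 := by
  decide +kernel

private noncomputable def _root_.Cfsg.Agent.LsF.f9143b2_0 : {f // @Cfsg.Lie.ChevalleyDatum.cartan = f} := ⟨_, by first | (delta Cfsg.Lie.ChevalleyDatum.cartan; rewrite [Cfsg.Agent.LsF.agetD_eq]; exact rfl) | exact rfl⟩
private noncomputable def _root_.Cfsg.Agent.LsF.f9143b2_1 : {f // @Cfsg.Lie.ChevalleyDatum.simple = f} := ⟨_, by first | (delta Cfsg.Lie.ChevalleyDatum.simple; rewrite [Cfsg.Agent.LsF.agetD_eq]; exact rfl) | exact rfl⟩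
private noncomputable def _root_.Cfsg.Agent.LsF.f9143b2_2 : {f // @Cfsg.Agent.ChevalleyStructure.CoxeterGeomTypes.cartanOf = f} := ⟨_, by first | (delta Cfsg.Agent.ChevalleyStructure.CoxeterGeomTypes.cartanOf; rewrite [Cfsg.Agent.LsF.f9143b2_0.2, Cfsg.Agent.LsF.f9143b2_1.2]; exact rfl) | exact rfl⟩
private noncomputable def _root_.Cfsg.Agent.LsF.f9143b2_3 : {f // @Cfsg.Agent.ChevalleyStructure.RootVecTab.dig = f} := ⟨_, by first | (delta Cfsg.Agent.ChevalleyStructure.RootVecTab.dig; rewrite [Cfsg.Agent.LsF.nmul_pat]; exact rfl) | exact rfl⟩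
private noncomputable def _root_.Cfsg.Agent.LsF.f9143b2_4 : {f // @Cfsg.Agent.ChevalleyStructure.RootVecTab.packTab = f} := ⟨_, by first | (delta Cfsg.Agent.ChevalleyStructure.RootVecTab.packTab; rewrite [Cfsg.Agent.LsF.instDecEq_eq, Cfsg.Agent.LsF.ite_eq]; exact rfl) | exact rfl⟩
private noncomputable def _root_.Cfsg.Agent.LsF.f9143b2_5 : {f // @Cfsg.Agent.ChevalleyStructure.RootVecTab.code = f} := ⟨_, by first | (delta Cfsg.Agent.ChevalleyStructure.RootVecTab.code; rewrite [Cfsg.Agent.LsF.f9143b2_4.2, Cfsg.Agent.LsF.nmul_pat, Cfsg.Agent.LsF.npow_pat]; exact rfl) | exact rfl⟩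
private noncomputable def _root_.Cfsg.Agent.LsF.f9143b2_6 : {f // @Cfsg.Agent.ChevalleyStructure.RootVec.rt = f} := ⟨_, by first | (delta Cfsg.Agent.ChevalleyStructure.RootVec.rt; rewrite [Cfsg.Agent.LsF.f9143b2_3.2, Cfsg.Agent.LsF.f9143b2_5.2, Cfsg.Agent.LsF.nsub_pat, Cfsg.Agent.LsF.isub_pat, Cfsg.Agent.LsF.icast_pat, Cfsg.Agent.LsF.decLt_eq, Cfsg.Agent.LsF.dAnd_eq, Cfsg.Agent.LsF.ite_eq]; exact rfl) | exact rfl⟩
private noncomputable def _root_.Cfsg.Agent.LsF.f9143b2_7 : {f // @Cfsg.Agent.Nodes.RGDChev.vec = f} := ⟨_, by first | (delta Cfsg.Agent.Nodes.RGDChev.vec; rewrite [Cfsg.Agent.LsF.f9143b2_6.2]; exact rfl) | exact rfl⟩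
private noncomputable def _root_.Cfsg.Agent.LsF.f9143b2_8 : {f // @Cfsg.Agent.RC.D2.P1.dec = f} := ⟨_, by first | (delta Cfsg.Agent.RC.D2.P1.dec; rewrite [Cfsg.Agent.LsF.instIDecEq_eq, Cfsg.Agent.LsF.dFinLe_eq, Cfsg.Agent.LsF.dForallFin_eq]; exact rfl) | exact rfl⟩
theorem s2C_E8 : S2C chevE8 8 5 4 (cartanOf chevE8 8) 162 120 := by (refine of_decide_eq_true ?_; (try (delta Cfsg.Agent.H92.NE.FormOK Cfsg.Agent.RC.D2.HubC Cfsg.Agent.RC.D2.HubC.dec Cfsg.Agent.RC.D2.P2 Cfsg.Agent.RC.D2.P2.dec Cfsg.Agent.RC.D2.S2C Cfsg.Agent.RC.D2.S2C.dec; rewrite [Cfsg.Agent.LsF.f9143b2_2.2, Cfsg.Agent.LsF.f9143b2_7.2, Cfsg.Agent.LsF.f9143b2_8.2, Cfsg.Agent.LsF.imul_pat, Cfsg.Agent.LsF.icast_pat, Cfsg.Agent.LsF.decLt_eq, Cfsg.Agent.LsF.instIDecEq_eq, Cfsg.Agent.LsF.dAnd_eq, Cfsg.Agent.LsF.dNot_eq, Cfsg.Agent.LsF.dForallFin_eq, Cfsg.Agent.LsF.dExistsFin_eq, Cfsg.Agent.LsF.decide_eq]));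 decide +kernel)

variable [hl : Fact l.Prime] {S : Type} [Group S] [Finite S] {Adm : Matrix (Fin n) (Fin n) ℤ → Prop}

theorem rk_one (hS : Si.SI) {X : XF hp r k Mx} (s : XS X Adm 1 S) (h2 : l ≠ 2) (hr : l ≠ r) (hP : PM C n 1) (hB : Bad C n l i)
    (hT : TwoC C n l i) {s₁ s₂ : ℕ} (h : S2C C n l i Bm s₁ s₂) : RK l S :=
  have := X.finite
  rk_xs s not_dvd_one' (rk_bad (pi1 X hP) hl.out h2 hr (Nat.coprime_one_right l) (nl_of X hl.out hB) (two_of X hl.out hB hT)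
    (s2_of X hl.out hB h) (i1_of X hl.out hB) hS X.D_qs)

end Fr

section Rows

variable {l : ℕ} [hl : Fact l.Prime] {S : Type} [Group S] [Finite S]

/-- the blocks of the simple group `F₄(q)`, `l = 3` -/
theorem rk_F4 [Fact (Nat.Prime 3)] (hS : Si.SI) (h : CF4 3 S) : RK 3 S := by
  obtain ⟨r, e, _, hr, -, k, _, _, _, X, -, ⟨s⟩⟩ := Nt.row_F4 h
  exact rk_one hS s (by decide) hr pm_F4 bad_F4 twoC_F4 s2C_F4

/-- **`F₄(q)`**, from the cover of `F₄(2)` -/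
theorem f4_of [Fact (Nat.Prime 3)] (hS : Si.SI)
    (hx : ∀ (F : Type) [Field F] [Fintype F], Fintype.card F = 2 → RRow 3 ↥(chevF4.group F)) : RRowFor CF4 :=
  fun l hl h2 S _ _ _ _ h => by
  rcases odd_cases h2 with rfl | h5
  · have h1 := rk_F4 hS h
    obtain ⟨F, _, _, -, ⟨i⟩⟩ := h
    by_cases h4 : Fintype.card F = 2
    · have := fin_chev (C := chevF4) (F := F)
      exact RRow.of_equiv i (hx F h4)
    · exact rrow_zd ((TO.X.zd_F4 h4).congr i) h1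
  · exact f4_ge (si_of hS) h5 h

/-- **`²F₄(q)`** -/
theorem row_tf4 (hS : Si.SI) : RRowFor CTf4 := fun l hl h2 S _ _ _ _ h => by
  rcases odd_cases h2 with rfl | h5
  · obtain ⟨m, -, k, _, _, _, X, -, ⟨s⟩⟩ := Nt.row_2F4 h.2
    exact rrow_zd (TO.X.zd_iso2F4 h.2) (rk_one hS s h2 h.1 pm_F4 bad_F4 twoC_F4 s2C_F4)
  · exact tf4_ge (si_of hS) h5 h

/-- **`E₈(q)`, `l ≥ 5`** -/
theorem e8_five (hS : Si.SI) (h5 : 5 ≤ l) (h : CE8 l S) : RRow l S := by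
  obtain rfl | h7 : l = 5 ∨ 7 ≤ l := by
    have h2 : l ≠ 6 := fun e => absurd (e ▸ hl.out) (by decide)
    omega
  · obtain ⟨r, e, _, hr, -, k, _, _, _, X, -, ⟨s⟩⟩ := Nt.row_E8 h
    obtain ⟨F, _, _, -, ⟨i⟩⟩ := h
    exact rrow_zd (TO.X.zd_E8.congr i) (rk_one hS s (by decide) hr pm_E8 bad_E8 twoC_E8 s2C_E8)
  · exact e8_ge (si_of hS) h7 h

end Rows

end Cfsg.Agent.RC.D2

private theorem dce_3cfade5b8d3b : _root_.True := by
  try have : _root_.True := by simp only [_root_.Cfsg.Agent.RC.D2.WR.eq_1]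
  exact _root_.True.intro
end

-- part: RC/B/Main
section
set_option linter.all false
open scoped Cfsg.Agent.FastGrp

/-!
# RC (S4576): the local theorem and the simply connected groups of type `E` at the prime three (helper1)
-/

set_option autoImplicit false
set_option linter.unusedSectionVars false

namespace Cfsg.Agent.RC.B

open Cfsg Cfsg.Lie Cfsg.Agent.DL Cfsg.Agent.Nodes.Reps Matrix Subgroup Cfsg.Agent.KM.Ht Cfsg.Agent.KM.Tor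
open Cfsg.Agent.KM.Mu (Rob RCg fac_center)
open Cfsg.Agent.TO.X.Cn (Pi1)
open Zl

namespace Mn

section Grp

variable {Y : Type} [Group Y]

theorem mem_of_cop {Z : Subgroup Y} {u : Y} {i : ℤ} (h3 : u ^ 3 ∈ Z) (hi : u ^ i ∈ Z) (h : ¬ 3 ∣ i) : u ∈ Z := by
  obtain ⟨a, b, e⟩ : ∃ a b : ℤ, 1 = 3 * a + i * b := by
    have : i % 3 = 1 ∨ i % 3 = 2 := by omega
    rcases this with h | h
    · exact ⟨-(i / 3), 1, by omega⟩
    · exact ⟨i / 3 + 1, -1, by omega⟩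
  have := mul_mem (zpow_mem h3 a) (zpow_mem hi b)
  rwa [← zpow_natCast, ← _root_.zpow_mul, ← _root_.zpow_mul, ← _root_.zpow_add, Nat.cast_ofNat, ← e, zpow_one] at this

theorem exists_fin {Z : Subgroup Y} {u v : Y} {i j : ℤ} (hc : Commute u v) (h3 : u ^ 3 ∈ Z) (h4 : v ^ 3 ∈ Z) (hu : u ∉ Z)
    (hij : ¬ (3 ∣ i ∧ 3 ∣ j)) (h : u ^ i * v ^ j ∈ Z) : ∃ m : Fin 3, (u ^ (m : ℕ))⁻¹ * v ∈ Z := by
  have k3 : ∀ {x : Y} {n : ℤ}, x ^ 3 ∈ Z → 3 ∣ n → x ^ n ∈ Z := by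
    rintro x _ hx ⟨c, rfl⟩
    rw [_root_.zpow_mul]
    exact zpow_mem (by exact_mod_cast hx) c
  have hj : ¬ 3 ∣ j := fun hj => hu (mem_of_cop h3 ((mul_mem_cancel_right (k3 h4 hj)).1 h) fun hi => hij ⟨hi, hj⟩)
  have h5 := zpow_mem h j
  rw [(hc.zpow_zpow i j).mul_zpow, ← _root_.zpow_mul, ← _root_.zpow_mul] at h5
  have h6 : 3 ∣ j * j - 1 := by
    obtain ⟨c, rfl | rfl⟩ : ∃ c, j = 3 * c + 1 ∨ j = 3 * c + 2 := ⟨j / 3, by omega⟩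
    · exact ⟨3 * c * c + 2 * c, by ring⟩
    · exact ⟨3 * c * c + 4 * c + 1, by ring⟩
  refine ⟨⟨((-(i * j)) % 3).toNat, by omega⟩, ?_⟩
  have h7 : (3 : ℤ) ∣ -(((-(i * j)) % 3).toNat : ℤ) - i * j := by omega
  have h8 := mul_mem (mul_mem (k3 h3 h7) h5) (inv_mem (k3 h4 h6))
  rwa [← mul_assoc, ← _root_.zpow_add, sub_add_cancel, mul_assoc, ← _root_.zpow_sub, sub_sub_cancel, zpow_one,
    _root_.zpow_neg, zpow_natCast] at h8

end Grp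

variable {p : ℕ} [Fact p.Prime] {k : Type} [Field k] [CharP k p] {Y : Type} [Group Y] {N : Type} [Fintype N]
  [DecidableEq N] {ρ : Y →* GL N k} {F : MulAut Y} {G : Subgroup Y} [IsAlgClosed k] {X : Datum p ρ F G}
  {D S : Subgroup Y} {y : Y} {n : ℕ}

theorem split {z : Y} (hS : S ≤ X.T) (hz : z ∈ S ⊔ mu X) : ∃ ζ ∈ mu X, ζ⁻¹ * z ∈ S := by
  have h : S ≤ normalizer (mu X : Set Y) := fun s hs => centralizer_le_normalizer _ fun m hm => X.T_comm hm.1.1 (hS hs)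
  have h1 : z ∈ ((mu X ⊔ S : Subgroup Y) : Set Y) := by rwa [sup_comm]
  rw [coe_mul_of_right_le_normalizer_left _ _ h] at h1
  obtain ⟨ζ, h2, s, h3, rfl⟩ := h1
  exact ⟨ζ, h2, by rwa [inv_mul_cancel_left]⟩

theorem cy_of (h : St X D S y) (h1 : IsCyclic ↥(D ⊓ S)) (h2 : Nat.card (Zn D) ≤ 3 * Nat.card ↥(D ⊓ S)) : Cy G D :=
  ⟨D ⊓ S, St.inf_le h, h1, h2, fun g hg hn x hx => ⟨(mem_normalizer_iff.1 hn x).1 hx.1,
    h.can.z0 ▸ h.can.nrm g hg hn x (h.can.z0.symm ▸ hx.2)⟩⟩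

theorem card_mu (h : St X D S y) (h1 : Nat.card (mu X) = 3) (h2 : ∀ ζ ∈ mu X, F ζ = ζ) (h3 : Zn D ≤ S ⊔ mu X) :
    Nat.card (Zn D) ≤ 3 * Nat.card ↥(D ⊓ S) := by
  have := fin_D X h.loc
  have : Finite ↥(D ⊓ S) := Finite.of_injective _ (inclusion_injective inf_le_left)
  have : Finite (mu X) := Nat.finite_of_card_ne_zero (by omega)
  have : Nontrivial (mu X) := Finite.one_lt_card_iff_nontrivial.1 (by omega)
  obtain ⟨ζ, hζ⟩ := exists_ne (1 : mu X)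
  refine card_le3 (ζ : Y) fun a ha => ?_
  obtain ⟨m, hm, h4⟩ := split (Can.le_T h.can) (h3 ha)
  obtain ⟨i, rfl⟩ := mem_three h1 ζ.2 (fun e => hζ (Subtype.ext e)) hm
  exact ⟨i, D.mul_mem (D.inv_mem (St.mu_mem h hm (h2 _ hm))) ha.1, h4⟩

theorem fix_mu (h1 : Nat.card (mu X) = 3) {ζ : Y} (h2 : ζ ∈ mu X) (h3 : ζ ≠ 1) (h4 : F ζ = ζ) : ∀ x ∈ mu X, F x = x :=
  fun x hx => by
    obtain ⟨i, rfl⟩ := mem_three h1 h2 h3 hx
    rw [map_pow, h4]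

end Mn

open Mn

/-- **the local theorem** -/
theorem boxLoc3_of (cc : BoxCC) (fr : BoxFr) (k1 : BoxK1) (k3 : BoxK3) (pl : BoxPl) (r6 : BoxR6) (r8 : BoxR8) :
    BoxLoc3 := fun {p _ k _ _ Y _ N _ _ ρ F G _} X n D S y hE h => by
  have := fin_D X h.loc
  have : Finite ↥(D ⊓ S) := Finite.of_injective _ (inclusion_injective inf_le_left)
  obtain ⟨c1, c2⟩ := k1 X n hE h.p3
  have f1 := (fr X 3 D S Nat.prime_three h.p3 h.pi h.loc.pg (fun _ hd => (h.loc.le hd).1) h.can).1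
  have c3 : ∀ a ∈ D, a ∈ ZL G S → ∃ ζ ∈ mu X, ζ⁻¹ * a ∈ S := fun a ha h1 => split (Can.le_T h.can)
    (c2 S h.can.z0 a (St.zc h cc ▸ h1) (by rintro _ rfl; exact el_D h.loc _ ha))
  have c4 : n ≠ 6 → ∀ ζ ∈ mu X, ζ = 1 := fun h6 ζ hζ => by
    rw [if_neg h6, card_eq_one] at c1
    rwa [c1] at hζ
  by_cases hA : Zn D ≤ ZL G S
  · by_cases h1 : Zn D ≤ S
    · exact .inl h1
    obtain ⟨a, ha, h2⟩ := SetLike.not_le_iff_exists.1 h1
    obtain ⟨ζ, h3, h4⟩ := c3 a ha.1 (hA ha)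
    have h5 : ζ ∉ S := fun e => h2 ((mul_mem_cancel_left (inv_mem e)).1 h4)
    have h6 : ζ ≠ 1 := fun e => h5 (e ▸ one_mem _)
    have h7 : n = 6 := by_contra fun e => h6 (c4 e ζ h3)
    rw [if_pos h7] at c1
    have h8 : F ζ = ζ := by
      obtain ⟨i, hi⟩ := mem_three c1 h3 h6 (F_mu h3)
      have h9 := mul_mem h4 (inv_mem (f1 _ h4))
      rw [map_mul, map_inv, (mem_GF.1 (h.loc.le ha.1)).2, _root_.mul_inv_rev, inv_inv, mul_assoc, mul_inv_cancel_left] at h9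
      fin_cases i
      · exact absurd (F.injective (hi.trans ((pow_zero ζ).trans (map_one F).symm))) h6
      · exact hi.trans (pow_one ζ)
      · rw [hi] at h9
        exact absurd (by simpa [pow_two] using h9) h5
    have h9 := fix_mu c1 h3 h6 h8
    have h10 : Zn D ≤ S ⊔ mu X := fun b hb =>
      let ⟨m, hm, e⟩ := c3 b hb.1 (hA hb)
      (mul_mem_cancel_left (inv_mem (mem_sup_right hm))).1 (mem_sup_left e)
    by_cases hc : IsCyclic ↥(D ⊓ S)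
    · exact .inr (.inl (cy_of h hc (card_mu h c1 h9 h10)))
    · exact .inr (.inr ⟨h7, fun e => h5 (e h3), h9, h10, hc⟩)
  obtain ⟨u, hu, h1⟩ := SetLike.not_le_iff_exists.1 hA
  have key : ∀ v ∈ Zn D, v ∉ ZL G S → v ^ 3 ∈ ZL G S ∧ (n = 6 → S = ⊥ ∧ ¬ ∀ ζ ∈ mu X, F ζ = ζ) ∧ IsCyclic ↥(D ⊓ S) := by
    intro v hv h2
    obtain ⟨g, hg, hN, h', t1, -⟩ := St.frame h cc fr hv.1 hv.1 rfl
    have e := St.zc h' cc
    obtain ⟨d1, d2, d3⟩ := k3 _ n S v (hE.conj hg hN) h.p3 h'.can.z0 t1 (by rintro _ rfl; exact el_D h.loc _ hv.1)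
      ((fr _ 3 D S Nat.prime_three h.p3 h'.pi h.loc.pg (fun _ hd => (h.loc.le hd).1) h'.can).2.2.2.2 v t1 hv).1 (e ▸ h2)
    refine ⟨e ▸ d1, fun h6 => ⟨d2 h6, fun hf => h2 (e ▸ r6 _ D S y v (h6 ▸ hE.conj hg hN) h' (Zl.mu_conj hg hN ▸ hf) t1 hv)⟩, ?_⟩
    rcases hE.ty with ⟨h6, -⟩ | ⟨h7, -⟩ | ⟨h8, -⟩
    · rw [d2 h6, inf_bot_eq]
      infer_instance
    · exact d3 h7 _ inf_le_right this
    · exact r8 _ D S y v (h8 ▸ hE.conj hg hN) h' t1 hv (e ▸ h2)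
  obtain ⟨u3, u6, uc⟩ := key u hu h1
  refine .inr (.inl (cy_of h uc (card_le3 u fun v hv => ?_)))
  obtain ⟨g, hg, hN, h', t1, t2⟩ := St.frame h cc fr hu.1 hv.1 (hv.2 u hu.1)
  obtain ⟨i, j, hij, h2⟩ := pl _ n D S y u v (hE.conj hg hN) h' t1 t2 hu hv
  rw [St.zc h' cc] at h2
  obtain ⟨m, hm⟩ := exists_fin (hv.2 u hu.1) u3 ((em _).elim (pow_mem · 3) fun e => (key v hv e).1) h1 hij h2
  have h3 : (u ^ (m : ℕ))⁻¹ * v ∈ D := mul_mem (inv_mem (pow_mem hu.1 _)) hv.1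
  obtain ⟨ζ, h4, h5⟩ := c3 _ h3 hm
  refine ⟨m, h3, ?_⟩
  by_cases h6 : n = 6
  · rw [if_pos h6] at c1
    rw [(u6 h6).1, mem_bot, inv_mul_eq_one] at h5
    rw [← h5, by_contra fun e : ζ ≠ 1 => (u6 h6).2 (fix_mu c1 h4 e (h5 ▸ (h.loc.le h3).2))]
    exact one_mem _
  · rwa [c4 h6 ζ h4, inv_one, one_mul] at h5

namespace Mn

variable {p : ℕ} [Fact p.Prime] {k : Type} [Field k] [CharP k p] {Y : Type} [Group Y] {N : Type} [Fintype N]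
  [DecidableEq N] {ρ : Y →* GL N k} {F : MulAut Y} {G : Subgroup Y} [IsAlgClosed k] {X : Datum p ρ F G}
  {n : ℕ} {M : Ideal AlgInt} {B : Set (IrrCharacter ↥(GF F G))} {D : Subgroup ↥(GF F G)}

/-- **the local setting of a block** -/
theorem exists_st (can : BoxCan) (br : BoxBR) (k0 : BoxK0) (hE : TE X n) (hp : 3 ≠ p) (hM : IsPModular 3 M)
    (hB : IsPBlock M B) (hD : IsDefectGroup 3 M B D) (ha : ¬ IsMulCommutative D) :
    ∃ (g : Y) (hg : g ∈ G) (hN : g⁻¹ * F g ∈ X.NN) (S : Subgroup Y) (y : Y),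
      St (X.conj hg hN) (D.map (GF F G).subtype) S y := by
  have : Fact (Nat.Prime 3) := ⟨Nat.prime_three⟩
  have := X.amb.finite_GF G
  obtain ⟨y, hy⟩ := boxLoc 3 (GF F G) Y (GF F G) (GF F G).subtype M B D hM hB hD (fun x => x.2)
    (by rw [ker_subtype]; exact bot_le) (by rw [ker_subtype, card_bot]; decide) fun h hh _ => ⟨⟨h, hh⟩, rfl⟩
  obtain ⟨g, hg, hN, S, hS⟩ := can X 3 _ Nat.prime_three hp hE.pi hy.pg hy.le
  obtain ⟨h1, h2⟩ := k0 _ n (hE.conj hg hN)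
  exact ⟨g, hg, hN, S, y, hp, hE.pi, h1, h2, hS, hy, fun h => ha ⟨⟨fun a b => Subtype.ext (Subtype.ext
    (h _ ⟨a, a.2, rfl⟩ _ ⟨b, b.2, rfl⟩))⟩⟩, br 3 Y _ M B D hM hB hD⟩

theorem cy_top (h : Cy G (D.map (GF F G).subtype)) : Cy ⊤ D := by
  obtain ⟨Q, h1, h2, h3, h4⟩ := h
  have h5 : Q ≤ GF F G := fun x hx => map_subtype_le D (h1 hx).1
  have e := subgroupOfEquivOfLe h5
  have h6 : ∀ x : GF F G, x ∈ D ↔ (x : Y) ∈ D.map (GF F G).subtype := fun x =>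
    (mem_map_iff_mem (subtype_injective _)).symm
  have h7 : Zn D = (Zn (D.map (GF F G).subtype)).subgroupOf (GF F G) := Subgroup.ext fun x => and_congr (h6 x)
    ⟨fun h _ ⟨d, hd, e⟩ => e ▸ congrArg Subtype.val (h d hd), fun h d hd => Subtype.ext (h _ ⟨d, hd, rfl⟩)⟩
  refine ⟨Q.subgroupOf _, h7 ▸ comap_mono h1, isCyclic_of_surjective e.symm e.symm.surjective, ?_,
    fun g _ hg x hx => h4 g g.2.1 (mem_normalizer_iff.2 fun z => ⟨?_, fun hz => ?_⟩) x hx⟩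
  · rwa [h7, Nat.card_congr e.toEquiv,
      Nat.card_congr (subgroupOfEquivOfLe (H := Zn _) (inf_le_left.trans (map_subtype_le D))).toEquiv]
  · rintro ⟨z, hz, rfl⟩
    exact ⟨_, (mem_normalizer_iff.1 hg z).1 hz, rfl⟩
  · have h8 : z ∈ GF F G := (mul_mem_cancel_left g.2).1 ((mul_mem_cancel_right (inv_mem g.2)).1 (map_subtype_le D hz))
    exact (h6 ⟨z, h8⟩).1 ((mem_normalizer_iff.1 hg ⟨z, h8⟩).2 ((h6 _).2 hz))

end Mn

/-- **the simply connected groups** -/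
theorem boxMain_of (can : BoxCan) (br : BoxBR) (k0 : BoxK0) (k1 : BoxK1) (loc : BoxLoc3) (cyc : BoxCyc) (two : BoxTwo)
    (tor : BoxTor) (fr : BoxFr) : BoxMain := fun {p _ k _ _ Y _ N _ _ ρ F G _} X n M hq hE hp hM B D hB hD ha χ hχ => by
  have : Fact (Nat.Prime 3) := ⟨Nat.prime_three⟩
  have := X.amb.finite_GF G
  obtain ⟨g, hg, hN, S, y, h⟩ := exists_st can br k0 hE hp hM hB hD ha
  have := fin_D X h.loc
  have : Finite ↥(D.map (GF F G).subtype ⊓ S) := Finite.of_injective _ (inclusion_injective inf_le_left)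
  have : Finite ↥(Zn (D.map (GF F G).subtype)) := Finite.of_injective _ (inclusion_injective inf_le_left)
  have e1 : Nat.card (Zn (D.map (GF F G).subtype)) = Nat.card (center D) := D2.card_ZY
  have e2 := St.fac_S h
  have hE' := hE.conj hg hN
  unfold Rob
  rcases loc _ n _ S y hE' h with h1 | h1 | ⟨rfl, h1, h2, h3, h4⟩
  · have h2 := fac_center (H592.Defect.isPGroup_of_isDefectGroup hD) ha
    rw [le_antisymm (St.inf_le h) (le_inf inf_le_left h1), e1] at e2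
    have h3 := KM.Si.si' hq hM hp hB hD hg hN h.can.toAdm (by rw [h.can.z0]; omega) hχ
    rw [h.can.z0] at h3
    omega
  · exact cyc _ M B D hM hB hD ha (cy_top h1) χ hχ
  · have hQ : IsPGroup 3 ↥(D.map (GF F G).subtype ⊓ S) := h.loc.pg.to_inf_left
    have hQ' : D.map (GF F G).subtype ⊓ S ≤ GF F G := inf_le_left.trans h.loc.le
    obtain ⟨⟨c, hc⟩, -⟩ := two _ S _ hE' hp h.can.z0 h.can.stab h1 h2 inf_le_right hQ' hQ h4
    obtain ⟨g', hg', hN', h5, h6⟩ := tor X 3 M B D g hg hN S c hq hM hp hB hD h.can.toAdm hc χ hχ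
    rw [h.can.z0] at h5
    have h' := Zl.St.conj h fr hg' hN' h5
    have h7 := (two _ S _ (hE'.conj hg' hN') hp h'.can.z0 h'.can.stab (Zl.mu_conj hg' hN' ▸ h1) (Zl.mu_conj hg' hN' ▸ h2)
      inf_le_right hQ' hQ h4).2.1
    have h8 := fac_le3 (A := Zn _) h.loc.pg.to_inf_left hQ (card_mu h (k1 _ 6 hE' hp).1 h2 h3)
    rw [e1] at h8
    omega

open Cfsg.Agent.KM Cfsg.Agent.KM.Mu Cfsg.Agent.RC.D2 Cfsg.Agent.KZ.DatX Cfsg.Agent.Nodes.RGDChev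

theorem BoxMain.rk [Fact (Nat.Prime 3)] (h : BoxMain) {p : ℕ} [Fact p.Prime] {k : Type} [Field k] [CharP k p] {Y : Type}
    [Group Y] {N : Type} [Fintype N] [DecidableEq N] {ρ : Y →* GL N k} {F : MulAut Y} {G : Subgroup Y} [IsAlgClosed k]
    {X : Datum p ρ F G} [Finite ↥(GF F G)] {n : ℕ} (hq : X.QS) (hE : TE X n) (hp : 3 ≠ p) : RK 3 ↥(GF F G) :=
  fun M hM km => rw_of_rcg hM (km _) (h X n M hq hE hp hM)

/-- **`E₇(q)`** -/
theorem row_e7 (hS : Si.SI) (ty : BoxTy) (h3 : BoxMain) : RRowFor CE7 := fun l hl h2 S _ _ _ _ h => by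
  rcases Ex.odd_cases h2 with rfl | h5
  · obtain ⟨F, _, _, h1, ⟨i⟩⟩ := h
    obtain ⟨r, e, _, _, hr, he, hF⟩ := Nt.exists_char F h1
    have := fin_chev (C := chevE7) (F := F)
    obtain ⟨k, _, _, _, X, t, -, Y, _, N, _, _, ρ, F', X', θ, s, ⟨I⟩, -, h4⟩ := Sc.hasSc_E7 Dat.boxDat2 hF
    have := X'.amb.finite_GF ⊤
    obtain ⟨h5, h6⟩ := (ty hpE7 X sl_E7).2 X' θ 2 I
    exact RRow.of_equiv i (rrow_sc s.π (I.not_dvd s h4 hl.out (by decide)) s.cov (S2106.result hF)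
      (Sc.not_dvd_sub Fact.out he 2) (h3.rk s.qs ⟨s.pi1, h6, .inr (.inl ⟨rfl, h5⟩)⟩ hr))
  · exact e7_ge (si_of hS) h5 h

/-- **`E₈(q)`** -/
theorem row_e8 (hS : Si.SI) (ty : BoxTy) (h3 : BoxMain) : RRowFor CE8 := fun l hl h2 S _ _ _ _ h => by
  rcases Ex.odd_cases h2 with rfl | h5
  · obtain ⟨r, e, _, hr, -, k, _, _, _, X, -, ⟨s⟩⟩ := Nt.row_E8 h
    obtain ⟨F, _, _, -, ⟨i⟩⟩ := h
    have := X.finite
    obtain ⟨h5, h6⟩ := (ty hpE8 X sl_E8).1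
    exact rrow_zd (TO.X.zd_E8.congr i) (rk_xs s (by decide)
      (h3.rk X.D_qs ⟨TO.X.Cn.pi1 X TO.X.Cn.pm_E8, h6, .inr (.inr ⟨rfl, h5⟩)⟩ hr))
  · exact e8_five hS h5 h

end Cfsg.Agent.RC.B
end

section
prune_inst 0xfdfcff3ffc2bffffff7e7ffe95dffd99b8ffffefdff9cbffe861ff2fdf6b88cbc5fb878fe012fe0ef6e2b410787b53fffeeeffea63dc7ffffd5ff41ffbff9fade6b50051d094240fb42fff83f07f8e7f000000000000000000000000000000004000000000

-- part: RC/B/SG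
section
prune_inst 0x2000001c40000000180006a000200010000100004000001000000001021000200180010000190010008848200000001110000000100000000004000000040100a89202e0880100a00006002000000000000000000000000000000000041000200000000
set_option linter.all false
open scoped Cfsg.Agent.FastGrp

/-!
# RC, `E₆`, `l = 3` : the simple group, the case `L = G` (helper98)
-/

set_option autoImplicit false
set_option linter.unusedSectionVars false

namespace Cfsg.Agent.RC.B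

open Cfsg Cfsg.Lie Cfsg.Agent.DL Cfsg.Agent.Nodes.Reps Matrix Subgroup Cfsg.Agent.KM.Ht Cfsg.Agent.KM.Tor
open Cfsg.Agent.KZ.DatX Cfsg.Agent.Nodes.RGDChev Cfsg.Agent.Nodes.Coroot Cfsg.Agent.ChevalleyStructure.NPerm
  Cfsg.Agent.ChevalleyStructure.CoxeterGeom Cfsg.Agent.ChevalleyStructure.CoxeterGeomTypes Cfsg.Agent.Tits.Roots
open Cfsg.Agent.TO.X.Cn (Pi1 χ_pow mem_cen)
open Cfsg.Agent.KM.Ex (sr_dot)
open Sim

namespace SG

/-! ### pure groups -/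

section Grp

variable {Y : Type} [Group Y] {D μ : Subgroup Y} {g x : Y} (hc : ∀ z ∈ μ, ∀ d ∈ D, d * z = z * d)
include hc

/-- the commutator with an element which is central modulo `μ` -/
def κ (hg : C2 μ D g) : D →* Y := MonoidHom.mk' (fun d => d * g * (d : Y)⁻¹ * g⁻¹) fun a b => by
  have h := hc _ (hg.2 b b.2) a a.2
  have h' := hc _ (hg.2 b b.2) _ (mul_mem (mul_mem (mul_mem a.2 hg.1) (inv_mem a.2)) (inv_mem hg.1))
  rw [h', ← mul_assoc, ← mul_assoc, ← mul_assoc, ← h]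
  push_cast
  group

theorem κ_apply (hg : C2 μ D g) (d : D) : κ hc hg d = d * g * (d : Y)⁻¹ * g⁻¹ := rfl

theorem κ_eq_one (hg : C2 μ D g) (d : D) : κ hc hg d = 1 ↔ d * g = g * d := by
  rw [κ_apply, mul_inv_eq_one, mul_inv_eq_iff_eq_mul]

theorem c2_mul (hg : C2 μ D g) (hx : C2 μ D x) : C2 μ D (g * x) := ⟨mul_mem hg.1 hx.1, fun d hd => by
  have h := hc _ (hx.2 d hd) g hg.1
  rw [show d * (g * x) * d⁻¹ * (g * x)⁻¹ = d * g * d⁻¹ * g⁻¹ * (g * (d * x * d⁻¹ * x⁻¹)) * g⁻¹ by group, h]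
  simpa only [mul_assoc, mul_inv_cancel, mul_one] using mul_mem (hg.2 d hd) (hx.2 d hd)⟩

theorem c2_inv (hg : C2 μ D g) : C2 μ D g⁻¹ := ⟨inv_mem hg.1, fun d hd => by
  have h := hc _ (inv_mem (hg.2 d hd)) g hg.1
  rw [show d * g⁻¹ * d⁻¹ * g⁻¹⁻¹ = g⁻¹ * ((d * g * d⁻¹ * g⁻¹)⁻¹ * g) * g⁻¹ * g by group, ← h]
  simpa only [mul_assoc, inv_mul_cancel, mul_one, inv_mul_cancel_left] using inv_mem (hg.2 d hd)⟩

/-- conjugation of a power -/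
theorem conj_zp (hg : C2 μ D g) {d : Y} (hd : d ∈ D) (n : ℤ) : d * g ^ n * d⁻¹ = (d * g * d⁻¹ * g⁻¹) ^ n * g ^ n := by
  rw [← Commute.mul_zpow (hc _ (hg.2 d hd) g hg.1).symm, inv_mul_cancel_right, conj_zpow]

theorem cube_mem (h3 : ∀ z ∈ μ, z ^ 3 = 1) (hg : C2 μ D g) : g ^ 3 ∈ Zn D := ⟨pow_mem hg.1 3, fun d hd => by
  have h := conj_zp hc hg hd (3 : ℕ)
  rwa [zpow_natCast, zpow_natCast, h3 _ (hg.2 d hd), one_mul, mul_inv_eq_iff_eq_mul] at h⟩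

variable (hy : ∀ ζ ∈ μ, ζ ≠ 1 → ∀ t ∈ μ, ∃ j : ℤ, t = ζ ^ j)
include hy

theorem exists_d (hZ : Zn D ≤ μ) (hg : C2 μ D g) (hx : C2 μ D x) (hn : ∀ i j : ℤ, g ^ i * x ^ j ∈ μ → 3 ∣ i ∧ 3 ∣ j) :
    (∃ d ∈ D, d * g ≠ g * d) ∧ ∃ d ∈ D, d * g = g * d ∧ d * x ≠ x * d := by
  obtain ⟨a, ha, h1⟩ : ∃ d ∈ D, d * g ≠ g * d := by
    by_contra e
    push Not at e
    exact absurd (hn 1 0 (by simpa using hZ ⟨hg.1, e⟩)).1 (by decide)
  refine ⟨⟨a, ha, h1⟩, ?_⟩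
  by_contra e
  push Not at e
  have h2 := fun t => hy _ (hg.2 a ha) (mt (κ_eq_one hc hg ⟨a, ha⟩).1 h1) t
  obtain ⟨s, hs⟩ := h2 _ (hx.2 a ha)
  refine absurd (hn (-s) 1 (hZ ⟨mul_mem (zpow_mem hg.1 _) (zpow_mem hx.1 _), fun d hd => ?_⟩)).2 (by decide)
  obtain ⟨r, hr⟩ := h2 _ (hg.2 d hd)
  have h3 := (κ_eq_one hc hx _).2 (e _ (⟨d, hd⟩ * ⟨a, ha⟩ ^ (-r) : D).2 ((κ_eq_one hc hg _).1 (by
    rw [map_mul, map_zpow, κ_apply, κ_apply, hr, ← _root_.zpow_add, add_neg_cancel, zpow_zero])))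
  rw [map_mul, map_zpow, κ_apply, κ_apply, hs, _root_.zpow_neg, mul_inv_eq_one, ← _root_.zpow_mul, mul_comm s,
    _root_.zpow_mul, ← hr] at h3
  have h4 := conj_zp hc hg hd (-s)
  have h5 := hc _ (zpow_mem (hg.2 d hd) s) _ (zpow_mem hg.1 (-s))
  rw [zpow_one, ← mul_inv_eq_iff_eq_mul, show d * (g ^ (-s) * x) * d⁻¹ = d * g ^ (-s) * d⁻¹ * (d * x * d⁻¹ * x⁻¹) * x by
    group, h4, show d * x * d⁻¹ * x⁻¹ = _ from h3, mul_assoc _ (g ^ (-s)), h5, ← mul_assoc, ← _root_.zpow_add,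
    neg_add_cancel, zpow_zero, one_mul]

/-- from commuting pairs to the second centre -/
theorem cyc_of [Finite D] (hD : IsPGroup 3 D) (hZ : Zn D ≤ μ) (h3 : ∀ z ∈ μ, z ^ 3 = 1)
    (hn : ∃ a ∈ D, ∃ b ∈ D, a * b * a⁻¹ * b⁻¹ ∉ μ) (h : ∀ g x, C2 μ D g → C2 μ D x → g * x = x * g →
      ∃ i j : ℤ, ¬ (3 ∣ i ∧ 3 ∣ j) ∧ g ^ i * x ^ j ∈ μ) :
    ∃ g ∈ D, ∀ x, C2 μ D x → ∃ i : Fin 3, (g ^ (i : ℕ))⁻¹ * x ∈ μ := by
  by_cases e : ∀ x, C2 μ D x → x ∈ μ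
  · exact ⟨1, one_mem _, fun x hx => ⟨0, by simpa using e x hx⟩⟩
  push Not at e
  obtain ⟨g, hg, h1⟩ := e
  have h2 : ∀ {x}, C2 μ D x → ∀ n : ℤ, x ^ (3 * n) ∈ μ := fun hx n => by
    rw [_root_.zpow_mul]
    exact zpow_mem (by exact_mod_cast hZ (cube_mem hc h3 hx)) n
  have h4 : ∀ x, C2 μ D x → g * x = x * g → ∃ i : Fin 3, (g ^ (i : ℕ))⁻¹ * x ∈ μ := fun x hx e => by
    obtain ⟨i, j, h4, h5⟩ := h g x hg hx e
    have h6 : ∀ n : ℤ, g ^ (i * n) * x ^ (j * n) ∈ μ := fun n => by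
      rw [_root_.zpow_mul, _root_.zpow_mul, ← Commute.mul_zpow (Commute.zpow_zpow e i j)]
      exact zpow_mem h5 n
    have h7 : ∀ {m : ℤ}, ¬ 3 ∣ m → ∃ v, m * m = 3 * v + 1 := fun {m} hm => by
      obtain ⟨v, rfl | rfl⟩ : ∃ v, m = 3 * v + 1 ∨ m = 3 * v - 1 := ⟨(m + 1) / 3, by omega⟩
      exacts [⟨3 * v * v + 2 * v, by ring⟩, ⟨3 * v * v - 2 * v, by ring⟩]
    by_cases hj : 3 ∣ j
    · obtain ⟨j, rfl⟩ := hj
      obtain ⟨v, hv⟩ := h7 fun hi => h4 ⟨hi, Dvd.intro _ rfl⟩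
      have h8 := h6 i
      rw [mul_assoc, mul_mem_cancel_right (h2 hx _), hv, _root_.zpow_add, mul_mem_cancel_left (h2 hg _), zpow_one] at h8
      exact absurd h8 h1
    · obtain ⟨v, hv⟩ := h7 hj
      have h8 := h6 j
      rw [hv, add_comm, _root_.zpow_add, ← mul_assoc, mul_mem_cancel_right (h2 hx _), zpow_one] at h8
      refine ⟨⟨(-(i * j) % 3).toNat, by omega⟩, ?_⟩
      rw [← zpow_natCast, ← _root_.zpow_neg, show (-((-(i * j) % 3).toNat : ℕ) : ℤ) = 3 * (-(i * j) / 3) + i * j by omega,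
        _root_.zpow_add, mul_assoc]
      exact mul_mem (h2 hg _) h8
  refine ⟨g, hg.1, fun x hx => h4 x hx ?_⟩
  by_contra e
  have hζ := fun t => hy _ (hx.2 g hg.1) (mt (κ_eq_one hc hx ⟨g, hg.1⟩).1 e) t
  have hζ' := fun t => hy _ (hg.2 x hx.1) (mt (κ_eq_one hc hg ⟨x, hx.1⟩).1 (Ne.symm e)) t
  have h5 : ∀ d ∈ D, ∃ r s : ℤ, d * g ^ r * x ^ s ∈ D ⊓ centralizer {g, x} := fun d hd => by
    obtain ⟨r, hr⟩ := hζ _ (hx.2 d hd)
    obtain ⟨s, hs⟩ := hζ' _ (hg.2 d hd)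
    refine ⟨-r, -s, (⟨d, hd⟩ * ⟨g, hg.1⟩ ^ (-r) * ⟨x, hx.1⟩ ^ (-s) : D).2, ?_⟩
    rintro _ (rfl | rfl)
    · refine ((κ_eq_one hc hg (⟨d, hd⟩ * ⟨_, hg.1⟩ ^ (-r) * ⟨x, hx.1⟩ ^ (-s))).1 ?_).symm
      rw [map_mul, map_mul, map_zpow, map_zpow, (κ_eq_one hc hg ⟨_, hg.1⟩).2 rfl, κ_apply, κ_apply, hs, _root_.one_zpow,
        mul_one, ← _root_.zpow_add, add_neg_cancel, zpow_zero]
    · refine ((κ_eq_one hc hx (⟨d, hd⟩ * ⟨g, hg.1⟩ ^ (-r) * ⟨_, hx.1⟩ ^ (-s))).1 ?_).symm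
      rw [map_mul, map_mul, map_zpow, map_zpow, (κ_eq_one hc hx ⟨_, hx.1⟩).2 rfl, κ_apply, κ_apply, hr, _root_.one_zpow,
        mul_one, ← _root_.zpow_add, add_neg_cancel, zpow_zero]
  have h6 : ∀ u, u ∈ D ⊓ centralizer {g, x} → (∀ d ∈ D ⊓ centralizer {g, x}, d * u * d⁻¹ * u⁻¹ ∈ μ) → C2 μ D u :=
    fun u hu h6 => ⟨hu.1, fun d hd => by
      obtain ⟨r, s, h7⟩ := h5 d hd
      have h8 := h6 _ h7
      have h9 : Commute (g ^ r * x ^ s) u := ((show Commute g u from hu.2 g (.inl rfl)).zpow_left r).mul_left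
        ((show Commute x u from hu.2 x (.inr rfl)).zpow_left s)
      rwa [mul_assoc d, mul_assoc d, h9.eq, show d * (u * (g ^ r * x ^ s)) * (d * (g ^ r * x ^ s))⁻¹ = d * u * d⁻¹ by group]
        at h8⟩
  have : Finite ↥(D ⊓ centralizer {g, x}) := Finite.of_injective _ (inclusion_injective inf_le_left)
  obtain ⟨u, u1, u2, -, u3⟩ := A2K.exists_mod (l := 3) (D := D ⊓ centralizer {g, x}) (K := μ) (hD.to_le inf_le_left) le_rfl
    (fun d hd x hx => mul_mem (mul_mem hd hx) (inv_mem hd)) (fun d hd z hz => by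
      rwa [hc z hz d hd.1, mul_inv_cancel_right]) (fun e => by
    obtain ⟨a, ha, b, hb, h7⟩ := hn
    obtain ⟨r, s, h8⟩ := h5 b hb
    have h9 : ∀ {x}, C2 μ D x → ∀ n : ℤ, C2 μ D (x ^ n) := fun hx n => ⟨zpow_mem hx.1 n, fun d hd => by
      rw [conj_zp hc hx hd, mul_inv_cancel_right]
      exact zpow_mem (hx.2 d hd) n⟩
    have h10 := c2_mul hc (c2_mul hc (h6 _ h8 fun d hd => by
      rw [hc _ (e h8) d hd.1, mul_inv_cancel_right, mul_inv_cancel]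
      exact one_mem _) (c2_inv hc (h9 hx s))) (c2_inv hc (h9 hg r))
    rw [mul_inv_cancel_right, mul_inv_cancel_right] at h10
    exact h7 (h10.2 a ha))
  obtain ⟨i, hi⟩ := h4 u (h6 u u1 u3) (u1.2 g (.inl rfl))
  have h7 : x * g ^ (i : ℕ) = g ^ (i : ℕ) * x := by
    have h7 := hc _ hi x hx.1
    rw [mul_assoc, ← u1.2 x (.inr rfl), ← mul_assoc, ← mul_assoc, mul_left_inj] at h7
    exact (Commute.inv_right_iff.1 h7).eq
  have h8 := map_pow (κ hc hx) ⟨g, hg.1⟩ i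
  rw [(κ_eq_one hc hx _).2 h7.symm, κ_apply] at h8
  have h9 := pow_gcd_eq_one.2 ⟨h8.symm, h3 _ (hx.2 g hg.1)⟩
  refine e ((κ_eq_one hc hx ⟨g, hg.1⟩).1 ?_)
  fin_cases i
  · exact absurd (by simpa using hi) u2
  · simpa [κ_apply] using h9
  · simpa [κ_apply] using h9

end Grp

/-! ### the type `A₂ ^ 3` -/

/-- the roots of `A₂ ^ 3` -/
def L18 : List (Fin 6 → ℤ) := [![-1, -2, -2, -3, -2, -1], ![-1, -1, -2, -3, -2, -1], ![-1, 0, -1, 0, 0, 0],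
  ![-1, 0, 0, 0, 0, 0], ![0, -1, 0, 0, 0, 0], ![0, 0, -1, 0, 0, 0], ![0, 0, 0, 0, -1, -1], ![0, 0, 0, 0, -1, 0],
  ![0, 0, 0, 0, 0, -1], ![0, 0, 0, 0, 0, 1], ![0, 0, 0, 0, 1, 0], ![0, 0, 0, 0, 1, 1], ![0, 0, 1, 0, 0, 0],
  ![0, 1, 0, 0, 0, 0], ![1, 0, 0, 0, 0, 0], ![1, 0, 1, 0, 0, 0], ![1, 1, 2, 3, 2, 1], ![1, 2, 2, 3, 2, 1]]

theorem mem18 : ∀ s : Fin chevE6.nroots, 3 ∣ vec chevE6 6 s 3 → vec chevE6 6 s ∈ L18 := by decide +kernel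

theorem orb18 : ∀ a ∈ L18, ∀ b ∈ L18, b ⬝ᵥ co chevE6 6 a ≠ 0 → ∀ r ∈ L18,
    (b - (b ⬝ᵥ co chevE6 6 r) • r) ⬝ᵥ co chevE6 6 a ≠ 0 := by
  simp only [sub_dotProduct, smul_dotProduct, smul_eq_mul]
  simp only [co6x, d6x]
  decide +kernel

theorem cen18 : ∀ a ∈ L18, ∀ b ∈ L18, a ⬝ᵥ co chevE6 6 b = -1 →
    ∃ i : Fin 3, ∀ l, 3 ∣ co chevE6 6 (a - b) l + ((i : ℕ) : ℤ) * (sr 3 : Fin 6 → ℤ) l := by
  simp only [co6x, d6x]
  decide +kernel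

theorem cmp18 : ∀ a ∈ L18, ∀ b ∈ L18, a ⬝ᵥ co chevE6 6 b = -1 → ∀ a' ∈ L18, ∀ b' ∈ L18, a' ⬝ᵥ co chevE6 6 b' = -1 →
    ((∀ l, 3 ∣ (a' - b' - (a - b)) l) ∨ ∀ l, 3 ∣ (a' - b' + (a - b)) l) → A2P a b a' := by
  have key : ∀ a ∈ L18, ∀ b ∈ L18, a ⬝ᵥ co chevE6 6 b = -1 → ∀ a' ∈ L18, A2P a b a' ∨ ∀ b' ∈ L18, a' ⬝ᵥ co chevE6 6 b' = -1 →
      ¬ ((∀ l, 3 ∣ (a' - b' - (a - b)) l) ∨ ∀ l, 3 ∣ (a' - b' + (a - b)) l) := by
    simp only [co6x, d6x]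
    decide +kernel
  exact fun a ha b hb h a' ha' b' hb' h' h3 => (key a ha b hb h a' ha').resolve_right fun h4 => h4 b' hb' h' h3

variable {p : ℕ} [Fact p.Prime] {k : Type} [Field k] [CharP k p] {Y : Type} [Group Y] {N : Type} [Fintype N]
  [DecidableEq N] {ρ : Y →* GL N k} {F : MulAut Y} {G : Subgroup Y} [IsAlgClosed k] {X : Datum p ρ F G}
  {Mx : Matrix (Fin 6) (Fin 6) ℤ} {X₀ : XF hpE6 p k Mx} {D : Subgroup Y} {g x y d : Y}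

theorem cube_cases {u v : k} (hu : u ^ 3 = 1) (hv : v ^ 3 = 1) : u = 1 ∨ v = 1 ∨ u * v = 1 ∨ u = v := by
  by_contra e
  push Not at e
  obtain ⟨h1, h2, h3, h4⟩ := e
  have k1 : u ^ 2 + u + 1 = 0 := mul_left_cancel₀ (sub_ne_zero.2 h1) (by linear_combination hu)
  have k2 : v ^ 2 + v + 1 = 0 := mul_left_cancel₀ (sub_ne_zero.2 h2) (by linear_combination hv)
  have k3 : u + v + 1 = 0 := mul_left_cancel₀ (sub_ne_zero.2 h4) (by linear_combination k1 - k2)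
  exact h3 (by linear_combination u * k3 - k1)

theorem om_cases {ω ω' : kˣ} (h : orderOf ω = 3) (h' : orderOf ω' = 3) : ω' = ω ∨ ω' = ω⁻¹ := by
  have h1 : ∀ {ω : kˣ}, orderOf ω = 3 → (ω : k) ^ 3 = 1 ∧ (ω : k) ≠ 1 := fun {ω} h =>
    ⟨by rw [← Units.val_pow_eq_pow_val, ← h, pow_orderOf_eq_one, Units.val_one], fun e => by
      rw [Units.val_eq_one.1 e, orderOf_one] at h
      exact absurd h (by decide)⟩
  rcases cube_cases (h1 h').1 (h1 h).1 with e | e | e | e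
  exacts [absurd e (h1 h').2, absurd e (h1 h).2, .inr (eq_inv_of_mul_eq_one_left (Units.ext e)), .inl (Units.ext e)]

theorem ncard_kit (K : Kit X X₀) (P : (Fin 6 → ℤ) → Prop) [DecidablePred P] :
    {a | X.Rt a ∧ P (K.e a)}.ncard = (Finset.univ.filter fun s : Fin chevE6.nroots => P (vec chevE6 6 s)).card := by
  rw [← ncard_RP X₀ P, ← Set.ncard_image_of_injective _ K.e.injective]
  exact congrArg Set.ncard (Set.ext fun b => ⟨by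
    rintro ⟨a, ha, rfl⟩
    exact ⟨(K.rt a).1 ha.1, ha.2⟩, fun hb => ⟨K.e.symm b, ⟨(K.rt_symm b).2 hb.1, by
      rw [AddEquiv.apply_symm_apply]; exact hb.2⟩, K.e.apply_symm_apply b⟩⟩)

theorem t3_of (K : Kit X X₀) (H : Ok X chevE6 6 1) {ω : kˣ} (hω : orderOf ω = 3) (hg : g ∈ X.T)
    (h : ∀ a, X.χ a g = (ω ^ K.e a 3 : kˣ)) : T3 X g := by
  have h1 : ∀ a, a ∈ X.Sz {g} ↔ X.Rt a ∧ 3 ∣ K.e a 3 := fun a => and_congr_right fun _ => by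
    simp only [Set.mem_singleton_iff, forall_eq]
    rw [h, Units.val_eq_one, ← orderOf_dvd_iff_zpow_eq_one, hω]
    rfl
  have h2 : ∀ a ∈ X.Sz {g}, K.e a ∈ L18 := fun a ha =>
    K.forall_rt (Q := fun a => 3 ∣ a 3 → a ∈ L18) mem18 ha.1 ((h1 a).1 ha).2
  have h3 : ∀ a ∈ X.Sz {g}, ∀ b ∈ X.Sz {g}, ∀ η : kˣ, zc X a b η = el K η (K.e a - K.e b) := fun a ha b hb η => by
    rw [zc, el, map_sub, K.cor_eq H ha.1, K.cor_eq H hb.1]
  refine ⟨(congrArg Set.ncard (Set.ext h1)).trans ((ncard_kit K fun a => 3 ∣ a 3).trans cnt18), fun w hw a ha => ?_,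
    fun a ha b hb e η hη => ?_, fun a ha b hb a' ha' b' hb' e e' η η' hη hη' h4 => ?_⟩
  · suffices X.act w a ∈ X.Sz {g} ∧ X.wt (X.act w a) ⬝ᵥ X.cor a ≠ 0 from this.2
    have key : ∀ r ∈ X.Sz {g}, ∀ b, b ∈ X.Sz {g} ∧ X.wt b ⬝ᵥ X.cor a ≠ 0 →
        X.act (X.rf r) b ∈ X.Sz {g} ∧ X.wt (X.act (X.rf r) b) ⬝ᵥ X.cor a ≠ 0 := fun r hr b hb => by
      rw [K.wt_cor _ ha.1] at hb ⊢
      rw [h1, K.act_rf hr.1]
      exact ⟨⟨hb.1.1.act _, dvd_sub ((h1 b).1 hb.1).2 (((h1 r).1 hr).2.mul_left _)⟩,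
        orb18 _ (h2 a ha) _ (h2 b hb.1) hb.2 _ (h2 r hr)⟩
    induction hw using closure_induction_left with
    | one =>
      rw [Kit.act_one', show X.wt a ⬝ᵥ X.cor a = 2 from TW.pr_self ha.1]
      exact ⟨ha, two_ne_zero⟩
    | mul_left r hr w _ ih =>
      obtain ⟨r, hr, rfl⟩ := hr
      exact act_mul' (X.rf r) w a ▸ key r hr _ ih
    | inv_mul_cancel r hr w _ ih =>
      obtain ⟨r, hr, rfl⟩ := hr
      rw [inv_eq_of_mul_eq_one_right (X.rf_mul_self hr.1)]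
      exact act_mul' (X.rf r) w a ▸ key r hr _ ih
  · obtain ⟨i, hi⟩ := cen18 _ (h2 a ha) _ (h2 b hb) ((K.wt_cor a hb.1).symm.trans e)
    have h4 : ∀ c, ω ^ (K.e c ⬝ᵥ co chevE6 6 (K.e a - K.e b)) * (ω ^ K.e c 3) ^ (i : ℕ) = 1 := fun c => by
      rw [← zpow_natCast, ← _root_.zpow_mul, ← _root_.zpow_add, ← orderOf_dvd_iff_zpow_eq_one, hω, ← sr_dot 3 (K.e c),
        dotProduct_comm (sr 3), mul_comm, ← smul_eq_mul, ← dotProduct_smul, ← dotProduct_add]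
      exact Finset.dvd_sum fun l _ => (hi l).mul_left _
    rcases om_cases hω hη with rfl | rfl
    · exact ⟨i, mul_mem (Ln.zc_T a b η) (pow_mem hg i), fun c _ => by
        rw [X.χ_mul c (Ln.zc_T a b η) (pow_mem hg i), χ_pow X c hg, h, h3 a ha b hb, χ_el]
        rw [← Units.val_pow_eq_pow_val, ← Units.val_mul, h4, Units.val_one]⟩
    · refine ⟨2 * i, mul_mem (Ln.zc_T a b _) (pow_mem hg _), fun c _ => ?_⟩
      rw [X.χ_mul c (Ln.zc_T a b _) (pow_mem hg _), χ_pow X c hg, h, h3 a ha b hb, χ_el,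
        inv_eq_of_mul_eq_one_right (show ω * ω ^ 2 = 1 from (pow_succ' ω 2).symm.trans (orderOf_dvd_iff_pow_eq_one.1 hω.dvd)), pow_mul',
        ← zpow_natCast ω, ← _root_.zpow_mul, mul_comm ((2 : ℕ) : ℤ), _root_.zpow_mul, zpow_natCast]
      rw [← Units.val_pow_eq_pow_val, ← Units.val_pow_eq_pow_val, ← Units.val_mul, ← mul_pow, h4, one_pow, Units.val_one]
  · rw [K.mem_A2]
    refine cmp18 _ (h2 a ha) _ (h2 b hb) ((K.wt_cor a hb.1).symm.trans e) _ (h2 a' ha') _ (h2 b' hb')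
      ((K.wt_cor a' hb'.1).symm.trans e') ?_
    rw [h3 a ha b hb, h3 a' ha' b' hb'] at h4
    have h5 := fun β => K.τ_ψ_eq_one H β η
    rw [hη] at h5
    rcases om_cases hη hη' with rfl | rfl
    · refine .inl ((h5 _).1 ?_)
      rw [sub_eq_add_neg _ (K.e a - K.e b), ← neg_one_smul ℤ (K.e a - K.e b)]
      exact (el_add K _ _ _).trans (by rw [el_smul, h4, _root_.zpow_neg_one, mul_inv_cancel])
    · refine .inr ((h5 _).1 ((el_add K _ _ _).trans ?_))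
      rw [← h4, el, el, map_inv, map_inv, mul_inv_cancel]

/-- **[N3]** for elements of order three modulo the centre -/
theorem t3 (hE : TE X 6) (h3 : 3 ≠ p) (hg : g ∈ X.T) (hx : x ∈ X.T) (g3 : g ^ 3 ∈ mu X) (x3 : x ^ 3 ∈ mu X)
    (h1 : Mv X {a | X.Rt a} g) (h2 : Mv X (X.Sz {g}) x) : T3 X g := by
  obtain ⟨_, X₀, ⟨K⟩⟩ := hE.kit6
  obtain ⟨ξ, hξ⟩ := exists_prim p k (n := 9) fun e => h3 ((Nat.prime_dvd_prime_iff_eq Fact.out Nat.prime_three).1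
    ((Fact.out : p.Prime).dvd_of_dvd_pow (n := 2) e)).symm
  obtain ⟨w, -, m, hm, k1, k2⟩ := h1
  obtain ⟨w', k3, m', hm', k4, k5⟩ := h2
  obtain ⟨K', h⟩ := typ K hE.ok6 hξ hg hx g3 (by rw [show 9 = 3 * 3 from rfl, pow_mul, x3.2]) hm k1
    (fun e => k2 (mul_inv_eq_iff_eq_mul.1 (mul_inv_eq_one.1 e))) (by rw [X.T_comm hg k1.1.1, inv_mul_cancel_right]) hm' k3 k4
    (fun e => k5 (mul_inv_eq_iff_eq_mul.1 (mul_inv_eq_one.1 e))) (by rw [X.T_comm hx k4.1.1, inv_mul_cancel_right])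
  exact t3_of K' hE.ok6 (by rw [orderOf_pow' _ three_ne_zero, hξ]; rfl) hg h

theorem mv1 (hg : g ∈ X.T) (hd : d ∈ G) (h : d * g * d⁻¹ * g⁻¹ ∈ mu X) (hn : d * g ≠ g * d) :
    Mv X {a | X.Rt a} g := by
  obtain ⟨c, -, m, ⟨w, hm⟩, h1, -⟩ := X.exists_conj_form (s := fun _ : Unit => g) (t := fun _ => d * g * d⁻¹)
    (fun _ => hg) (fun _ => inv_mul_cancel_right (d * g * d⁻¹) g ▸ mul_mem h.1.1 hg) hd fun _ => by group
  have h2 : m * g * m⁻¹ = d * g * d⁻¹ := mul_inv_eq_iff_eq_mul.2 (h1 ())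
  exact ⟨w, Dec.mem_cloL (fun _ e => e) ⟨0, fun a ha => iff_of_true ha (dotProduct_zero _)⟩ hm
    (X.G_eq.ge (Datum.Rp.mem_G hm)), m, hm,
    h2 ▸ h, fun e => hn (mul_inv_eq_iff_eq_mul.1 (h2 ▸ mul_inv_eq_iff_eq_mul.2 e))⟩

theorem mv2 (hP : Pi1 X 1) (hg : g ∈ X.T) (hx : x ∈ X.T) {n : ℕ} (g9 : g ^ n = 1) (hd : d ∈ G) (hc : d * g = g * d)
    (h : d * x * d⁻¹ * x⁻¹ ∈ mu X) (hn : d * x ≠ x * d) : Mv X (X.Sz {g}) x := by
  obtain ⟨c, -, m, ⟨w, hm⟩, h1, -⟩ := X.exists_conj_form (s := ![g, x]) (t := ![g, d * x * d⁻¹])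
    (Fin.forall_fin_two.2 ⟨hg, hx⟩) (Fin.forall_fin_two.2 ⟨hg, inv_mul_cancel_right (d * x * d⁻¹) x ▸ mul_mem h.1.1 hx⟩) hd
    (Fin.forall_fin_two.2 ⟨hc, by simp⟩)
  have h2 : m * x * m⁻¹ = d * x * d⁻¹ := mul_inv_eq_iff_eq_mul.2 (h1 1)
  exact ⟨w, Dec.mem_clo (Set.singleton_subset_iff.2 hg) hm (mem_cen hP hg g9 (Nat.coprime_one_right n)
    (Datum.Rp.mem_G hm) (h1 0)),
    m, hm, h2 ▸ h, fun e => hn (mul_inv_eq_iff_eq_mul.1 (h2 ▸ mul_inv_eq_iff_eq_mul.2 e))⟩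

theorem mu_cyc' (hE : TE X 6) (h3 : 3 ≠ p) : ∀ ζ ∈ mu X, ζ ≠ 1 → ∀ t ∈ mu X, ∃ j : ℤ, t = ζ ^ j := by
  obtain ⟨_, X₀, ⟨K⟩⟩ := hE.kit6
  obtain ⟨ξ, hξ⟩ := exists_prim p k (n := 9) fun e => h3 ((Nat.prime_dvd_prime_iff_eq Fact.out Nat.prime_three).1
    ((Fact.out : p.Prime).dvd_of_dvd_pow (n := 2) e)).symm
  exact fun ζ h h1 t ht => mu_cyc K hE.ok6 hξ h h1 ht

/-- **no plane in the second centre** -/
theorem sg (hEnd : BoxEnd) (hE : TE X 6) (h : St X D ⊥ y) (hF : ∀ ζ ∈ mu X, F ζ = ζ) (hZ : Zn D ≤ mu X)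
    (hg : C2 (mu X) D g) (hx : C2 (mu X) D x) (e : g * x = x * g) :
    ∃ i j : ℤ, ¬ (3 ∣ i ∧ 3 ∣ j) ∧ g ^ i * x ^ j ∈ mu X := by
  obtain ⟨u, hu, hN, h', gT, xT⟩ := Zl.St.frame h boxCC boxFr hg.1 hx.1 e
  have hE' := hE.conj hu hN
  rw [← Zl.mu_conj hu hN] at hF hZ hg hx ⊢
  generalize X.conj hu hN = X at *
  by_contra hn
  replace hn : ∀ i j : ℤ, g ^ i * x ^ j ∈ mu X → 3 ∣ i ∧ 3 ∣ j := fun i j e => by_contra fun e' => hn ⟨i, j, e', e⟩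
  have hG : ∀ {d}, d ∈ D → d ∈ G := fun hd => (h.loc.le hd).1
  have hc : ∀ z ∈ mu X, ∀ d ∈ D, d * z = z * d := fun z hz d hd => Ln.mu_comm hz (hG hd)
  have h3 : ∀ {g}, C2 (mu X) D g → g ^ 3 ∈ mu X := fun hg => hZ (cube_mem hc (fun _ hz => hz.2) hg)
  have key : ∀ g x, g ∈ X.T → x ∈ X.T → C2 (mu X) D g → C2 (mu X) D x →
      (∀ i j : ℤ, g ^ i * x ^ j ∈ mu X → 3 ∣ i ∧ 3 ∣ j) → T3 X g ∧ ∃ d ∈ D, d * g = g * d ∧ d * x ≠ x * d :=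
    fun g x gT xT hg hx hn => by
      obtain ⟨⟨a, ha, h1⟩, b, hb, h2, h4⟩ := exists_d hc (mu_cyc' hE' h.p3) hZ hg hx hn
      exact ⟨t3 hE' h.p3 gT xT (h3 hg) (h3 hx) (mv1 gT (hG ha) (hg.2 a ha) h1) (mv2 h'.pi gT xT (n := 3 * 3)
        (by rw [pow_mul, (h3 hg).2]) (hG hb) h2 (hx.2 b hb) h4), b, hb, h2, h4⟩
  obtain ⟨k1, d, hd, h1, h2⟩ := key g x gT xT hg hx hn
  have k2 := (key x g xT gT hx hg fun i j e' => (hn j i (((show Commute g x from e).zpow_zpow j i).eq ▸ e')).symm).1.card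
  have k3 := (key (g * x) x (mul_mem gT xT) xT (c2_mul hc hg hx) hx fun i j e' => by
    rw [(show Commute g x from e).mul_zpow, mul_assoc, ← _root_.zpow_add] at e'
    have := hn _ _ e'
    omega).1.card
  have k4 := (key (g * x⁻¹) x (mul_mem gT (inv_mem xT)) xT (c2_mul hc hg (c2_inv hc hx)) hx fun i j e' => by
    rw [(show Commute g x from e).inv_right.mul_zpow, mul_assoc, _root_.inv_zpow', ← _root_.zpow_add] at e'
    have := hn _ _ e'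
    omega).1.card
  refine hEnd X D y g x d hE' h' hF gT xT hg hx (h3 hg) (h3 hx) k1 (Set.eq_empty_of_forall_notMem fun a ha => ?_) hd h1 h2
  obtain ⟨_, X₀, ⟨K⟩⟩ := hE'.kit6
  have h4 : {a | X.Rt a}.ncard = 72 := by simpa only [and_true] using (ncard_kit K fun _ => True).trans cnt72
  have h5 : ∀ t, (X.Sz {t}).Finite := fun t => fin_of_rt X.Sz_root
  have h6 : {a | X.Rt a} ⊆ X.Sz {g} ∪ X.Sz {x} ∪ X.Sz {g * x} ∪ X.Sz {g * x⁻¹} := fun c hc => by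
    rcases cube_cases ((χ_pow X c gT 3).symm.trans ((h3 hg).1.2 c hc)) ((χ_pow X c xT 3).symm.trans ((h3 hx).1.2 c hc))
      with e | e | e | e
    · exact .inl (.inl (.inl ⟨hc, fun _ e' => e' ▸ e⟩))
    · exact .inl (.inl (.inr ⟨hc, fun _ e' => e' ▸ e⟩))
    · exact .inl (.inr ⟨hc, fun _ e' => e' ▸ (X.χ_mul c gT xT).trans e⟩)
    · exact .inr ⟨hc, fun _ e' => e' ▸ by
        rw [X.χ_mul c gT (inv_mem xT), X.χ_inv c xT, e, mul_inv_cancel₀ (X.χ_ne_zero _ _)]⟩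
  have h7 := Set.ncard_le_ncard h6 ((((h5 _).union (h5 _)).union (h5 _)).union (h5 _))
  have h8 := Set.ncard_union_le (X.Sz {g} ∪ X.Sz {x} ∪ X.Sz {g * x}) (X.Sz {g * x⁻¹})
  have h9 := Set.ncard_union_le (X.Sz {g} ∪ X.Sz {x}) (X.Sz {g * x})
  have h10 := Set.ncard_union_add_ncard_inter _ _ (h5 g) (h5 x)
  have h11 := (Set.ncard_pos ((h5 g).inter_of_left (X.Sz {x}))).2
    ⟨a, ⟨ha.1, fun _ e => e ▸ ha.2 g (.inl rfl)⟩, ha.1, fun _ e => e ▸ ha.2 x (.inr rfl)⟩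
  have h12 := k1.card
  omega

/-- **the case `L = G`** -/
theorem sloc_bot (hEnd : BoxEnd) (hE : TE X 6) (h : St X D ⊥ y) (hF : ∀ ζ ∈ mu X, F ζ = ζ) (hZ : Zn D ≤ mu X)
    (hn : ∃ a ∈ D, ∃ b ∈ D, a * b * a⁻¹ * b⁻¹ ∉ mu X) :
    ∃ g ∈ D, ∀ x, C2 (mu X) D x → ∃ i : Fin 3, (g ^ (i : ℕ))⁻¹ * x ∈ mu X :=
  have := Zl.fin_D X h.loc
  cyc_of (fun _ hz _ hd => Ln.mu_comm hz (h.loc.le hd).1) (mu_cyc' hE h.p3) h.loc.pg hZ (fun _ hz => hz.2) hn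
    fun _ _ hg hx e => sg hEnd hE h hF hZ hg hx e

/-- the centre of `D` in the case `L = G` -/
theorem zn_le (h6 : BoxR6) (h1 : BoxK1) (hE : TE X 6) (h : St X D ⊥ y) (hF : ∀ ζ ∈ mu X, F ζ = ζ) : Zn D ≤ mu X :=
  fun u hu => by
    obtain ⟨g, hg, hN, h', uT, -⟩ := Zl.St.frame h boxCC boxFr hu.1 hu.1 rfl
    rw [← Zl.mu_conj hg hN] at hF ⊢
    simpa only [bot_sup_eq] using (h1 _ 6 (hE.conj hg hN) h.p3).2 ⊥ h'.can.z0 u (h6 _ D ⊥ y u (hE.conj hg hN) h' hF uT hu)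
      fun _ e => e ▸ Zl.el_D h.loc u hu.1

end SG

end Cfsg.Agent.RC.B

private theorem dce_4070f3570a11 : _root_.True := by
  try have : _root_.True := by simp only [_root_.Cfsg.Agent.RC.B.SG.κ.congr_simp]
  exact _root_.True.intro
end

-- part: RC/B/SimLoc
section
set_option linter.all false
open scoped Cfsg.Agent.FastGrp

/-!
# RC (S4576): the local theorem for the simple groups of type `E₆` at `3` (helper3)
-/

set_option autoImplicit false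
set_option linter.unusedSectionVars false

namespace Cfsg.Agent.RC.B.Sim

open Cfsg Cfsg.Lie Cfsg.Agent.DL Cfsg.Agent.Nodes.Reps Cfsg.Agent.Nodes.BNOf Matrix Subgroup Cfsg.Agent.KM.Ht Cfsg.Agent.KM.Tor

namespace Lo

section Grp

variable {Y : Type} [Group Y] {μ D : Subgroup Y} {g e d ζ : Y}

theorem pw (h1 : Commute e ζ) (h : e * g * e⁻¹ * g⁻¹ = ζ) (i : ℕ) : e ^ i * g = ζ ^ i * g * e ^ i := by
  induction i with
  | zero => simp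
  | succ i ih =>
    rw [pow_succ, mul_assoc, show e * g = ζ * g * e by rw [← h]; group, ← mul_assoc, ← mul_assoc, (h1.pow_left i).eq,
      mul_assoc ζ, ih, pow_succ' ζ]
    group

theorem pw' (h1 : Commute g ζ) (h : e * g * e⁻¹ * g⁻¹ = ζ) (i : ℕ) : e * g ^ i = ζ ^ i * g ^ i * e := by
  rw [← h1.symm.mul_pow, show ζ * g = e * g * e⁻¹ by rw [← h]; group, conj_pow, inv_mul_cancel_right]

variable (h3 : Nat.card μ = 3) (hμ : ∀ m ∈ μ, ∀ d ∈ D, d * m = m * d) (hg : C2 μ D g)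
include h3 hμ hg

theorem dec (he : e ∈ D) (h : e * g ≠ g * e) (hd : d ∈ D) : ∃ i : ℕ, ∃ c ∈ D, c * g = g * c ∧ d = e ^ i * c := by
  obtain ⟨i, hi⟩ := Zl.mem_three h3 (hg.2 e he) (fun h1 => h (by rwa [mul_inv_eq_one, mul_inv_eq_iff_eq_mul] at h1))
    (hg.2 d hd)
  refine ⟨i, (e ^ (i : ℕ))⁻¹ * d, mul_mem (inv_mem (pow_mem he _)) hd, ?_, (mul_inv_cancel_left _ _).symm⟩
  have h1 := pw (hμ _ (hg.2 e he) e he) rfl i
  rw [← hi] at h1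
  rw [mul_assoc, inv_mul_eq_iff_eq_mul, ← mul_assoc, h1]
  group

theorem grp (hn : g ∉ Zn D) (hab : ∀ a ∈ D, ∀ b ∈ D, a * g = g * a → b * g = g * b → a * b = b * a)
    (hna : ∃ a ∈ D, ∃ b ∈ D, a * b * a⁻¹ * b⁻¹ ∉ μ) {x : Y} (hx : C2 μ D x) :
    ∃ i : Fin 3, (g ^ (i : ℕ))⁻¹ * x ∈ Zn D := by
  have h1 : x * g = g * x := by
    by_contra h
    obtain ⟨a, ha, b, hb, h2⟩ := hna
    obtain ⟨i, c, hc, c1, rfl⟩ := dec h3 hμ hg hx.1 h ha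
    obtain ⟨j, c', hc', c2, rfl⟩ := dec h3 hμ hg hx.1 h hb
    have h4 := En.cm_mul hμ (pow_mem hx.1 j) (En.cm_pow hμ hx.1 (hx.2 c hc) j)
      (show c * c' * c⁻¹ * c'⁻¹ ∈ μ by rw [hab c hc c' hc' c1 c2, mul_inv_cancel_right, mul_inv_cancel]; exact one_mem _)
    have h5 := En.cm_mul (d := x ^ j * c') (v := c) hμ (pow_mem hx.1 i) (En.cm_pow hμ hx.1 (hx.2 _ hb) i)
      (by convert inv_mem h4 using 1; group)
    exact h2 (by convert inv_mem h5 using 1; group)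
  obtain ⟨e, he, h⟩ : ∃ e ∈ D, e * g ≠ g * e := by
    by_contra! h
    exact hn ⟨hg.1, h⟩
  obtain ⟨i, hi⟩ := Zl.mem_three h3 (hg.2 e he) (fun h1 => h (by rwa [mul_inv_eq_one, mul_inv_eq_iff_eq_mul] at h1))
    (hx.2 e he)
  have h2 := mul_mem (inv_mem (pow_mem hg.1 (i : ℕ))) hx.1
  refine ⟨i, h2, fun d hd => ?_⟩
  obtain ⟨j, c, hc, c1, rfl⟩ := dec h3 hμ hg he h hd
  have h4 : Commute e ((g ^ (i : ℕ))⁻¹ * x) := by
    have h5 := pw' (hμ _ (hg.2 e he) g hg.1) rfl i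
    rw [← hi] at h5
    change e * _ = _ * e
    rw [show (g ^ (i : ℕ))⁻¹ * x * e = (e * x * e⁻¹ * x⁻¹ * g ^ (i : ℕ))⁻¹ * (e * x) by group,
      show e * x * e⁻¹ * x⁻¹ * g ^ (i : ℕ) = e * g ^ (i : ℕ) * e⁻¹ by rw [h5]; group]
    group
  exact ((h4.pow_left j).mul_left (hab c hc _ h2 c1
    (((Commute.refl g).pow_left _).inv_left.mul_left h1))).eq

omit h3 in
theorem cube (hc : ∀ m ∈ μ, m ^ 3 = 1) : g ^ 3 ∈ Zn D := ⟨pow_mem hg.1 3, fun d hd => by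
  rw [pw' (hμ _ (hg.2 d hd) g hg.1) rfl 3, hc _ (hg.2 d hd), one_mul]⟩

end Grp

variable {p : ℕ} [Fact p.Prime] {k : Type} [Field k] [CharP k p] {Y : Type} [Group Y] {N : Type} [Fintype N]
  [DecidableEq N] {ρ : Y →* GL N k} {F : MulAut Y} {G : Subgroup Y} [IsAlgClosed k] {X : Datum p ρ F G}
  {D S : Subgroup Y} {y g d : Y}

/-- the move of an element of the torus -/
theorem mv {Z : Set Y} (hZ : Z ⊆ X.T) (hg : g ∈ X.T) (hd : d ∈ X.cen Z) (hG : d ∈ G) (h1 : d * g * d⁻¹ * g⁻¹ ∈ mu X)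
    (h2 : d * g ≠ g * d) : Mv X (X.Sz Z) g := by
  have h3 : d * g * d⁻¹ ∈ X.T := by simpa using mul_mem h1.1.1 hg
  obtain ⟨c, hc, m, ⟨w, hm⟩, e, rfl⟩ := X.exists_conj_form (ι := Option Z) (s := fun z => z.elim g (↑))
    (t := fun z => z.elim (d * g * d⁻¹) (↑)) (by rintro (_ | z); exacts [hg, hZ z.2])
    (by rintro (_ | z); exacts [h3, hZ z.2]) hG
    (by rintro (_ | z); exacts [(inv_mul_cancel_right _ _).symm, (X.cen_le_centralizer hZ hd z z.2).symm])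
  have h4 : c ∈ X.cen Z := X.S_le_cen _ (RGD.Sup_mono (S' := X.Sz Z)
    (fun a (ha : a ∈ X.Sz _) => And.intro ha.1 fun z hz => ha.2 z (Exists.intro (some (⟨z, hz⟩ : Z)) rfl)) hc)
  have h5 : m * g * m⁻¹ = c * m * g * (c * m)⁻¹ := mul_inv_eq_of_eq_mul (e none)
  refine ⟨w, Dec.mem_clo hZ hm ((mul_mem_cancel_left h4).1 hd), m, hm, h5 ▸ h1, fun h6 => h2 ?_⟩
  rw [h6, mul_inv_cancel_right] at h5
  exact (mul_inv_eq_iff_eq_mul.1 h5.symm)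

variable (h : St X D S y)
include h

theorem le_G : D ≤ G := fun _ hd => (h.loc.le hd).1

theorem mu_cm : ∀ m ∈ mu X, ∀ d ∈ D, d * m = m * d := fun _ hm d hd => (Zl.mem_mu.1 hm).1.2 d (le_G h hd)

theorem le_cen : D ≤ X.cen S := fun d hd =>
  cc_S Nat.prime_three h.p3 h.pi h.can.z0 d (le_G h hd) (h.can.comm (.inl hd))

theorem mv_S (hT : g ∈ X.T) (hg : C2 (mu X) D g) (hn : g ∉ Zn D) : Mv X (X.Sz S) g := by
  obtain ⟨e, he, h1⟩ : ∃ e ∈ D, e * g ≠ g * e := by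
    by_contra! h
    exact hn ⟨hg.1, h⟩
  exact mv (S_le_T h.can.z0) hT (le_cen h he) (le_G h he) (hg.2 e he) h1

variable (hE : TE X 6) (hμ : ∀ ζ ∈ mu X, F ζ = ζ)
include hE

/-- the centraliser of `g` in `D` is abelian -/
theorem ab (n1 : BoxN1) (hab : BoxAB) (hS : S ≠ ⊥) (hT : g ∈ X.T) (hg : C2 (mu X) D g) (hn : g ∉ Zn D) :
    Ab (D ⊓ centralizer {g}) := by
  have := Zl.fin_D X h.loc
  obtain ⟨v, hv, h1⟩ : ∃ v, Pp X (X.Sz S) v ∧ v ≠ 0 := by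
    by_contra! h1
    refine hS (h.can.z0 ▸ eq_bot_iff.2 ((closure_le _).2 ?_))
    rintro _ ⟨v, a, hv, rfl⟩
    rw [h1 v hv]
    exact (congrArg X.τ (funext fun i => zpow_zero a)).trans (map_one X.τ)
  obtain ⟨j, hj⟩ := Zl.el_D h.loc g hg.1
  obtain ⟨s, a1, -, a3⟩ := exists_s Nat.prime_three h.p3 h.can.z0 hT hj
  refine hab X 3 {g * s} _ Nat.prime_three h.p3 (by decide) h.sl (Set.finite_singleton _)
    (Set.singleton_subset_iff.2 (mul_mem hT (Z0_le_T X _ a1))) ?_ (Finite.of_injective _ (inclusion_injective inf_le_left))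
    h.loc.pg.to_inf_left fun c hc => ?_
  · rw [a3]
    exact fun a ha b hb => n1 X _ g v hE h.p3 X.Sz_root hT h1 hv (mv_S h hT hg hn) a ⟨ha.1, fun z hz => ha.2 z (.inr hz)⟩ b
      ⟨hb.1, fun z hz => hb.2 z (.inr hz)⟩ (ha.2 g (.inl rfl)) (hb.2 g (.inl rfl))
  · rw [cen_congr a3]
    refine cc_ins Nat.prime_three h.p3 h.pi h.can.z0 hT hj c (le_G h hc.1) ?_
    rintro z (rfl | hz)
    exacts [hc.2 z rfl, h.can.comm (.inl hc.1) z hz]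

include hμ

theorem two (n2 : BoxN2) (tw : BoxTwo) (pk : BoxPK) (r6 : BoxR6) (hQ : ¬ IsCyclic ↥(D ⊓ S)) (hT : g ∈ X.T)
    (hg : C2 (mu X) D g) : g ∈ Zn D := by
  by_contra hn
  obtain ⟨-, -, a, b, a', b', e, c1, c2, g1, g2⟩ := tw X S _ hE h.p3 h.can.z0 h.can.stab
    (n2 X S g hE h.p3 h.can.z0 hT (mv_S h hT hg hn)) hμ inf_le_right (inf_le_left.trans h.loc.le) h.loc.pg.to_inf_left hQ
  have h3 := r6 X D S y _ hE h hμ (pow_mem hT 3) (cube (mu_cm h) hg fun m hm => hm.2)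
  have key : ∀ a b, Cmp X (X.Sz S) a b → X.g a ∈ A2 X a b → g ∈ Zc X (A2 X a b) := fun a b c e => by_contra fun h1 =>
    pk X D S _ y S a b g h le_rfl (S_le_T h.can.z0) le_rfl c
      (boxFr X 3 D S Nat.prime_three h.p3 h.pi h.loc.pg (le_G h) h.can).2.1 hg.1 hT h1 ⟨h3.1, fun r hr => h3.2 r (c.sub hr)⟩ hg.2 e
  refine hn ⟨hg.1, fun d hd => One.Zc_comm (S_le_T h.can.z0) ⟨hT, fun r hr => ?_⟩ (le_cen h hd)⟩
  rw [e] at hr
  exact hr.elim ((key a b c1 g1).2 r) ((key a' b' c2 g2).2 r)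

theorem zn_le (k1 : BoxK1) (r6 : BoxR6) (hg : g ∈ Zn D) : g ∈ (D ⊓ S) ⊔ mu X := by
  obtain ⟨z, hz, hN, h', t1, -⟩ := Zl.St.frame h boxCC boxFr hg.1 hg.1 rfl
  have h1 := (k1 _ 6 (hE.conj hz hN) h.p3).2 S h'.can.z0 g
    (r6 _ D S y g (hE.conj hz hN) h' (mu_conj hz hN ▸ hμ) t1 hg) (by rintro _ rfl; exact Zl.el_D h.loc _ hg.1)
  rw [mu_conj] at h1
  obtain ⟨ζ, h2, h3⟩ := Mn.split (S_le_T h.can.z0) h1
  rw [← mul_inv_cancel_left ζ g]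
  exact mul_mem (mem_sup_right h2) (mem_sup_left ⟨D.mul_mem (D.inv_mem (Zl.St.mu_mem h h2 (hμ _ h2))) hg.1, h3⟩)

end Lo

open Lo in
/-- **[SLOC]** -/
theorem boxSLoc_of (k1 : BoxK1) (r6 : BoxR6) (tw : BoxTwo) (pk : BoxPK) (hab : BoxAB) (n1 : BoxN1) (n2 : BoxN2)
    (en : BoxEnd) : BoxSLoc := fun {p _ k _ _ Y _ N _ _ ρ F G _} X D S y hE h hμ hna => by
  by_cases hA : ∀ g, C2 (mu X) D g → g ∈ Zn D
  · exact .inl hA
  push Not at hA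
  obtain ⟨g, hg, hn⟩ := hA
  obtain ⟨z, hz, hN, h', t1, -⟩ := Zl.St.frame h boxCC boxFr hg.1 hg.1 rfl
  have hg' : C2 (mu (X.conj hz hN)) D g := mu_conj hz hN ▸ hg
  refine .inr ⟨by_contra fun hQ => hn (two h' (hE.conj hz hN) (mu_conj hz hN ▸ hμ) n2 tw pk r6 hQ t1 hg'), ?_⟩
  by_cases hS : S = ⊥
  · subst hS
    obtain ⟨g, h1, h2⟩ := SG.sloc_bot en hE h hμ (SG.zn_le r6 k1 hE h hμ) hna
    exact ⟨g, h1, fun x hx => (h2 x hx).imp fun _ => mem_sup_right⟩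
  have h1 := ab h' (hE.conj hz hN) n1 hab hS t1 hg' hn
  exact ⟨g, hg.1, fun x hx => (grp (k1 X 6 hE h.p3).1 (mu_cm h) hg hn (fun a ha b hb e e' => h1 a
    ⟨ha, mem_centralizer_singleton_iff.2 e⟩ b ⟨hb, mem_centralizer_singleton_iff.2 e'⟩) hna hx).imp fun _ => zn_le h hE hμ k1 r6⟩

end Cfsg.Agent.RC.B.Sim
end

-- part: RC/B/Two
section
prune_inst 0x3004000c4000000000000400000424200000000043000019000000010312400000060100000800100008000000000011000010c21000000a00000040040401802a400282080104040001803000000000000000000000000000000000041000200000000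
set_option linter.all false
open scoped Cfsg.Agent.FastGrp

/-!
# RC, type `E₆` : the centre (`mu_form`), Levi subsystems without `β` (`nobeta`), `boxTwo` (helper29)
-/

set_option autoImplicit false
set_option linter.unusedSectionVars false

namespace Cfsg.Agent.RC.B

open Cfsg Cfsg.Lie Cfsg.Agent.DL Cfsg.Agent.Nodes.Reps Matrix Cfsg.Agent.KM.Ht Cfsg.Agent.KM.Tor
open Cfsg.Agent.KZ.DatX Cfsg.Agent.Nodes.RGDChev Cfsg.Agent.Nodes.Coroot Cfsg.Agent.ChevalleyStructure.NPerm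
  Cfsg.Agent.ChevalleyStructure.CoxeterGeom Cfsg.Agent.ChevalleyStructure.CoxeterGeomTypes Cfsg.Agent.Tits.Roots
open Cfsg.Agent.H931.KC (hr)
open Cfsg.Agent.KM.Ex (sr_dot)
open Cfsg.Agent.KM.Tor.LN6 (cc dd zz th co_eq cc_dd)
open Cfsg.Agent.TO.X.Cn (χ_exp)

namespace Two

theorem fac_succ {Y : Type} [Group Y] {A B : Subgroup Y} [Finite B] (h : A ≤ B) (hc : ∀ x ∈ B, ∀ y ∈ B, x * y = y * x)
    {t : Y} (h1 : t ∈ B) (h2 : t ∉ A) {j : ℕ} (h3 : t ^ 3 ^ j = 1) :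
    (Nat.card A).factorization 3 + 1 ≤ (Nat.card B).factorization 3 := by
  have : (A.subgroupOf B).Normal := ⟨fun a ha g => by
    rwa [show g * a * g⁻¹ = a from mul_inv_eq_of_eq_mul (Subtype.ext (hc _ g.2 _ a.2))]⟩
  have h4 : 3 ∣ (A.subgroupOf B).index := by
    have h5 : orderOf (QuotientGroup.mk ⟨t, h1⟩ : B ⧸ A.subgroupOf B) ∣ 3 ^ j := orderOf_dvd_of_pow_eq_one (by
      rw [← QuotientGroup.mk_pow, show (⟨t, h1⟩ : B) ^ 3 ^ j = 1 from Subtype.ext h3, QuotientGroup.mk_one])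
    obtain ⟨i, _, hi⟩ := (Nat.dvd_prime_pow Nat.prime_three).1 h5
    rcases i with _ | i
    · exact absurd ((QuotientGroup.eq_one_iff _).1 (orderOf_eq_one_iff.1 hi)) h2
    · exact (dvd_pow_self 3 i.succ_ne_zero).trans (hi ▸ orderOf_dvd_natCard _)
  have h6 := (A.subgroupOf B).card_mul_index
  rw [Nat.card_congr (Subgroup.subgroupOfEquivOfLe h).toEquiv] at h6
  have h7 : Nat.card B ≠ 0 := Nat.card_pos.ne'
  rw [← h6] at h7 ⊢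
  rw [Nat.factorization_mul (left_ne_zero_of_mul h7) (right_ne_zero_of_mul h7), Finsupp.add_apply]
  exact Nat.add_le_add_left (Nat.prime_three.factorization_pos_of_dvd (right_ne_zero_of_mul h7) h4) _

/-- the fundamental weight of the branch node -/
def om : Fin 6 → ℤ := ![2, 3, 4, 6, 4, 2]

theorem co_th : co chevE6 6 th = sr 1 := by decide +kernel

theorem co_om : co chevE6 6 om = sr 3 := by decide +kernel

theorem c0 : ∀ i : Fin 6, i ∉ ({1, 3} : Finset (Fin 6)) → ∀ r, 3 ∣ (zz - dd (sr i) 0 • dd (sr i)) r := by decide +kernel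

/-- the residues modulo `3` as one number -/
private def key3 (a : Fin 6 → ℤ) : ℕ :=
  (a 0 % 3).toNat + 3 * (a 1 % 3).toNat + 9 * (a 2 % 3).toNat + 27 * (a 3 % 3).toNat + 81 * (a 4 % 3).toNat + 243 * (a 5 % 3).toNat

private theorem key3_inv : ∀ s : Fin chevE6.nroots,
    Nat.mod (Nat.shiftRight 0x8004c000002c01a0000000000000000000160000000007830022000000000003000000000000000000000000000000000000000000000000000000000000000000000000000210000000000000000000000000000000000000000000000005004000000000000400000000000000000000000000000000000000000000001000000000000000000000000000000000000000000000000000000000000000000000000000000000000000000000000000000000000000000000000000000000000000000000000000000000000000000000000008c0000002280000000000000426e00000000000000000000000000000000000000000000000000000000000000000000011c0008c0000000000000000000000000000000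00000000000000440000000000000082d800000000000000000000000000000000000000000003f6801e2d000000000c40005200000000000000000000000000000000000000000000026000000000000000000000000000000000000000000000000000000000000000000000000000000000000000000000000000000000000000000000000000000000000000000004824014000000c006c00000000000000000005c000000001f0e0090000000000010000000000000000000000000000000000000000000000000000000000000000000000000000880000002180000000000000406a00000000000000000000000000000000000000000001f3300ed60000000006000028000000000000000000000000000000000000000000000128a0054000003401c0000000000000000000180000000008000000000000000000000003d6401d2b000000000bc0004e00000000000e0074000000000000e550000640005c3dc00 (7 * key3 (_root_.Cfsg.Agent.Nodes.RGDChev.vec chevE6 6 s))) 128 = s.val := by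
  decide +kernel

theorem c1 : ∀ s t : Fin chevE6.nroots, (∀ i, 3 ∣ (_root_.Cfsg.Agent.Nodes.RGDChev.vec chevE6 6 s - _root_.Cfsg.Agent.Nodes.RGDChev.vec chevE6 6 t) i) → _root_.Cfsg.Agent.Nodes.RGDChev.vec chevE6 6 s = _root_.Cfsg.Agent.Nodes.RGDChev.vec chevE6 6 t := by
  intro s t h
  have e : ∀ i, _root_.Cfsg.Agent.Nodes.RGDChev.vec chevE6 6 s i % 3 = _root_.Cfsg.Agent.Nodes.RGDChev.vec chevE6 6 t i % 3 := fun i => by
    have := h i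
    rw [Pi.sub_apply] at this
    omega
  have k : key3 (_root_.Cfsg.Agent.Nodes.RGDChev.vec chevE6 6 s) = key3 (_root_.Cfsg.Agent.Nodes.RGDChev.vec chevE6 6 t) := by
    unfold key3
    rw [e 0, e 1, e 2, e 3, e 4, e 5]
  have hs := key3_inv s
  rw [k, key3_inv t] at hs
  rw [hs]

theorem c2 : ∀ s t : Fin chevE6.nroots, _root_.Cfsg.Agent.Nodes.RGDChev.vec chevE6 6 s 1 = 0 ∧ _root_.Cfsg.Agent.Nodes.RGDChev.vec chevE6 6 s 3 = 0 → _root_.Cfsg.Agent.Nodes.RGDChev.vec chevE6 6 t 1 = 0 ∧ _root_.Cfsg.Agent.Nodes.RGDChev.vec chevE6 6 t 3 = 0 →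
    _root_.Cfsg.Agent.Nodes.RGDChev.vec chevE6 6 s ⬝ᵥ co chevE6 6 (_root_.Cfsg.Agent.Nodes.RGDChev.vec chevE6 6 t) = -1 → (¬ 3 ∣ (_root_.Cfsg.Agent.Nodes.RGDChev.vec chevE6 6 s - _root_.Cfsg.Agent.Nodes.RGDChev.vec chevE6 6 t) 0 →
      A2P (sr 0) (sr 2) (_root_.Cfsg.Agent.Nodes.RGDChev.vec chevE6 6 s) ∧ A2P (sr 0) (sr 2) (_root_.Cfsg.Agent.Nodes.RGDChev.vec chevE6 6 t)) ∧
    (¬ 3 ∣ (_root_.Cfsg.Agent.Nodes.RGDChev.vec chevE6 6 s - _root_.Cfsg.Agent.Nodes.RGDChev.vec chevE6 6 t) 4 → A2P (sr 4) (sr 5) (_root_.Cfsg.Agent.Nodes.RGDChev.vec chevE6 6 s)) := by decide +kernel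

theorem c3 : ∀ s : Fin chevE6.nroots, _root_.Cfsg.Agent.Nodes.RGDChev.vec chevE6 6 s 1 = 0 ∧ _root_.Cfsg.Agent.Nodes.RGDChev.vec chevE6 6 s 3 = 0 →
    (A2P (sr 0) (sr 2) (_root_.Cfsg.Agent.Nodes.RGDChev.vec chevE6 6 s) ∨ A2P (sr 4) (sr 5) (_root_.Cfsg.Agent.Nodes.RGDChev.vec chevE6 6 s)) ∧
    (¬ A2P (sr 0) (sr 2) (_root_.Cfsg.Agent.Nodes.RGDChev.vec chevE6 6 s) → _root_.Cfsg.Agent.Nodes.RGDChev.vec chevE6 6 s ⬝ᵥ co chevE6 6 (sr 0) = 0 ∧ _root_.Cfsg.Agent.Nodes.RGDChev.vec chevE6 6 s ⬝ᵥ co chevE6 6 (sr 2) = 0) ∧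
    (¬ A2P (sr 4) (sr 5) (_root_.Cfsg.Agent.Nodes.RGDChev.vec chevE6 6 s) → _root_.Cfsg.Agent.Nodes.RGDChev.vec chevE6 6 s ⬝ᵥ co chevE6 6 (sr 4) = 0 ∧
      _root_.Cfsg.Agent.Nodes.RGDChev.vec chevE6 6 s ⬝ᵥ co chevE6 6 (sr 5) = 0) := by decide +kernel

theorem c4 (x : Fin 6 → ℤ) (h : A2P (sr 0) (sr 2) x ∨ A2P (sr 4) (sr 5) x) :
    (∃ s : Fin chevE6.nroots, _root_.Cfsg.Agent.Nodes.RGDChev.vec chevE6 6 s = x) ∧ x 1 = 0 ∧ x 3 = 0 := by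
  rcases h with (rfl | rfl | rfl | rfl | rfl | rfl) | (rfl | rfl | rfl | rfl | rfl | rfl) <;> decide +kernel

theorem c5 (β : Fin 6 → ℤ) (h : ∀ i, 3 ∣ _root_.Cfsg.Agent.KM.Tor.LN6.cc β i) (i : Fin 6) : 3 ∣ (β - β 0 • zz) i := by
  have h0 := h 0
  have h1 := h 1
  have h2 := h 2
  have h3 := h 3
  have h5 := h 5
  simp only [LN6.cc, _root_.Fin.isValue, _root_.Matrix.cons_val_zero, _root_.Matrix.cons_val_one, _root_.Matrix.cons_val] at h0 h1 h2 h3 h5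
  (revert i; simp only [LN6.zz, _root_.Fin.forall_fin_succ, Fin.isValue, _root_.Cfsg.Agent.KM.Tor.LN6.zz, Int.reduceNeg, _root_.Matrix.smul_cons, _root_.Int.zsmul_eq_mul, _root_.mul_one, _root_.MulZeroClass.mul_zero, _root_.mul_neg, _root_.Matrix.smul_empty, _root_.Pi.sub_apply, _root_.Matrix.cons_val_zero, _root_.sub_self, _root_.dvd_zero, _root_.Matrix.cons_val_succ, _root_.Fin.succ_zero_eq_one, _root_.sub_zero, _root_.Fin.succ_one_eq_two, _root_.sub_neg_eq_add, Fin.reduceSucc, _root_.Matrix.cons_val_fin_one, _root_.IsEmpty.forall_iff, _root_.and_true, _root_.true_and]) <;> (repeat' with_reducible apply And.intro) <;> omega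

end Two

open Two

variable {p : ℕ} [Fact p.Prime] {k : Type} [Field k] [CharP k p] {Y : Type} [Group Y] {N : Type} [Fintype N]
  [DecidableEq N] {ρ : Y →* GL N k} {F : MulAut Y} {G : Subgroup Y} [IsAlgClosed k] {X : Datum p ρ F G}

theorem Kit.τ_congr {C : ChevalleyDatum} {n : ℕ} {M : CoxeterMatrix (Fin n)} {hp : IsType C n M}
    {Mx : Matrix (Fin n) (Fin n) ℤ} {X₀ : XF hp p k Mx} (K : Kit X X₀) {j : Fin n} (H : Ok X C n j) (β β' : Fin n → ℤ)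
    (ζ : kˣ) : X.τ (coch (K.ψ β) ζ) = X.τ (coch (K.ψ β') ζ) ↔ ∀ i, (orderOf ζ : ℤ) ∣ (β - β') i := by
  rw [← K.τ_ψ_eq_one H, map_sub, sub_eq_add_neg, coch_add, coch_neg, map_mul, map_inv, mul_inv_eq_one]

/-- a non-cyclic `3`-subgroup of the torus meets the kernel of each character -/
theorem Two.exists_ker {Q : Subgroup Y} [Finite Q] (hT : Q ≤ X.T) (hQ : IsPGroup 3 Q) (hc : ¬ IsCyclic Q) (a : X.I → ℤ) :
    ∃ t ∈ Q, t ≠ 1 ∧ t ^ 3 = 1 ∧ X.χ a t = 1 := by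
  obtain ⟨f, hf⟩ : ∃ f : Q →* k, ∀ t, f t = X.χ a t :=
    ⟨⟨⟨fun t => X.χ a t, X.χ_one a⟩, fun s t => X.χ_mul a (hT s.2) (hT t.2)⟩, fun _ => rfl⟩
  obtain ⟨t, h1, h2⟩ : ∃ t, f t = 1 ∧ t ≠ 1 := by
    by_contra h
    push Not at h
    exact hc (isCyclic_of_injective_ringHom f ((injective_iff_map_eq_one f).2 h))
  obtain ⟨j, hj⟩ := hQ t
  obtain ⟨i, _, hi⟩ := (Nat.dvd_prime_pow Nat.prime_three).1 (orderOf_dvd_of_pow_eq_one hj)
  rcases i with _ | i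
  · exact absurd (orderOf_eq_one_iff.1 hi) h2
  refine ⟨(t ^ 3 ^ i : Q), (t ^ 3 ^ i).2, fun h => pow_ne_one_of_lt_orderOf (n := 3 ^ i) (by positivity) (by
    rw [hi]; exact Nat.pow_lt_pow_right (by decide) i.lt_succ_self) (Subtype.ext h), ?_, by rw [← hf, map_pow, h1, one_pow]⟩
  rw [← Subgroup.coe_pow, ← pow_mul, ← pow_succ, ← hi, pow_orderOf_eq_one, Subgroup.coe_one]

section E6

variable {Mx : Matrix (Fin 6) (Fin 6) ℤ} {X₀ : XF hpE6 p k Mx} (K : Kit X X₀) (H : Ok X chevE6 6 1)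
include H

/-- the centre of `E₆` -/
theorem Kit.mu_form {t : Y} (ht : t ∈ mu X) : ∃ ξ : kˣ, ξ ^ 3 = 1 ∧ t = X.τ (coch (K.ψ zz) ξ) := by
  obtain ⟨ζ, β, _, h1, rfl⟩ := K.exists_el H ht.1.1
  rcases (Nat.dvd_prime Nat.prime_three).1 (h1.trans (orderOf_dvd_of_pow_eq_one ht.2)) with h2 | h2
  · exact ⟨1, one_pow _, by simp only [orderOf_eq_one_iff.1 h2, map_one]⟩
  refine ⟨ζ ^ β 0, by
    rw [← zpow_natCast, ← _root_.zpow_mul, mul_comm, _root_.zpow_mul, zpow_natCast, ← h2, pow_orderOf_eq_one,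
      _root_.one_zpow], ?_⟩
  rw [← coch_zsmul, ← map_zsmul, K.τ_congr H, h2]
  refine c5 β fun i => ?_
  have h3 := (χ_exp X _ _ _).1 (ht.1.2 _ (K.rt_sr i))
  rwa [h2, K.dot_ψ, AddEquiv.apply_symm_apply, sr_dot, co_eq] at h3

theorem Kit.zz_mem {ξ : kˣ} (h : ξ ^ 3 = 1) : X.τ (coch (K.ψ zz) ξ) ∈ mu X := by
  refine ⟨⟨X.τ_mem _, fun a _ => (χ_exp X _ _ _).2 ((Int.natCast_dvd_natCast.2 (orderOf_dvd_of_pow_eq_one h)).trans ?_)⟩,
    by rw [← map_pow, ← map_pow, h, map_one, map_one]⟩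
  rw [K.dot_ψ, co_comm H.sl]
  exact K6.cent _

theorem Kit.sub_J {S : Subgroup Y} (hS : Z0 X S = S) (hm : ¬ mu X ≤ S) {J : Finset (Fin 6)}
    (hJ : ∀ a, a ∈ X.Sz S ↔ X.Rt a ∧ ∀ i ∈ J, K.e a i = 0) : J ⊆ {1, 3} := fun i hi => by_contra fun h => hm fun t ht => by
  obtain ⟨ξ, h1, rfl⟩ := K.mu_form H ht
  rw [(K.τ_congr H _ _ ξ).2 fun r => (Int.natCast_dvd_natCast.2 (orderOf_dvd_of_pow_eq_one h1)).trans (c0 i h r), ← hS]
  refine mem_Z0 ((K.pp_std hJ _).2 fun j hj => ?_) ξ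
  rw [K.φ_ψ, co_smul, co_eq, cc_dd, Pi.smul_apply, Pi.smul_apply, sr_ne fun e : j = i => hj (e ▸ hi), smul_zero, smul_zero]

theorem Kit.pp_form {Ψ : Set (X.I → ℤ)} {J : Finset (Fin 6)} (h : J ⊆ {1, 3})
    (hJ : ∀ a, a ∈ Ψ ↔ X.Rt a ∧ ∀ i ∈ J, K.e a i = 0) {v : X.R → ℤ} (hv : Pp X Ψ v) :
    v = K.ψ (K.φ v 1 • th + K.φ v 3 • om) := K.φ_inj H (by
  have h1 := fun i (hi : i ∉ ({1, 3} : Finset (Fin 6))) => (K.pp_std hJ v).1 hv i fun e => hi (h e)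
  rw [K.φ_ψ, co_add, co_smul, co_smul, co_th, co_om]
  generalize K.φ v = x at h1
  funext i
  fin_cases i
  all_goals simp [sr]
  all_goals exact h1 _ (by decide))

end E6

/-- **Levi subsystems of `E₆` without `β`** : `E₆` (`J = ∅`), `A₅` (`{1}`), `A₂ A₂ A₁` (`{3}`), `A₂ A₂` (`{1, 3}`) -/
theorem nobeta (hE : TE X 6) {S : Subgroup Y} (hS : Z0 X S = S) (hm : ¬ mu X ≤ S) :
    ∃ (Mx : Matrix (Fin 6) (Fin 6) ℤ) (X₀ : XF hpE6 p k Mx) (K : Kit X X₀) (J : Finset (Fin 6)), J ⊆ {1, 3} ∧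
      ∀ a, a ∈ X.Sz S ↔ X.Rt a ∧ ∀ i ∈ J, K.e a i = 0 := by
  obtain ⟨Mx, X₀, ⟨K⟩⟩ := hE.kit6
  obtain ⟨v, _, hv⟩ := exists_gen (X := X) (S : Set Y)
  rw [hS] at hv
  obtain ⟨K, J, hJ⟩ := K.std sl_E6 (fun _ ha => ha.1) ⟨v, hv⟩
  exact ⟨Mx, X₀, K, J, K.sub_J hE.ok6 hS hm hJ, hJ⟩

theorem boxTwo : BoxTwo := fun {p} _ {k} _ _ {Y} _ _ _ _ _ {F} {G} _ X S Q hE hp hS hg hm hF hQS hQG hQ hc => by
  obtain ⟨_, X₀, K, J, hJ, hz⟩ := nobeta hE hS hm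
  have H := hE.ok6
  have hST : S ≤ X.T := hS ▸ Z0_le_T X S
  have hfin := Asm.finite_GF X
  have : Finite Q := Finite.of_injective _ (Subgroup.inclusion_injective hQG)
  obtain ⟨f, γ, g1, g2, g3⟩ := K.exists_γ H
  have hq : ¬ (3 : ℤ) ∣ (p : ℤ) ^ f := fun h => hp ((Nat.prime_dvd_prime_iff_eq Nat.prime_three Fact.out).1
    (Int.natCast_dvd_natCast.1 (Int.prime_three.dvd_of_dvd_pow h)))
  generalize (p : ℤ) ^ f = q at g2 hq
  have fx : ∀ β (ξ : kˣ), orderOf ξ = 3 → (F (X.τ (coch (K.ψ β) ξ)) = X.τ (coch (K.ψ β) ξ) ↔ ∀ i, 3 ∣ (q • γ β - β) i) :=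
    fun β ξ h => by rw [X.F_τ, mon_coch, g2, ← map_zsmul, K.τ_congr H, h, Nat.cast_ofNat]
  -- the elements of `S`
  have hS' : ∀ t ∈ S, ∃ x y : kˣ, t = X.τ (coch (K.ψ th) x) * X.τ (coch (K.ψ om) y) := fun t ht => by
    obtain ⟨⟨x, y⟩, rfl⟩ : t ∈ (X.τ.comp ((coch (K.ψ th)).coprod (coch (K.ψ om)))).range := by
      refine (Subgroup.closure_le _).2 ?_ (hS.ge ht)
      rintro _ ⟨v, a, hv, rfl⟩
      refine ⟨(a ^ K.φ v 1, a ^ K.φ v 3), congrArg X.τ ?_⟩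
      conv_rhs => rw [K.pp_form H hJ hz hv, map_add, map_zsmul, map_zsmul, coch_add, coch_zsmul, coch_zsmul]
      rfl
    exact ⟨x, y, map_mul X.τ _ _⟩
  have hχ : ∀ (i : Fin 6) (x y : kˣ), X.χ (K.e.symm (sr i)) (X.τ (coch (K.ψ th) x) * X.τ (coch (K.ψ om) y)) =
      (x ^ sr (1 : Fin 6) i * y ^ sr (3 : Fin 6) i : kˣ) := fun i x y => by
    rw [X.χ_mul _ (X.τ_mem _) (X.τ_mem _), K.χ_ψ, K.χ_ψ, AddEquiv.apply_symm_apply, sr_dot, sr_dot, co_th, co_om,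
      Units.val_mul]
  have hsr : ∀ i, i ∉ J → K.e.symm (sr i) ∈ X.Sz S := fun i hi => (hz _).2 ⟨K.rt_sr i, fun j hj => by
    rw [AddEquiv.apply_symm_apply]
    exact sr_ne fun e => hi (e ▸ hj)⟩
  have key : ∀ (i : Fin 6) (β : Fin 6 → ℤ) (y : kˣ), co chevE6 6 β = sr i → X.τ (coch (K.ψ β) y) ∈ Q →
      X.τ (coch (K.ψ β) y) ≠ 1 → X.τ (coch (K.ψ β) y) ^ 3 = 1 → i ∈ J ∧ ∀ r, 3 ∣ (q • γ β - β) r := fun i β y h1 h2 h3 h4 => by
    have h5 : X.χ (K.e.symm (sr i)) (X.τ (coch (K.ψ β) y)) = y := by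
      rw [K.χ_ψ, AddEquiv.apply_symm_apply, sr_dot, h1, sr_self, zpow_one]
    have h6 : y ≠ 1 := fun e => h3 (by rw [e, map_one, map_one])
    refine ⟨by_contra fun h => h6 (Units.ext (h5.symm.trans ((hsr i h).2 _ (hQS h2)))), (fx β y (orderOf_eq_prime
      (hp := ⟨Nat.prime_three⟩) (Units.ext ?_) h6)).1 (hQG h2).2⟩
    rw [Units.val_pow_eq_pow_val, ← h5, ← TO.X.Cn.χ_pow X _ (X.τ_mem _), h4, X.χ_one, Units.val_one]
  obtain ⟨j1, f1⟩ : 1 ∈ J ∧ ∀ r, 3 ∣ (q • γ th - th) r := by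
    obtain ⟨t, h1, h2, h3, h4⟩ := exists_ker (hQS.trans hST) hQ hc (K.e.symm (sr 3))
    obtain ⟨x, y, rfl⟩ := hS' t (hQS h1)
    rw [hχ, sr_self, sr_ne (by decide), zpow_zero, zpow_one, one_mul, Units.val_eq_one] at h4
    rw [h4, map_one, map_one, mul_one] at h1 h2 h3
    exact key 1 th x co_th h1 h2 h3
  obtain ⟨j3, f3⟩ : 3 ∈ J ∧ ∀ r, 3 ∣ (q • γ om - om) r := by
    obtain ⟨t, h1, h2, h3, h4⟩ := exists_ker (hQS.trans hST) hQ hc (K.e.symm (sr 1))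
    obtain ⟨x, y, rfl⟩ := hS' t (hQS h1)
    rw [hχ, sr_self, sr_ne (by decide), zpow_zero, zpow_one, mul_one, Units.val_eq_one] at h4
    rw [h4, map_one, map_one, one_mul] at h1 h2 h3
    exact key 3 om y co_om h1 h2 h3
  have hz' : ∀ a, a ∈ X.Sz S ↔ X.Rt a ∧ K.e a 1 = 0 ∧ K.e a 3 = 0 := fun a => (hz a).trans (and_congr_right fun _ =>
    ⟨fun h => ⟨h 1 j1, h 3 j3⟩, fun h i hi => by
      rcases Finset.mem_insert.1 (hJ hi) with rfl | h1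
      exacts [h.1, Finset.mem_singleton.1 h1 ▸ h.2]⟩)
  obtain ⟨t, t1, t2⟩ := SetLike.not_le_iff_exists.1 hm
  obtain ⟨ω, o1, rfl⟩ := K.mu_form H t1
  have o3 : orderOf ω = 3 := orderOf_eq_prime (hp := ⟨Nat.prime_three⟩) o1 fun e => t2 (by
    rw [e, map_one, map_one]; exact one_mem _)
  have fz := (fx zz ω o3).1 (hF _ t1)
  have cmb : ∀ (x y z : ℤ) (u β : Fin 6 → ℤ), β = x • th + y • om + z • zz + (3 : ℤ) • u → ∀ r, 3 ∣ (q • γ β - β) r :=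
    fun x y z u β h r => by
      have e : q • γ β - β = x • (q • γ th - th) + y • (q • γ om - om) + z • (q • γ zz - zz) + (3 : ℤ) • (q • γ u - u) := by
        rw [h, map_add, map_add, map_add, map_zsmul, map_zsmul, map_zsmul, map_zsmul]
        module
      rw [e]
      exact dvd_add (dvd_add (dvd_add ((f1 r).mul_left x) ((f3 r).mul_left y)) ((fz r).mul_left z)) (dvd_mul_right _ _)
  have hγ : ∀ x : Fin 6 → ℤ, γ x = K.e (X.g (K.e.symm x)) → X₀.D.Rt x → X₀.D.Rt (γ x) := fun x h hx =>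
    h ▸ (K.rt _).1 (X.g_root _ ((K.rt_symm x).2 hx))
  have hγ' : ∀ x : Fin 6 → ℤ, X₀.D.Rt x → γ x = K.e (X.g (K.e.symm x)) := fun x hx => by
    rw [(g1 _ ((K.rt_symm x).2 hx)).2, AddEquiv.apply_symm_apply]
  -- the third component
  obtain ⟨ε, e1, e2⟩ : ∃ ε : ℤ, (ε = 1 ∨ ε = -1) ∧ 3 ∣ q - ε := by
    by_cases h : 3 ∣ q - 1
    exacts [⟨1, .inl rfl, h⟩, ⟨-1, .inr rfl, by omega⟩]
  have sc : ∀ x : Fin 6 → ℤ, X₀.D.Rt x → (∀ r, 3 ∣ (q • γ x - x) r) → γ x = ε • x := fun x hx h => by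
    have h1 : X₀.D.Rt (ε • γ x : Fin 6 → ℤ) := by
      rcases e1 with rfl | rfl
      · rw [one_smul]; exact hγ x (hγ' x hx) hx
      · rw [neg_one_smul]; exact (hγ x (hγ' x hx) hx).neg
    have h2 := forall_rt X₀ (Q := fun a => ∀ b : Fin 6 → ℤ, X₀.D.Rt b → (∀ i, 3 ∣ (a - b) i) → a = b)
      (fun s => forall_rt X₀ (c1 s)) _ h1 x hx fun r => by
        have h3 := dvd_sub (h r) (e2.mul_right (γ x r))
        exact h3.trans (dvd_of_eq (show q * γ x r - x r - (q - ε) * γ x r = ε * γ x r - x r by ring))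
    conv_rhs => rw [← h2, smul_smul]
    rcases e1 with rfl | rfl <;> simp
  have s1 := sc th ((by decide +kernel : hr chevE6 6 = th) ▸ rt_hr X₀) f1
  have s3 : γ om = ε • om := by
    have h1 := sc (sr 1) (isRoot_sr _ _ _) (cmb 2 (-1) 0 0 _ (by decide +kernel))
    rw [show om = (2 : ℤ) • th - sr 1 by decide +kernel, map_sub, map_zsmul, s1, h1]
    module
  -- the two components
  have z1 := cmb 0 1 (-1) ![0, -1, -2, -2, -1, -1] (sr 0 - sr 2) (by decide +kernel)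
  have z2 := cmb 0 (-1) (-1) ![1, 1, 1, 2, 2, 0] (sr 4 - sr 5) (by decide +kernel)
  have st : ∀ i j : Fin 6, i ∉ J → j ∉ J → sr i ⬝ᵥ co chevE6 6 (sr j) = -1 → (¬ 3 ∣ (γ (sr i) - γ (sr j)) 0 →
      A2P (sr 0) (sr 2) (γ (sr i)) ∧ A2P (sr 0) (sr 2) (γ (sr j))) ∧
      (¬ 3 ∣ (γ (sr i) - γ (sr j)) 4 → A2P (sr 4) (sr 5) (γ (sr i))) := fun i j hi hj h =>
    forall_rt X₀ (Q := fun a => ∀ b : Fin 6 → ℤ, X₀.D.Rt b → a 1 = 0 ∧ a 3 = 0 → b 1 = 0 ∧ b 3 = 0 → a ⬝ᵥ co chevE6 6 b = -1 →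
      (¬ 3 ∣ (a - b) 0 → A2P (sr 0) (sr 2) a ∧ A2P (sr 0) (sr 2) b) ∧ (¬ 3 ∣ (a - b) 4 → A2P (sr 4) (sr 5) a))
      (fun s => forall_rt X₀ (c2 s)) _ (hγ _ (hγ' _ (isRoot_sr _ _ i)) (isRoot_sr _ _ i)) _
      (hγ _ (hγ' _ (isRoot_sr _ _ j)) (isRoot_sr _ _ j)) (hγ' _ (isRoot_sr _ _ i) ▸ ((hz' _).1 (hg _ (hsr i hi))).2)
      (hγ' _ (isRoot_sr _ _ j) ▸ ((hz' _).1 (hg _ (hsr j hj))).2) ((g3 _ _).trans h)
  have nJ : ∀ i : Fin 6, i ∉ ({1, 3} : Finset (Fin 6)) → i ∉ J := fun i h e => h (hJ e)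
  have nd : ∀ (i j r : Fin 6), (sr i - sr j : Fin 6 → ℤ) r = 1 → 3 ∣ (q • γ (sr i - sr j) - (sr i - sr j)) r →
      ¬ 3 ∣ (γ (sr i) - γ (sr j)) r := fun i j r h1 h2 h3 => by
    rw [Pi.sub_apply, h1, map_sub, Pi.smul_apply, smul_eq_mul] at h2
    have h4 := dvd_sub (h3.mul_left q) h2
    omega
  have a1 := (st 0 2 (nJ _ (by decide)) (nJ _ (by decide)) (by decide +kernel)).1 (nd 0 2 0 (by decide +kernel) (z1 0))
  have a2 := (st 4 5 (nJ _ (by decide)) (nJ _ (by decide)) (by decide +kernel)).2 (nd 4 5 4 (by decide +kernel) (z2 4))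
  have mA : ∀ (i j : Fin 6) c, c ∈ A2 X (K.e.symm (sr i)) (K.e.symm (sr j)) ↔ A2P (sr i) (sr j) (K.e c) := fun i j c => by
    rw [K.mem_A2, AddEquiv.apply_symm_apply, AddEquiv.apply_symm_apply]
  have gA : ∀ i j l : Fin 6, A2P (sr i) (sr j) (γ (sr l)) →
      X.g (K.e.symm (sr l)) ∈ A2 X (K.e.symm (sr i)) (K.e.symm (sr j)) := fun i j l h =>
    (mA i j _).2 (hγ' _ (isRoot_sr _ _ l) ▸ h)
  have pr : ∀ c (j : Fin 6), X.wt c ⬝ᵥ X.cor (K.e.symm (sr j)) = K.e c ⬝ᵥ co chevE6 6 (sr j) := fun c j => by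
    rw [K.wt_cor c (K.rt_sr j), AddEquiv.apply_symm_apply]
  have pr' : ∀ i j : Fin 6, sr i ⬝ᵥ co chevE6 6 (sr j) = -1 → X.wt (K.e.symm (sr i)) ⬝ᵥ X.cor (K.e.symm (sr j)) = -1 :=
    fun i j h => by rwa [pr, AddEquiv.apply_symm_apply]
  have sub : ∀ c, A2P (sr 0) (sr 2) (K.e c) ∨ A2P (sr 4) (sr 5) (K.e c) → c ∈ X.Sz S := fun c h => by
    obtain ⟨⟨s, h1⟩, h2⟩ := c4 _ h
    exact (hz' c).2 ⟨(K.rt c).2 (h1 ▸ rt_vec X₀ s), h2⟩
  have c3' := fun c (h : c ∈ X.Sz S) => K.forall_rt (Q := fun x => x 1 = 0 ∧ x 3 = 0 →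
    (A2P (sr 0) (sr 2) x ∨ A2P (sr 4) (sr 5) x) ∧
    (¬ A2P (sr 0) (sr 2) x → x ⬝ᵥ co chevE6 6 (sr 0) = 0 ∧ x ⬝ᵥ co chevE6 6 (sr 2) = 0) ∧
    (¬ A2P (sr 4) (sr 5) x → x ⬝ᵥ co chevE6 6 (sr 4) = 0 ∧ x ⬝ᵥ co chevE6 6 (sr 5) = 0)) c3 h.1 ((hz' c).1 h).2
  have C1 : Cmp X (X.Sz S) (K.e.symm (sr 0)) (K.e.symm (sr 2)) := ⟨fun c h => sub c (.inl ((mA _ _ c).1 h)),
    pr' _ _ (by decide +kernel), pr' _ _ (by decide +kernel), fun c h h' => by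
      rw [pr, pr]; exact (c3' c h).2.1 fun e => h' ((mA _ _ c).2 e)⟩
  have C2 : Cmp X (X.Sz S) (K.e.symm (sr 4)) (K.e.symm (sr 5)) := ⟨fun c h => sub c (.inr ((mA _ _ c).1 h)),
    pr' _ _ (by decide +kernel), pr' _ _ (by decide +kernel), fun c h h' => by
      rw [pr, pr]; exact (c3' c h).2.2 fun e => h' ((mA _ _ c).2 e)⟩
  refine ⟨⟨q * ε, fun v hv => ?_⟩, ?_, _, _, _, _, Set.Subset.antisymm (fun c h => (c3' c h).1.imp (mA _ _ c).2 (mA _ _ c).2)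
    (Set.union_subset C1.sub C2.sub), C1, C2, gA _ _ _ a1.1, gA _ _ _ a2⟩
  · rw [K.pp_form H hJ hz hv, g2, map_add γ, map_zsmul, map_zsmul, s1, s3, smul_comm _ ε, smul_comm _ ε, ← smul_add,
      map_zsmul, smul_smul]
  have ez : zc X (K.e.symm (sr 0)) (K.e.symm (sr 2)) ω = X.τ (coch (K.ψ (sr 0 - sr 2)) ω) := by
    rw [zc, K.cor_eq H (K.rt_sr 0), K.cor_eq H (K.rt_sr 2), AddEquiv.apply_symm_apply, AddEquiv.apply_symm_apply, map_sub]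
  obtain ⟨u, u1, u2, u3, u4⟩ := boxLE X _ _ ω hp (K.rt_sr 0) (K.rt_sr 2) C1.ab C1.ba (gA _ _ _ a1.1) (gA _ _ _ a1.2) o3
    (ez ▸ (fx _ ω o3).2 z1) (ez ▸ fun e => absurd (o3 ▸ (K.τ_ψ_eq_one H _ ω).1 e 0) (by decide +kernel))
    ((K.la H lac6).2 _ _ (K.rt_sr 0) (K.rt_sr 2) C1.ab).2.1
  obtain ⟨j, hj⟩ := u3 u rfl
  have l2 : GF F (Zc X (X.Sz S)) ≤ GF F X.T := fun _ h => ⟨h.1.1, h.2⟩
  have l3 : GF F X.T ≤ GF F G := fun _ h => ⟨X.T_le_G h.1, h.2⟩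
  have := Finite.of_injective _ (Subgroup.inclusion_injective l3)
  have := Finite.of_injective _ (Subgroup.inclusion_injective l2)
  have b1 := fac_succ (A := GF F S) (B := GF F (Zc X (X.Sz S))) (fun _ h => ⟨⟨hST h.1, fun a ha => ha.2 _ h.1⟩, h.2⟩)
    (fun _ h _ h' => X.T_comm h.1.1 h'.1.1) ⟨⟨t1.1.1, fun a ha => t1.1.2 a ha.1⟩, hF _ t1⟩ (fun h => t2 h.1) (j := 1) t1.2
  have b2 := fac_succ l2 (fun _ h _ h' => X.T_comm h.1 h'.1) ⟨u1, u2⟩ (fun h => u4 ⟨u1, fun a ha => h.1.2 a (C1.sub ha)⟩) hj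
  omega

end Cfsg.Agent.RC.B
end

-- part: RC/B/Main_mg
section

end

-- part: RC/B/K1x
section
set_option linter.all false
open scoped Cfsg.Agent.FastGrp

/-!
# RC (S4576): [K1] (helper14)
-/

set_option autoImplicit false
set_option linter.unusedSectionVars false

namespace Cfsg.Agent.RC.B

open Cfsg Cfsg.Lie Cfsg.Agent.DL Cfsg.Agent.Nodes.Reps Matrix Subgroup Cfsg.Agent.KM.Ht Cfsg.Agent.KM.Tor
  Cfsg.Agent.KZ.DatX Cfsg.Agent.Nodes.RGDChev Cfsg.Agent.ChevalleyStructure.NPerm Cfsg.Agent.ChevalleyStructure.CoxeterGeom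
  Cfsg.Agent.ChevalleyStructure.CoxeterGeomTypes Cfsg.Agent.Tits.Roots
open Cfsg.Agent.TO.X.Cn (PM χ_exp pm_E6 pm_E7 pm_E8)
open Cfsg.Agent.KM.Ex (sr_dot)

namespace K1x

variable {p : ℕ} [Fact p.Prime] {k : Type} [Field k] [CharP k p] {Y : Type} [Group Y] {N : Type} [Fintype N]
  [DecidableEq N] {ρ : Y →* GL N k} {F : MulAut Y} {G : Subgroup Y} [IsAlgClosed k] {X : Datum p ρ F G}
  {C : ChevalleyDatum} {n : ℕ} {M : CoxeterMatrix (Fin n)} {hp : IsType C n M} {Mx : Matrix (Fin n) (Fin n) ℤ}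
  {X₀ : XF hp p k Mx} (K : Kit X X₀) {j : Fin n} (H : Ok X C n j) {f : ℕ} (hf : f ≠ 0) (hP : PM C n f) {S : Subgroup Y} {t : Y}
include K H hf hP

/-- the centre of a Levi subgroup is the product of the connected centre and the centre of `G` -/
theorem split (hS : Z0 X S = S) (ht : t ∈ Zc X (X.Sz S)) : ∃ s ∈ S, ∃ z ∈ Zc X {a | X.Rt a}, z ^ f = 1 ∧ t = s * z := by
  obtain ⟨K, J, hJ⟩ := K.std H.sl X.Sz_root (qc_of_le hS.ge)
  obtain ⟨ζ, β, -, -, rfl⟩ := K.exists_el H ht.1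
  have h1 : ∀ i, ∃ d : ℤ, co C n β i = (if i ∈ J then co C n β i else 0) + orderOf ζ * d := fun i => by
    split_ifs with hi
    · exact ⟨0, by rw [mul_zero, add_zero]⟩
    · have := (χ_exp X _ _ _).1 (ht.2 _ ((hJ _).2 ⟨K.rt_sr i, fun j hj => by
        rw [AddEquiv.apply_symm_apply]
        exact sr_ne fun e => hi (e ▸ hj)⟩))
      rw [K.dot_ψ, AddEquiv.apply_symm_apply, sr_dot] at this
      exact this.imp fun _ e => e.trans (zero_add _).symm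
  choose d hd using h1
  obtain ⟨β', h2⟩ := pm_co hP fun i => if i ∈ J then co C n β i else 0
  obtain ⟨δ, h3⟩ := pm_co hP d
  have h4 : (f : ℤ) • β = β' + (orderOf ζ : ℤ) • δ := co_inj H.sl hf hP (by
    rw [co_add, co_smul, co_smul, ← h2, ← h3, smul_comm, ← smul_add]
    exact congrArg _ (funext hd))
  obtain ⟨x, hx⟩ := IsAlgClosed.exists_pow_nat_eq (ζ : k) (Nat.pos_of_ne_zero hf)
  obtain ⟨ξ, rfl⟩ : ∃ ξ : kˣ, ξ ^ f = ζ := ⟨Units.mk0 x fun e => ζ.ne_zero (by rw [← hx, e, zero_pow hf]), Units.ext hx⟩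
  have h5 : (ξ ^ orderOf (ξ ^ f)) ^ f = 1 := by rw [← pow_mul, mul_comm, pow_mul, pow_orderOf_eq_one]
  refine ⟨X.τ (coch (K.ψ β') ξ), hS.le (mem_Z0 ((K.pp_std hJ _).2 fun i hi => ?_) ξ),
    X.τ (coch (K.ψ δ) (ξ ^ orderOf (ξ ^ f))), ⟨X.τ_mem _, fun a _ => (χ_exp X _ _ _).2 ?_⟩, ?_, ?_⟩
  · rw [K.φ_ψ, ← h2, Pi.smul_apply, if_neg hi, smul_zero]
  · rw [K.dot_ψ, ← h3, dotProduct_smul]
    exact (Int.natCast_dvd_natCast.2 (orderOf_dvd_of_pow_eq_one h5)).mul_right _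
  · rw [← map_pow, ← map_pow, h5, map_one, map_one]
  · rw [← _root_.zpow_natCast ξ (orderOf _), ← coch_zsmul, ← map_mul, ← coch_add, ← map_zsmul, ← map_add, ← h4, map_zsmul,
      coch_zsmul, _root_.zpow_natCast]

theorem mem_S (h3 : f.Coprime 3) (hS : Z0 X S = S) (ht : t ∈ Zc X (X.Sz S)) (he : El 3 {t}) : t ∈ S := by
  obtain ⟨s, hs, z, hz, h1, rfl⟩ := split K H hf hP hS ht
  obtain ⟨i, hi⟩ := he _ rfl
  obtain ⟨m, hm⟩ := exists_pow_eq_self_of_coprime ((h3.pow_right i).coprime_dvd_right (orderOf_dvd_of_pow_eq_one hi))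
  rw [← hm, Commute.mul_pow (X.T_comm (Z0_le_T X _ (hS.ge hs)) hz.1), h1, mul_one]
  exact pow_mem (pow_mem hs _) _

theorem mu_bot (h3 : f.Coprime 3) : mu X = ⊥ := le_bot_iff.1 fun t ht =>
  mem_S K H hf hP h3 (le_bot_iff.1 ((closure_le _).2 (by
    rintro _ ⟨v, a, hv, rfl⟩
    rw [H.ss v fun b hb => hv b ⟨hb, fun z hz => hz ▸ X.χ_one b⟩]
    exact (congrArg X.τ (funext fun _ => zpow_zero a)).trans (map_one _)))) ⟨ht.1.1, fun a ha => ht.1.2 a ha.1⟩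
    fun _ hz => ⟨1, by rw [hz, pow_one, ht.2]⟩

end K1x

open K1x in
/-- **[K1]** -/
theorem boxK1x : BoxK1 := by
  intro p _ k _ _ Y _ N _ _ ρ F G _ X n hE h3
  rcases hE.ty with ⟨rfl, -⟩ | ⟨rfl, -⟩ | ⟨rfl, -⟩
  · obtain ⟨_, X₀, ⟨K⟩⟩ := hE.kit6
    refine ⟨?_, fun S hS t ht _ => ?_⟩
    · have : Fact (Nat.Prime 3) := ⟨Nat.prime_three⟩
      obtain ⟨ω, hω⟩ := exists_prim p k (n := 3) fun h => h3 ((Nat.prime_dvd_prime_iff_eq Fact.out Nat.prime_three).1 h).symm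
      have h1 := K.zz_mem hE.ok6 (ξ := ω) (hω ▸ pow_orderOf_eq_one ω)
      rw [le_antisymm (fun t ht => ?_) (zpowers_le.2 h1), Nat.card_zpowers, if_pos rfl]
      · exact orderOf_eq_prime h1.2 fun e => absurd (hω ▸ (K.τ_ψ_eq_one hE.ok6 _ _).1 e 0) (by decide)
      · obtain ⟨ξ, h4, rfl⟩ := K.mu_form hE.ok6 ht
        obtain ⟨i, -, rfl⟩ := (hω ▸ IsPrimitiveRoot.orderOf ω).eq_pow_of_mem_rootsOfUnity (ξ := ξ) h4
        rw [map_pow, map_pow]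
        exact npow_mem_zpowers _ i
    · obtain ⟨s, hs, z, hz, h1, rfl⟩ := split K hE.ok6 (by decide) pm_E6 hS ht
      exact mul_mem_sup hs ⟨hz, h1⟩
  · obtain ⟨_, X₀, ⟨K⟩⟩ := hE.kit7
    exact ⟨by rw [mu_bot K hE.ok7 (by decide) pm_E7 (by decide), card_bot, if_neg (by decide)],
      fun S hS t ht he => mem_sup_left (mem_S K hE.ok7 (by decide) pm_E7 (by decide) hS ht he)⟩
  · obtain ⟨_, X₀, ⟨K⟩⟩ := hE.kit8
    exact ⟨by rw [mu_bot K hE.ok8 (by decide) pm_E8 (by decide), card_bot, if_neg (by decide)],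
      fun S hS t ht he => mem_sup_left (mem_S K hE.ok8 (by decide) pm_E8 (by decide) hS ht he)⟩

end Cfsg.Agent.RC.B
end

-- part: RC/D1X
section
prune_inst 0x100c000500000000000002a00006643000000200630000796009000106734380068700fc001b10010022280008000011000059c20000000a000c00400405219082c000f2890104a40007808804000000000000000000000000000000041000200000000
set_option linter.all false
open scoped Cfsg.Agent.FastGrp

/-!
# RC (S4576): the covers of `Sp₆(2)` and `Ω₈⁺(2)` at the prime three (helper12)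

* `s62`, `o82`; `row_psp`, `row_plus`.
-/

set_option autoImplicit false
set_option linter.unusedSectionVars false

namespace Cfsg.Agent.RC.D1

open Cfsg Cfsg.Agent.KM Cfsg.Agent.KM.Mu Cfsg.Agent.RC.D2 Subgroup Matrix Finset
open scoped commutatorElement

/-- the matrix with the given bits -/
def mt (n A : ℕ) : Matrix (Fin n ⊕ Fin n) (Fin n ⊕ Fin n) (ZMod 2) :=
  Matrix.of fun i j => cond (A.testBit (8 * (i.elim (·.1) fun x => 4 + x.1) + j.elim (·.1) fun x => 4 + x.1)) 1 0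

theorem c3_of {Γ : Type} [Group Γ] {a b c d t : Γ} (bc : b * c = c * b) (ta : t * a = b * t) (tb : t * b = c * t)
    (h : a * c ≠ b * b) : C3 (closure {a, b, c, d, t} : Subgroup Γ) := by
  refine ⟨a, subset_closure (by simp), t, subset_closure (by simp), t, subset_closure (by simp), fun e => h ?_⟩
  have h1 : t * a * t⁻¹ = b := by rw [ta, mul_inv_cancel_right]
  have h2 : t * b * t⁻¹ = c := by rw [tb, mul_inv_cancel_right]
  have h3 : t * (a * b⁻¹) * t⁻¹ = t * a * t⁻¹ * (t * b * t⁻¹)⁻¹ := by group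
  rw [show ⁅a, t⁆ = a * (t * a * t⁻¹)⁻¹ by rw [commutatorElement_def]; group, h1] at e
  rw [h1, h2, e, mul_inv_cancel_right] at h3
  calc a * c = a * b⁻¹ * (b * c) := by group
    _ = b * b := by rw [h3, bc]; group

/-- the element of `Sp₆(2)` with the given bits -/
def sp (A : ℕ) (h : mt 3 A * J (Fin 3) (ZMod 2) * (mt 3 A)ᵀ = J (Fin 3) (ZMod 2) := by decide +kernel) :
    symplecticGroup (Fin 3) (ZMod 2) := ⟨mt 3 A, h⟩

/-- **`Sp₆(2)`** -/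
theorem s62 (F : Type) [Field F] [Fintype F] (hF : Fintype.card F = 2) : RRow 3 (PSp 3 F) := by
  have : Fact (Nat.Prime 3) := ⟨Nat.prime_three⟩
  obtain ⟨e⟩ := StandardComponent.SpTwoAut.exists_equiv hF
  have h4 := H356.KillPSp.card (F := F) (m := 3) (by norm_num)
  rw [hF, Nat.card_congr e.toEquiv] at h4
  norm_num [Finset.prod_range_succ] at h4
  refine RRow.of_equiv e (rrow_c3 (wr (a := sp 0x40201100040210) (b := sp 0x40221000042001) (c := sp 0x44201000400201)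
    (d := 1) (t := sp 0x20104000020104) ?_ ?_ ?_ (one_pow 3) ?_ ?_ ?_ ?_ (Commute.one_right _) (Commute.one_right _)
    (Commute.one_right _) ?_ ?_ ?_ (Commute.one_right _)) (c3_of ?_ ?_ ?_ fun h => absurd (congrArg Subtype.val h) ?_)
    (by rw [h4]; norm_num))
  all_goals first | (refine Subtype.ext ?_; decide +kernel) | decide +kernel

/-- the orthogonal group -/
abbrev O8 := isometryGroup (ZMod 2) (quadFormPlus 4 (ZMod 2))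

/-- the element of order three of `O₈⁺(2)` with the given bits -/
def el (A : ℕ) (h : mt 4 A * (mt 4 A * mt 4 A) = 1 ∧
    ∀ v, quadFormPlus 4 (ZMod 2) (mt 4 A *ᵥ v) = quadFormPlus 4 (ZMod 2) v) : O8 :=
  ⟨⟨mt 4 A, mt 4 A * mt 4 A, h.1, (mul_assoc _ _ _).trans h.1⟩, fun v _ => h.2 v⟩

/-- the number of fixed vectors -/
def fx (g : O8) : ℕ := #{v : Fin 4 ⊕ Fin 4 → ZMod 2 | g.1.1 *ᵥ v = v}

theorem fx_conj {x y : O8} (h : IsConj x y) : fx x = fx y := by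
  obtain ⟨g, rfl⟩ := isConj_iff.1 h
  have h1 : ∀ (a b : O8) v, a.1.1 *ᵥ b.1.1 *ᵥ v = (a * b).1.1 *ᵥ v := fun a b v => mulVec_mulVec _ _ _
  have h2 : ∀ v, (1 : O8).1.1 *ᵥ v = v := one_mulVec
  refine Finset.card_nbij' (g.1.1 *ᵥ ·) (g⁻¹.1.1 *ᵥ ·) (fun v hv => ?_) (fun v hv => ?_)
    (fun v _ => (h1 _ _ _).trans (by rw [inv_mul_cancel, h2])) fun v _ => (h1 _ _ _).trans (by rw [mul_inv_cancel, h2])
  · rw [coe_filter_univ, Set.mem_ofPred_eq] at hv ⊢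
    rw [h1, inv_mul_cancel_right, ← h1, hv]
  · rw [coe_filter_univ, Set.mem_ofPred_eq] at hv ⊢
    rw [h1, show x * g⁻¹ = g⁻¹ * (g * x * g⁻¹) by group, ← h1, hv]

private def pb (x y : Fin 4 ⊕ Fin 4 → ZMod 2) : ZMod 2 := ∑ i : Fin 4, (x (.inl i) * y (.inr i) + y (.inl i) * x (.inr i))

private theorem qf {M : Matrix (Fin 4 ⊕ Fin 4) (Fin 4 ⊕ Fin 4) (ZMod 2)} (h : M * (M * M) = 1 ∧
    (∀ i j, pb (M.col i) (M.col j) = pb (Pi.single i 1) (Pi.single j 1)) ∧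
    ∀ i, quadFormPlus 4 (ZMod 2) (M.col i) = quadFormPlus 4 (ZMod 2) (Pi.single i 1)) :
    M * (M * M) = 1 ∧ ∀ v, quadFormPlus 4 (ZMod 2) (M *ᵥ v) = quadFormPlus 4 (ZMod 2) v := by
  have a1 : ∀ x y, quadFormPlus 4 (ZMod 2) (x + y) = quadFormPlus 4 (ZMod 2) x + quadFormPlus 4 (ZMod 2) y + pb x y :=
    fun x y => by
      delta quadFormPlus pb
      rw [← sum_add_distrib, ← sum_add_distrib]
      exact sum_congr rfl fun i _ => by rw [Pi.add_apply, Pi.add_apply]; ring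
  have a2 : ∀ x y z, pb (x + y) z = pb x z + pb y z := fun x y z => by
    delta pb
    rw [← sum_add_distrib]
    exact sum_congr rfl fun i _ => by rw [Pi.add_apply, Pi.add_apply]; ring
  have a3 : ∀ x y, pb x y = pb y x := fun x y => sum_congr rfl fun i _ => add_comm _ _
  have ind : ∀ P : (Fin 4 ⊕ Fin 4 → ZMod 2) → Prop, (∀ i, P (Pi.single i 1)) → (∀ x y, P x → P y → P (x + y)) → ∀ v, P v :=
    fun P k1 k2 v => by
      have k0 : P 0 := (by decide : (Pi.single (.inl 0) 1 + Pi.single (.inl 0) 1 : Fin 4 ⊕ Fin 4 → ZMod 2) = 0) ▸ k2 _ _ (k1 _) (k1 _)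
      refine Pi.single_induction P v k0 k2 fun i m => ?_
      rcases (by decide : ∀ m : ZMod 2, m = 0 ∨ m = 1) m with rfl | rfl
      · rwa [Pi.single_zero]
      · exact k1 i
  have a4 : ∀ x y, pb (M *ᵥ x) (M *ᵥ y) = pb x y :=
    ind _ (fun i => ind _ (fun j => by rw [mulVec_single_one, mulVec_single_one, h.2.1])
      fun x y hx hy => by rw [mulVec_add, a3, a2, a3, hx, a3 (M *ᵥ y), hy, a3 _ (x + y), a2, a3 x, a3 y])
      fun x y hx hy z => by rw [mulVec_add, a2, a2, hx, hy]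
  exact ⟨h.1, ind _ (fun i => by rw [mulVec_single_one, h.2.2]) fun x y hx hy => by rw [mulVec_add, a1, a1, hx, hy, a4]⟩

/-- the generators of a Sylow `3`-subgroup -/
def ga : O8 := el 0x8040123308043010 (qf (by decide +kernel))
def gb : O8 := el 0x8040020308043312 (qf (by decide +kernel))
def gc : O8 := el 0x48cc2010c0400201 (qf (by decide +kernel))
def gd : O8 := el 0x80c2010cc480201 (qf (by decide +kernel))
def gt : O8 := el 0xf5aa55fa7d9b67be (qf (by decide +kernel))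
def gz : O8 := el 0x48cc3020c0400103 (qf (by decide +kernel))
def gw : O8 := el 0xc0803020040c0103 (qf (by decide +kernel))

private def vn (n : Fin 256) : Fin 4 ⊕ Fin 4 → ZMod 2 := fun i => cond (n.1.testBit (i.elim (·.1) fun x => 4 + x.1)) 1 0

private theorem fx_eq (g : O8) : fx g = #{n : Fin 256 | g.1.1 *ᵥ vn n = vn n} := by
  have h : ∀ n : Fin 256, ∑ i, (vn n i).val * 2 ^ (i.elim (·.1) fun x => 4 + x.1) = n := by decide +kernel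
  have h1 : Function.Bijective vn := (Fintype.bijective_iff_injective_and_card _).2
    ⟨fun a b e => Fin.ext (by rw [← h, e, h]), by simp⟩
  exact (card_bijective vn h1 fun _ => by simp).symm

theorem fx_val : fx 1 = 256 ∧ fx gd = 64 ∧ fx gz = 4 ∧ fx gw = 1 := by
  refine ⟨?_, ?_⟩
  · rw [fx_eq]
    simp
  · simp only [fx_eq]
    decide +kernel

theorem o8_ext {x y : O8} (h : x.1.1 = y.1.1) : x = y := Subtype.ext (Units.ext h)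

theorem o82' : RRow 3 (POmega (ZMod 2) (quadFormPlus 4 (ZMod 2))) := by
  classical
  have : Fact (Nat.Prime 3) := ⟨Nat.prime_three⟩
  have h1 := ClassicalGeometry.OrthDickson.index_commutator_two (LieClassical.OmegaReindex.quadPlus 4 (ZMod 2)) rfl
    LieClassical.OmegaReindex.quadPlus_nondegenerate (Or.inr (by simp))
  have h2 := LieClassical.OmegaCenter.card_center_omega_two rfl (LieClassical.OmegaReindex.quadPlus 4 (ZMod 2))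
    LieClassical.OmegaReindex.quadPlus_nondegenerate (by simp) (LieClassical.OmegaReindex.quadPlus_isotropic (by norm_num))
  rw [LieClassical.OmegaReindex.coe_quadPlus] at h1 h2
  let e := (QuotientGroup.quotientMulEquivOfEq (card_eq_one.1 h2)).trans QuotientGroup.quotientBot
  have h3 := S0293.result (ZMod.card 2) 4 le_rfl
  have h4 := (commutator O8).card_mul_index
  rw [Nat.card_congr e.toEquiv] at h3
  norm_num [Finset.prod_range_succ, -Nat.card_eq_fintype_card] at h3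
  rw [h1, h3] at h4
  have hz : gz = ga * gb * gc := o8_ext (by decide +kernel)
  have hw : gw = gz * gd := o8_ext (by decide +kernel)
  have h5 : ∀ x ∈ ({ga, gb, gc, gd, gt} : Set O8), x ∈ Subgroup.closure ({ga, gb, gc, gd, gt} : Set O8) := fun _ h =>
    Subgroup.subset_closure h
  have h6 : gz ∈ Subgroup.closure ({ga, gb, gc, gd, gt} : Set O8) :=
    hz ▸ mul_mem (mul_mem (h5 _ (by simp)) (h5 _ (by simp))) (h5 _ (by simp))
  have h7 : ∀ z : O8, ga * z = z * ga ∧ gb * z = z * gb ∧ gc * z = z * gc ∧ gd * z = z * gd ∧ gt * z = z * gt →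
      ∀ q ∈ Subgroup.closure ({ga, gb, gc, gd, gt} : Set O8), q * z = z * q := fun z ⟨a, b, c, d, t⟩ q hq =>
    mem_centralizer_singleton_iff.1 (((Subgroup.closure_le (centralizer {z})).2 (by
      rintro x (rfl | rfl | rfl | rfl | rfl) <;> exact mem_centralizer_singleton_iff.2 ‹_›)) hq)
  obtain ⟨f1, f2, f3, f4⟩ := fx_val
  refine rrow_cnt ((commutator O8).subtype.comp e.toMonoidHom) (Subtype.val_injective.comp e.injective)
    (S2098.result (ZMod.card 2)) (by rw [BD.card_sq]; decide) (by rw [← h4]; norm_num)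
    (wr (a := ga) (b := gb) (c := gc) (d := gd) (t := gt) ?_ ?_ ?_ ?_ ?_ ?_ ?_ ?_ ?_ ?_ ?_ ?_ ?_ ?_ ?_)
    (c3_of ?_ ?_ ?_ fun h => absurd (congrArg (·.1.1) h) (by decide +kernel)) {1, gd, gz, gw}
    (le_trans (by simp [f1, f2, f3, f4]) (card_image_le (f := fx))) (fun z hz => ?_) fun z hz z' hz' h => ?_
  iterate 18 exact o8_ext (by decide +kernel)
  · simp only [mem_insert, mem_singleton] at hz
    rcases hz with rfl | rfl | rfl | rfl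
    · exact ⟨one_mem _, one_pow 3, fun q _ => Commute.one_right q⟩
    · refine ⟨h5 _ (by simp), ?_, h7 _ ⟨?_, ?_, ?_, rfl, ?_⟩⟩ <;> exact o8_ext (by decide +kernel)
    · refine ⟨h6, ?_, h7 _ ⟨?_, ?_, ?_, ?_, ?_⟩⟩ <;> exact o8_ext (by decide +kernel)
    · refine ⟨hw ▸ mul_mem h6 (h5 _ (by simp)), ?_, h7 _ ⟨?_, ?_, ?_, ?_, ?_⟩⟩ <;> exact o8_ext (by decide +kernel)
  · have h8 := fx_conj h
    simp only [mem_insert, mem_singleton] at hz hz'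
    rcases hz with rfl | rfl | rfl | rfl <;> rcases hz' with rfl | rfl | rfl | rfl <;> first | rfl | omega

/-- **`Ω₈⁺(2)`** -/
theorem o82 (F : Type) [Field F] [Fintype F] (hF : Fintype.card F = 2) : RRow 3 (POmega F (quadFormPlus 4 F)) := by
  obtain ⟨e⟩ := UGT.U2.Rec.Congr.nonempty_POmega _
    (S2098.plus_map (FiniteField.ringEquivOfCardEq (hF.trans (ZMod.card 2).symm)) 4)
  exact RRow.of_equiv e o82'

/-- **the symplectic groups** -/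
theorem row_psp (hI : SI) : RRowFor CPsp := psp_of hI s62

/-- **the orthogonal groups of plus type** -/
theorem row_plus (hI : SI) : RRowFor CPlus := plus_of hI o82

end Cfsg.Agent.RC.D1
end

-- part: RC/Fin
section
set_option linter.all false

/-!
# RC (S4576): the rows (helper1)
-/

set_option autoImplicit false

namespace Cfsg.Agent.RC

open Cfsg Cfsg.Agent.KM Cfsg.Agent.KM.Mu

theorem rows_of (h3 : B.BoxMain) (e6 : RRowFor CE6) (te6 : RRowFor CTe6) (tits : RRowFor CTits) (spor : RRowFor CSpor) :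
    RRows :=
  have : Fact (Nat.Prime 3) := ⟨Nat.prime_three⟩
  have hI : D2.SI := @D2.si_of Si.si
  have hC := A.boxC A.boxA A.boxD A.boxL
  { alt := rowAlt
    lie := Lie.rowLie
    psl := A.row_psl A.boxU A.boxA hC A.boxR
    psp := D1.row_psp hI
    psu := A.row_psu A.boxU A.boxA hC A.boxR
    oodd := D1.row_odd hI
    oplus := D1.row_plus hI
    ominus := D1.row_minus hI
    g2 := D2.row_g2 Si.si
    f4 := D2.f4_of Si.si X.f42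
    e6 := e6
    e7 := B.row_e7 Si.si B.boxTy h3
    e8 := B.row_e8 Si.si B.boxTy h3
    te6 := te6
    td4 := D2.row_td4 @hI
    sz := rowSz
    ree := rowRee
    tf4 := D2.row_tf4 Si.si
    tits := tits
    spor := spor }

end Cfsg.Agent.RC
end

-- part: RC/Fin2
section
set_option linter.all false

/-!
# RC (S4576): the theorem from the rows (helper1)
-/

set_option autoImplicit false

namespace Cfsg.Agent.RC

open Cfsg Cfsg.Agent.KM Cfsg.Agent.KM.Mu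

theorem rqi_of (R : RRows) {p : ℕ} [Fact p.Prime] (h : p ≠ 2) : RQi.{0} p :=
  R.rqi (fun _ _ _ _ => S0000.result) h (kmp_of_odd h)

end Cfsg.Agent.RC
end

-- part: KM/Mu/Sp/CtA
section
set_option linter.all false

/-!
# S4576, the sporadic rows: certificates (helper46; generator in `notes/RC`)
-/

set_option autoImplicit false
set_option maxRecDepth 100000

namespace Cfsg.Agent.KM.Mu.Sp

open Cfsg Cfsg.Agent.TAB Cfsg.Agent.TAB.Eng Cfsg.Agent.TAB.Use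
open Cfsg.Agent.TAB.Sm2 (mkRows)

theorem okJ3_3 : Ok TH.Spor.J3.dat TH.Spor.J3.tab [(3, 486), (8, 54)] [] [] [] [] false 3 4 2 :=
  ⟨⟨5, [5, 1, 3, 5, 1, 1, 1, 5, 3, 1, 1, 1, 1, 1], [0, 3, 3, 0, 3, 3, 3, 0, 3, 3, 3, 3, 3, 3], [(0, 5, [], .big 8 0 2
  1 3)]⟩, by decide +kernel⟩

theorem okMcL_3 : Ok McL.D McL.RR [(3, 1944), (11, 81)] [] [] [] [] false 3 4 2 :=
  ⟨⟨6, [6, 2, 6, 5, 1, 1, 0, 4, 4, 3, 0, 4, 1, 0, 4, 3, 3, 3], [0, 9, 0, 8, 9, 9, 9, 3, 3, 8, 9, 2, 9, 9, 3, 8, 8,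
  8], [(0, 6, [], .neg 1 1 5)]⟩, by decide +kernel⟩

private noncomputable def _root_.Cfsg.Agent.LsF.f35c442_0 : {f // @Cfsg.Agent.KM.Sp.rl = f} := ⟨_, by first | (delta Cfsg.Agent.KM.Sp.rl; rewrite [Cfsg.Agent.LsF.getD_eq]; exact rfl) | exact rfl⟩
private noncomputable def _root_.Cfsg.Agent.LsF.f35c442_1 : {f // @Cfsg.Agent.TAB.Use.Rows.n = f} := ⟨_, by first | (delta Cfsg.Agent.TAB.Use.Rows.n; rewrite [Cfsg.Agent.LsF.length_eq]; exact rfl) | exact rfl⟩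
private noncomputable def _root_.Cfsg.Agent.LsF.f35c442_2 : {f // @Cfsg.Agent.TAB.Use.Rows.d = f} := ⟨_, by first | (delta Cfsg.Agent.TAB.Use.Rows.d; rewrite [Cfsg.Agent.LsF.getD_eq]; exact rfl) | exact rfl⟩
private noncomputable def _root_.Cfsg.Agent.LsF.f35c442_3 : {f // @Cfsg.Agent.TAB.Eng.look = f} := ⟨_, by first | (delta Cfsg.Agent.TAB.Eng.look List.brecOn List.brecOn.go Cfsg.Agent.TAB.Eng.look._f; rewrite [Cfsg.Agent.LsF.instDecEq_eq, Cfsg.Agent.LsF.ite_eq]; (try delta Cfsg.Agent.TAB.Eng.look.match_1); (try delta List.casesOn); first | dsimp -zeta only | exact rfl) | exact rfl⟩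
private noncomputable def _root_.Cfsg.Agent.LsF.f35c442_4 : {f // @Cfsg.Agent.KM.Sp.cbd = f} := ⟨_, by first | (delta Cfsg.Agent.KM.Sp.cbd; rewrite [Cfsg.Agent.LsF.f35c442_0.2, Cfsg.Agent.LsF.f35c442_1.2, Cfsg.Agent.LsF.f35c442_2.2, Cfsg.Agent.LsF.f35c442_3.2, Cfsg.Agent.LsF.nmul_pat, Cfsg.Agent.LsF.ndiv_pat, Cfsg.Agent.LsF.dProdEq_eq, Cfsg.Agent.LsF.instDecEq_eq, Cfsg.Agent.LsF.decLt_eq, Cfsg.Agent.LsF.getD_eq, Cfsg.Agent.LsF.headD_eq, Cfsg.Agent.LsF.natAbs_eq, Cfsg.Agent.LsF.instIDecEq_eq, Cfsg.Agent.LsF.dAnd_eq, Cfsg.Agent.LsF.dNot_eq, Cfsg.Agent.LsF.dListEq_eq, Cfsg.Agent.LsF.ite_eq]; exact rfl) | exact rfl⟩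
private noncomputable def _root_.Cfsg.Agent.LsF.f35c442_5 : {f // @Cfsg.Agent.KM.Sp.ubB = f} := ⟨_, by first | (delta Cfsg.Agent.KM.Sp.ubB; rewrite [Cfsg.Agent.LsF.f35c442_4.2, Cfsg.Agent.LsF.nadd_pat, Cfsg.Agent.LsF.nmod_pat, Cfsg.Agent.LsF.npow_pat, Cfsg.Agent.LsF.nbne_pat, Cfsg.Agent.LsF.all_eq, Cfsg.Agent.LsF.range_eq, Cfsg.Agent.LsF.getD_eq]; exact rfl) | exact rfl⟩
private noncomputable def _root_.Cfsg.Agent.LsF.f35c442_6 : {f // @Cfsg.Agent.TAB.Eng.Dat.ord = f} := ⟨_, by first | (delta Cfsg.Agent.TAB.Eng.Dat.ord; rewrite [Cfsg.Agent.LsF.getD_eq]; exact rfl) | exact rfl⟩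
private noncomputable def _root_.Cfsg.Agent.LsF.f35c442_7 : {f // @Cfsg.Agent.TAB.Eng.Dat.pw = f} := ⟨_, by first | (delta Cfsg.Agent.TAB.Eng.Dat.pw; rewrite [Cfsg.Agent.LsF.getD_eq]; exact rfl) | exact rfl⟩
private noncomputable def _root_.Cfsg.Agent.LsF.f35c442_8 : {f // @Cfsg.Agent.TAB.Eng.Dat.pwf = f} := ⟨_, by first | (delta Cfsg.Agent.TAB.Eng.Dat.pwf; rewrite [Cfsg.Agent.LsF.f35c442_3.2, Cfsg.Agent.LsF.f35c442_7.2, Cfsg.Agent.LsF.f35c442_6.2]; exact rfl) | exact rfl⟩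
private noncomputable def _root_.Cfsg.Agent.LsF.f35c442_9 : {f // @Cfsg.Agent.KM.Mu.Sp.ltB = f} := ⟨_, by first | (delta Cfsg.Agent.KM.Mu.Sp.ltB; rewrite [Cfsg.Agent.LsF.f35c442_7.2, Cfsg.Agent.LsF.f35c442_8.2, Cfsg.Agent.LsF.decLt_eq, Cfsg.Agent.LsF.any_eq, Cfsg.Agent.LsF.getD_eq, Cfsg.Agent.LsF.decide_eq]; exact rfl) | exact rfl⟩
private noncomputable def _root_.Cfsg.Agent.LsF.f35c442_10 : {f // @Cfsg.Agent.TAB.Eng.Dat.cnt = f} := ⟨_, by first | (delta Cfsg.Agent.TAB.Eng.Dat.cnt; rewrite [Cfsg.Agent.LsF.getD_eq]; exact rfl) | exact rfl⟩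
private noncomputable def _root_.Cfsg.Agent.LsF.f35c442_11 : {f // @Cfsg.Agent.KM.Sp.cbg = f} := ⟨_, by first | (delta Cfsg.Agent.KM.Sp.cbg; rewrite [Cfsg.Agent.LsF.f35c442_4.2, Cfsg.Agent.LsF.foldr_eq]; exact rfl) | exact rfl⟩
private noncomputable def _root_.Cfsg.Agent.LsF.f35c442_12 : {f // @Cfsg.Agent.KM.Sp.lbB = f} := ⟨_, by first | (delta Cfsg.Agent.KM.Sp.lbB; rewrite [Cfsg.Agent.LsF.f35c442_10.2, Cfsg.Agent.LsF.f35c442_11.2, Cfsg.Agent.LsF.nmul_pat, Cfsg.Agent.LsF.nsub_pat, Cfsg.Agent.LsF.ndiv_pat, Cfsg.Agent.LsF.npow_pat, Cfsg.Agent.LsF.decLt_eq, Cfsg.Agent.LsF.decide_eq]; exact rfl) | exact rfl⟩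
private noncomputable def _root_.Cfsg.Agent.LsF.f35c442_13 : {f // @Cfsg.Agent.KM.Sp.psi = f} := ⟨_, by first | (delta Cfsg.Agent.KM.Sp.psi; rewrite [Cfsg.Agent.LsF.f35c442_0.2, Cfsg.Agent.LsF.imul_pat, Cfsg.Agent.LsF.map_eq, Cfsg.Agent.LsF.sum_eq, Cfsg.Agent.LsF.getD_eq, Cfsg.Agent.LsF.instIAdd_eq]; exact rfl) | exact rfl⟩
private noncomputable def _root_.Cfsg.Agent.LsF.f35c442_14 : {f // @Cfsg.Agent.KM.Mu.Sp.badB = f} := ⟨_, by first | (delta Cfsg.Agent.KM.Mu.Sp.badB; rewrite [Cfsg.Agent.LsF.f35c442_7.2, Cfsg.Agent.LsF.f35c442_8.2, Cfsg.Agent.LsF.instNBEq_pat, Cfsg.Agent.LsF.or_eq, Cfsg.Agent.LsF.decLt_eq, Cfsg.Agent.LsF.any_eq, Cfsg.Agent.LsF.contains_eq, Cfsg.Agent.LsF.getD_eq, Cfsg.Agent.LsF.decide_eq]; exact rfl) | exact rfl⟩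
private noncomputable def _root_.Cfsg.Agent.LsF.f35c442_15 : {f // @Cfsg.Agent.KM.Mu.Sp.congB = f} := ⟨_, by first | (delta Cfsg.Agent.KM.Mu.Sp.congB; rewrite [Cfsg.Agent.LsF.f35c442_0.2, Cfsg.Agent.LsF.f35c442_1.2, Cfsg.Agent.LsF.f35c442_13.2, Cfsg.Agent.LsF.f35c442_3.2, Cfsg.Agent.LsF.f35c442_8.2, Cfsg.Agent.LsF.f35c442_6.2, Cfsg.Agent.LsF.f35c442_14.2, Cfsg.Agent.LsF.nmod_pat, Cfsg.Agent.LsF.npow_pat, Cfsg.Agent.LsF.nbne_pat, Cfsg.Agent.LsF.isub_pat, Cfsg.Agent.LsF.imod_pat, Cfsg.Agent.LsF.icast_pat, Cfsg.Agent.LsF.ibeq_pat, Cfsg.Agent.LsF.instIBEq_pat, Cfsg.Agent.LsF.and_eq, Cfsg.Agent.LsF.or_eq, Cfsg.Agent.LsF.decLt_eq, Cfsg.Agent.LsF.all_eq, Cfsg.Agent.LsF.range_eq, Cfsg.Agent.LsF.bne_eq, Cfsg.Agent.LsF.decide_eq]; exact rfl) | exact rfl⟩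
private noncomputable def _root_.Cfsg.Agent.LsF.f35c442_16 : {f // @Cfsg.Agent.KM.Mu.Sp.ovB = f} := ⟨_, by first | (delta Cfsg.Agent.KM.Mu.Sp.ovB; rewrite [Cfsg.Agent.LsF.f35c442_10.2, Cfsg.Agent.LsF.f35c442_8.2, Cfsg.Agent.LsF.f35c442_6.2, Cfsg.Agent.LsF.npow_pat, Cfsg.Agent.LsF.nbeq_pat, Cfsg.Agent.LsF.nbne_pat, Cfsg.Agent.LsF.instNBEq_pat, Cfsg.Agent.LsF.and_eq, Cfsg.Agent.LsF.or_eq, Cfsg.Agent.LsF.decLt_eq, Cfsg.Agent.LsF.contains_eq, Cfsg.Agent.LsF.decide_eq]; exact rfl) | exact rfl⟩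
private noncomputable def _root_.Cfsg.Agent.LsF.f35c442_17 : {f // @Cfsg.Agent.KM.Mu.Sp.rowB = f} := ⟨_, by first | (delta Cfsg.Agent.KM.Mu.Sp.rowB; rewrite [Cfsg.Agent.LsF.f35c442_0.2, Cfsg.Agent.LsF.f35c442_1.2, Cfsg.Agent.LsF.dProdEq_eq, Cfsg.Agent.LsF.and_eq, Cfsg.Agent.LsF.instDecEq_eq, Cfsg.Agent.LsF.decLt_eq, Cfsg.Agent.LsF.instIDecEq_eq, Cfsg.Agent.LsF.dListEq_eq, Cfsg.Agent.LsF.decide_eq]; exact rfl) | exact rfl⟩
private noncomputable def _root_.Cfsg.Agent.LsF.f35c442_18 : {f // @Cfsg.Agent.KM.Mu.Sp.negB = f} := ⟨_, by first | (delta Cfsg.Agent.KM.Mu.Sp.negB; rewrite [Cfsg.Agent.LsF.f35c442_17.2, Cfsg.Agent.LsF.f35c442_6.2, Cfsg.Agent.LsF.f35c442_0.2, Cfsg.Agent.LsF.f35c442_14.2, Cfsg.Agent.LsF.nmod_pat, Cfsg.Agent.LsF.npow_pat, Cfsg.Agent.LsF.nbne_pat, Cfsg.Agent.LsF.iadd_pat, Cfsg.Agent.LsF.imul_pat, Cfsg.Agent.LsF.icast_pat, Cfsg.Agent.LsF.and_eq,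 Cfsg.Agent.LsF.or_eq, Cfsg.Agent.LsF.instDecEq_eq, Cfsg.Agent.LsF.all_eq, Cfsg.Agent.LsF.range_eq, Cfsg.Agent.LsF.getD_eq, Cfsg.Agent.LsF.idecLe_eq, Cfsg.Agent.LsF.idecLt_eq, Cfsg.Agent.LsF.ite_eq, Cfsg.Agent.LsF.decide_eq]; exact rfl) | exact rfl⟩
private noncomputable def _root_.Cfsg.Agent.LsF.f35c442_19 : {f // @Cfsg.Agent.KM.Mu.Sp.vanB = f} := ⟨_, by first | (delta Cfsg.Agent.KM.Mu.Sp.vanB; rewrite [Cfsg.Agent.LsF.f35c442_1.2, Cfsg.Agent.LsF.f35c442_2.2, Cfsg.Agent.LsF.f35c442_17.2, Cfsg.Agent.LsF.f35c442_0.2, Cfsg.Agent.LsF.nsub_pat, Cfsg.Agent.LsF.nmod_pat, Cfsg.Agent.LsF.npow_pat, Cfsg.Agent.LsF.nbeq_pat, Cfsg.Agent.LsF.nbne_pat, Cfsg.Agent.LsF.ibeq_pat, Cfsg.Agent.LsF.and_eq, Cfsg.Agent.LsF.or_eq, Cfsg.Agent.LsF.all_eq, Cfsg.Agent.LsF.any_eq, Cfsg.Agent.LsF.range_eq, Cfsg.Agent.LsF.getD_eq]; exact rfl) | exact rfl⟩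
private noncomputable def _root_.Cfsg.Agent.LsF.f35c442_20 : {f // @Cfsg.Agent.KM.Mu.Sp.mtB = f} := ⟨_, by first | (delta Cfsg.Agent.KM.Mu.Sp.mtB; rewrite [Cfsg.Agent.LsF.f35c442_15.2, Cfsg.Agent.LsF.f35c442_8.2, Cfsg.Agent.LsF.f35c442_16.2, Cfsg.Agent.LsF.f35c442_14.2, Cfsg.Agent.LsF.f35c442_9.2, Cfsg.Agent.LsF.f35c442_18.2, Cfsg.Agent.LsF.f35c442_6.2, Cfsg.Agent.LsF.f35c442_4.2, Cfsg.Agent.LsF.f35c442_19.2, Cfsg.Agent.LsF.nadd_pat, Cfsg.Agent.LsF.nmul_pat, Cfsg.Agent.LsF.nmod_pat, Cfsg.Agent.LsF.npow_pat, Cfsg.Agent.LsF.nbeq_pat, Cfsg.Agent.LsF.nbne_pat, Cfsg.Agent.LsF.and_eq, Cfsg.Agent.LsF.decLt_eq, Cfsg.Agent.LsF.decide_eq]; (try delta Cfsg.Agent.KM.Mu.Sp.mtB.match_1); (try delta Cfsg.Agent.KM.Mu.Sp.Mt.casesOn); exact rfl) | exact rfl⟩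
private noncomputable def _root_.Cfsg.Agent.LsF.f35c442_21 : {f // @Cfsg.Agent.KM.Mu.Sp.chk = f} := ⟨_, by first | (delta Cfsg.Agent.KM.Mu.Sp.chk; rewrite [Cfsg.Agent.LsF.f35c442_5.2, Cfsg.Agent.LsF.f35c442_6.2, Cfsg.Agent.LsF.f35c442_9.2, Cfsg.Agent.LsF.f35c442_12.2, Cfsg.Agent.LsF.f35c442_20.2, Cfsg.Agent.LsF.nadd_pat, Cfsg.Agent.LsF.nmod_pat, Cfsg.Agent.LsF.npow_pat, Cfsg.Agent.LsF.nbeq_pat, Cfsg.Agent.LsF.nbne_pat, Cfsg.Agent.LsF.instNBEq_pat, Cfsg.Agent.LsF.lappend_pat, Cfsg.Agent.LsF.and_eq, Cfsg.Agent.LsF.or_eq, Cfsg.Agent.LsF.instDecEq_eq, Cfsg.Agent.LsF.decLe_eq, Cfsg.Agent.LsF.all_eq, Cfsg.Agent.LsF.any_eq, Cfsg.Agent.LsF.contains_eq, Cfsg.Agent.LsF.range_eq, Cfsg.Agent.LsF.ite_eq, Cfsg.Agent.LsF.decide_eq]; exact rfl) | exact rfl⟩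
private noncomputable def _root_.Cfsg.Agent.LsF.f35c442_22 : {f // @Cfsg.Agent.TAB.Sm2.rw' = f} := ⟨_, by first | (delta Cfsg.Agent.TAB.Sm2.rw'; rewrite [Cfsg.Agent.LsF.lappend_pat, Cfsg.Agent.LsF.getD_eq]; exact rfl) | exact rfl⟩
private noncomputable def _root_.Cfsg.Agent.LsF.f35c442_23 : {f // @Cfsg.Agent.TAB.Sm2.wt = f} := ⟨_, by first | (delta Cfsg.Agent.TAB.Sm2.wt; rewrite [Cfsg.Agent.LsF.f35c442_22.2, Cfsg.Agent.LsF.imul_pat, Cfsg.Agent.LsF.decLt_eq, Cfsg.Agent.LsF.length_eq, Cfsg.Agent.LsF.ite_eq]; exact rfl) | exact rfl⟩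
private noncomputable def _root_.Cfsg.Agent.LsF.f35c442_24 : {f // @Cfsg.Agent.TAB.Sm2.ro = f} := ⟨_, by first | (delta Cfsg.Agent.TAB.Sm2.ro; rewrite [Cfsg.Agent.LsF.nadd_pat, Cfsg.Agent.LsF.nsub_pat, Cfsg.Agent.LsF.ndiv_pat, Cfsg.Agent.LsF.decLt_eq, Cfsg.Agent.LsF.length_eq, Cfsg.Agent.LsF.ite_eq]; exact rfl) | exact rfl⟩
private noncomputable def _root_.Cfsg.Agent.LsF.f35c442_25 : {f // @Cfsg.Agent.TAB.Sm2.mkRows = f} := ⟨_, by first | (delta Cfsg.Agent.TAB.Sm2.mkRows; rewrite [Cfsg.Agent.LsF.f35c442_23.2, Cfsg.Agent.LsF.f35c442_24.2, Cfsg.Agent.LsF.f35c442_22.2, Cfsg.Agent.LsF.nadd_pat, Cfsg.Agent.LsF.nmul_pat, Cfsg.Agent.LsF.ndiv_pat, Cfsg.Agent.LsF.lappend_pat, Cfsg.Agent.LsF.map_eq, Cfsg.Agent.LsF.range_eq, Cfsg.Agent.LsF.toNat_eq, Cfsg.Agent.LsF.length_eq]; exact rfl) | exact rfl⟩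
theorem okCo2_3 : Ok Co2.D (mkRows Co2.A Co2.B) [(28, 324)] [] [] [] [] true 3 5 3 :=
  ⟨⟨6, [6, 4, 2, 2, 6, 5, 3, 1, 2, 1, 1, 1, 0, 1, 1, 4, 5, 3, 3, 2, 2, 0, 1, 1, 0, 0, 0, 0, 4, 1, 1, 0, 0, 4, 2, 4,
  2, 1, 3, 1, 3, 0, 0, 1, 4, 0, 0, 6, 0, 0, 0, 1, 3, 0, 1, 4], [0, 20, 14, 14, 0, 14, 14, 14, 14, 20, 14, 20, 28, 20,
  14, 6, 6, 14, 14, 14, 14, 20, 20, 14, 20, 20, 20, 20, 6, 42, 14, 20, 51, 40, 14, 6, 14, 14, 40, 14, 40, 20, 20, 14,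
  6, 20, 20, 0, 20, 20, 48, 14, 40, 20, 14, 6], [(0, 6, [], .neg 1 1 4)]⟩, by ((try (rewrite [Cfsg.Agent.LsF.f35c442_21.2, Cfsg.Agent.LsF.f35c442_25.2])); decide +kernel)⟩

theorem okCo3_3 : Ok Co3.D (mkRows Co3.A Co3.B) [(1, 2903040), (4, 29160), (20, 81)] [] [] [] [] true 3 5 3 :=
  ⟨⟨7, [7, 4, 3, 7, 6, 4, 3, 2, 2, 2, 5, 5, 6, 6, 2, 1, 2, 2, 1, 7, 4, 3, 1, 1, 4, 3, 5, 1, 3, 5, 7, 3, 1, 1, 1, 3,
  3, 3], [0, 20, 22, 0, 12, 22, 22, 22, 23, 23, 12, 12, 16, 16, 22, 22, 22, 22, 22, 0, 8, 12, 23, 22, 12, 12, 8, 22,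
  12, 8, 0, 12, 22, 22, 22, 12, 12, 12], [(0, 7, [], .neg 1 1 1)]⟩, by ((try (rewrite [Cfsg.Agent.LsF.f35c442_21.2, Cfsg.Agent.LsF.f35c442_25.2])); decide +kernel)⟩

private noncomputable def _root_.Cfsg.Agent.LsF.f35c442_26 : {f // @Cfsg.Agent.TAB.Co1.RR = f} := ⟨_, by first | (delta Cfsg.Agent.TAB.Co1.RR; rewrite [Cfsg.Agent.LsF.f35c442_25.2]; exact rfl) | exact rfl⟩
theorem okCo1_3 : Ok Co1.D Co1.RR [] [] [6] [] [0] false 3 4 2 :=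
  ⟨⟨9, [9, 5, 3, 3, 8, 8, 9, 5, 4, 3, 2, 2, 3, 1, 3, 2, 1, 5, 3, 6, 7, 4, 6, 4, 2, 2, 2, 1, 2, 1, 2, 0, 2, 2, 9, 9,
  9, 1, 1, 1, 1, 1, 0, 2, 3, 3, 2, 5, 3, 3, 3, 2, 4, 3, 4, 3, 1, 2, 2, 1, 3, 2, 2, 2, 3, 0, 0, 8, 8, 8, 1, 0, 0, 2,
  2, 1, 2, 0, 2, 2, 2, 2, 2, 3, 1, 1, 1, 2, 1, 2, 3, 2, 2, 1, 7, 2, 0, 2, 2], [0, 24, 17, 37, 17, 24, 0, 37, 24, 33,
  96, 24, 17, 37, 17, 24, 96, 24, 17, 24, 9, 24, 90, 24, 37, 37, 24, 37, 24, 96, 24, 96, 35, 37, 0, 0, 0, 96, 96, 37,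
  96, 96, 96, 24, 24, 24, 24, 90, 24, 17, 24, 24, 90, 24, 90, 17, 37, 35, 24, 37, 17, 24, 37, 24, 90, 96, 96, 1, 1,
  1, 96, 96, 96, 24, 24, 37, 33, 96, 24, 24, 24, 35, 24, 90, 64, 37, 64, 24, 37, 24, 90, 24, 24, 37, 7, 35, 96, 24,
  24], [(1, 5, [51], .cong 1 [(1, 1)] [(1, 5)]), (8, 4, [], .cong 1 [(1, 0)] [])]⟩, by ((try (rewrite [Cfsg.Agent.LsF.f35c442_21.2, Cfsg.Agent.LsF.f35c442_26.2])); decide +kernel)⟩

private noncomputable def _root_.Cfsg.Agent.LsF.f35c442_27 : {f // @Cfsg.Agent.TAB.Ly.dz = f} := ⟨_, by first | (delta Cfsg.Agent.TAB.Ly.dz; rewrite [Cfsg.Agent.LsF.ndiv_pat, Cfsg.Agent.LsF.nmod_pat, Cfsg.Agent.LsF.ineg_pat, Cfsg.Agent.LsF.icast_pat, Cfsg.Agent.LsF.instDecEq_eq, Cfsg.Agent.LsF.ite_eq]; exact rfl) | exact rfl⟩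
private noncomputable def _root_.Cfsg.Agent.LsF.f35c442_28 : {f // @Cfsg.Agent.TAB.Ly.rows = f} := ⟨_, by first | (delta Cfsg.Agent.TAB.Ly.rows; rewrite [Cfsg.Agent.LsF.f35c442_27.2, Cfsg.Agent.LsF.map_eq]; exact rfl) | exact rfl⟩
private noncomputable def _root_.Cfsg.Agent.LsF.f35c442_29 : {f // @Cfsg.Agent.TAB.Ly.tb = f} := ⟨_, by first | (delta Cfsg.Agent.TAB.Ly.tb; rewrite [Cfsg.Agent.LsF.f35c442_28.2, Cfsg.Agent.LsF.zip_eq]; exact rfl) | exact rfl⟩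
theorem okLy_3 : Ok Ly.dat Ly.tb [(13, 324)] [] [] [] [] true 3 6 4 :=
  ⟨⟨7, [7, 4, 7, 7, 2, 2, 1, 3, 5, 6, 1, 1, 2, 4, 2, 1, 1, 2, 4, 1, 2, 4, 1, 7, 1, 1, 1, 1, 5, 1, 1, 2, 4, 5, 1, 1,
  1, 1, 1], [0, 5, 0, 0, 5, 5, 5, 5, 22, 4, 13, 5, 24, 3, 5, 5, 5, 5, 22, 13, 5, 22, 5, 0, 5, 13, 5, 5, 4, 5, 5, 5,
  22, 8, 5, 5, 5, 13, 13], [(0, 6, [], .kill 13 0)]⟩, by ((try (rewrite [Cfsg.Agent.LsF.f35c442_21.2, Cfsg.Agent.LsF.f35c442_29.2])); decide +kernel)⟩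

theorem okLy_5 : Ok Ly.dat Ly.tb [(29, 500)] [] [] [] [] true 5 5 3 :=
  ⟨⟨6, [6, 2, 3, 1, 1, 6, 6, 1, 1, 0, 0, 1, 0, 0, 4, 5, 0, 0, 0, 0, 4, 3, 5, 0, 3, 0, 0, 0, 0, 3, 0, 3, 3, 0, 0, 0,
  3, 0, 0], [0, 20, 25, 20, 20, 0, 0, 20, 25, 20, 20, 20, 20, 20, 4, 3, 20, 20, 25, 20, 4, 4, 3, 27, 4, 20, 25, 20,
  25, 3, 20, 4, 4, 20, 20, 27, 4, 20, 25], [(0, 5, [], .kill 29 0)]⟩, by ((try (rewrite [Cfsg.Agent.LsF.f35c442_21.2, Cfsg.Agent.LsF.f35c442_29.2])); decide +kernel)⟩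

private noncomputable def _root_.Cfsg.Agent.LsF.f35c442_30 : {f // @Cfsg.Agent.TAB.HN.dz = f} := ⟨_, by first | (delta Cfsg.Agent.TAB.HN.dz; rewrite [Cfsg.Agent.LsF.ndiv_pat, Cfsg.Agent.LsF.nmod_pat, Cfsg.Agent.LsF.ineg_pat, Cfsg.Agent.LsF.icast_pat, Cfsg.Agent.LsF.instDecEq_eq, Cfsg.Agent.LsF.ite_eq]; exact rfl) | exact rfl⟩
private noncomputable def _root_.Cfsg.Agent.LsF.f35c442_31 : {f // @Cfsg.Agent.TAB.HN.rr = f} := ⟨_, by first | (delta Cfsg.Agent.TAB.HN.rr; rewrite [Cfsg.Agent.LsF.f35c442_30.2, Cfsg.Agent.LsF.map_eq]; exact rfl) | exact rfl⟩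
private noncomputable def _root_.Cfsg.Agent.LsF.f35c442_32 : {f // @Cfsg.Agent.TAB.HN.rows = f} := ⟨_, by first | (delta Cfsg.Agent.TAB.HN.rows; rewrite [Cfsg.Agent.LsF.f35c442_31.2, Cfsg.Agent.LsF.zip_eq]; exact rfl) | exact rfl⟩
theorem okHN_3 : Ok HN.dat HN.rows [(18, 27)] [] [] [] [] true 3 4 2 :=
  ⟨⟨6, [6, 2, 2, 5, 6, 1, 2, 1, 2, 0, 1, 0, 2, 2, 4, 1, 0, 0, 3, 0, 1, 0, 1, 0, 0, 0, 2, 1, 4, 0, 2, 3, 0, 0, 0, 0,
  1, 0, 0, 1, 3, 0, 0], [0, 5, 16, 5, 0, 16, 5, 36, 5, 33, 33, 36, 5, 16, 6, 16, 41, 41, 5, 33, 16, 36, 36, 33, 36,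
  33, 5, 16, 6, 33, 5, 31, 33, 36, 41, 36, 16, 33, 33, 16, 31, 33, 41], [(0, 4, [], .van 18 0 2 1 [5, 7, 13, 22, 23,
  26, 32, 38, 39])]⟩, by ((try (rewrite [Cfsg.Agent.LsF.f35c442_21.2, Cfsg.Agent.LsF.f35c442_32.2])); decide +kernel)⟩

theorem okHN_5 : Ok HN.dat HN.rows [(38, 250)] [] [] [] [] true 5 5 3 :=
  ⟨⟨6, [6, 3, 2, 1, 1, 1, 1, 1, 4, 6, 6, 6, 1, 0, 1, 1, 1, 0, 0, 4, 2, 4, 5, 5, 5, 0, 0, 0, 0, 0, 1, 5, 1, 3, 1, 5,
  0, 0, 3, 1, 5, 1, 1], [0, 17, 29, 17, 29, 29, 17, 37, 17, 0, 0, 0, 17, 29, 37, 17, 17, 37, 29, 14, 17, 14, 2, 2, 2,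
  29, 37, 29, 37, 29, 17, 2, 32, 14, 17, 5, 29, 29, 2, 17, 2, 17, 17], [(0, 5, [], .kill 38 0)]⟩, by ((try (rewrite [Cfsg.Agent.LsF.f35c442_21.2, Cfsg.Agent.LsF.f35c442_32.2])); decide +kernel)⟩

theorem okTh_3 : Ok Th.D (mkRows Th.rowA Th.rowB) [(16, 972)] [] [] [] [] true 3 7 5 :=
  ⟨⟨10, [10, 4, 7, 10, 10, 3, 1, 1, 8, 3, 7, 1, 1, 1, 10, 10, 5, 1, 2, 6, 7, 1, 0, 7, 9, 9, 0, 0, 1, 1, 7, 10, 10, 0,
  7, 0, 8, 8, 1], [0, 12, 12, 0, 0, 12, 23, 23, 16, 12, 27, 12, 12, 23, 0, 0, 10, 23, 12, 27, 16, 12, 23, 16, 9, 9,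
  29, 23, 12, 12, 22, 0, 0, 23, 16, 23, 10, 10, 12], [(0, 7, [], .kill 16 0)]⟩, by ((try (rewrite [Cfsg.Agent.LsF.f35c442_21.2, Cfsg.Agent.LsF.f35c442_25.2])); decide +kernel)⟩

private noncomputable def _root_.Cfsg.Agent.LsF.f35c442_33 : {f // @Cfsg.Agent.TAB.F23.R = f} := ⟨_, by first | (delta Cfsg.Agent.TAB.F23.R; rewrite [Cfsg.Agent.LsF.zip_eq]; exact rfl) | exact rfl⟩
theorem okFi23_3 : Ok F23.D F23.R [(4, 1889568), (33, 34992), (34, 8748), (35, 104976), (91, 559872)] [] [] [] [] true 3 7 5 :=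
  ⟨⟨13, [13, 5, 6, 9, 10, 12, 13, 10, 2, 2, 4, 4, 2, 11, 10, 10, 8, 8, 8, 8, 4, 8, 10, 9, 10, 5, 7, 1, 1, 1, 1, 13,
  12, 7, 7, 8, 1, 1, 1, 0, 8, 6, 7, 7, 7, 3, 2, 10, 6, 7, 2, 7, 7, 3, 7, 1, 0, 1, 2, 6, 0, 0, 12, 10, 11, 11, 10, 11,
  11, 11, 0, 1, 1, 0, 0, 1, 1, 1, 5, 1, 13, 1, 1, 1, 6, 0, 10, 10, 1, 1, 1, 7], [0, 60, 60, 60, 19, 19, 0, 60, 81,
  60, 81, 60, 60, 5, 32, 32, 19, 19, 19, 19, 60, 19, 19, 19, 19, 60, 60, 60, 81, 60, 60, 0, 5, 19, 5, 5, 81, 60, 60,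
  81, 62, 19, 19, 19, 19, 60, 60, 25, 54, 19, 60, 19, 54, 60, 19, 60, 81, 60, 60, 19, 81, 81, 2, 5, 5, 5, 5, 5, 43,
  25, 81, 60, 60, 81, 81, 71, 60, 60, 54, 60, 0, 60, 60, 60, 19, 81, 5, 25, 60, 60, 60, 53], [(0, 13, [], .neg 2 2
  57), (3, 8, [1], .cong 1 [(1, 1)] [(3, 240), (22, 3)])]⟩, by ((try (rewrite [Cfsg.Agent.LsF.f35c442_21.2, Cfsg.Agent.LsF.f35c442_33.2])); decide +kernel)⟩

theorem okSuz_3 : Ok Sz.dat (mkRows Sz.rowA Sz.rowB) [(4, 34992), (20, 54), (21, 18)] [] [] [1] [] false 3 4 2 :=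
  ⟨⟨7, [7, 4, 2, 5, 7, 1, 4, 2, 4, 1, 1, 1, 1, 1, 1, 2, 2, 1, 2, 2, 3, 2, 2, 2, 1, 1, 4, 1, 3, 1, 1, 2, 6, 1, 2, 2,
  7], [0, 11, 11, 6, 0, 11, 10, 11, 6, 11, 11, 11, 11, 11, 11, 10, 30, 11, 10, 10, 3, 1, 10, 10, 11, 11, 6, 11, 11,
  11, 11, 10, 6, 11, 10, 11, 0], [(0, 7, [], .big 20 0 2 1 10), (1, 4, [], .kill 21 0)]⟩, by ((try (rewrite [Cfsg.Agent.LsF.f35c442_21.2, Cfsg.Agent.LsF.f35c442_25.2])); decide +kernel)⟩

end Cfsg.Agent.KM.Mu.Sp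
end

-- part: KM/Mu/Sp/RowB
section
set_option linter.all false
open scoped Cfsg.Agent.FastGrp

-- part: KM/Mu/Sp/RowA
section
/-!
# S4576, the sporadic rows: the rows which follow from the tables alone (helper46)
-/

set_option autoImplicit false
set_option maxRecDepth 100000
set_option linter.unusedSectionVars false

namespace Cfsg.Agent.KM.Mu.Sp

open Cfsg Subgroup Cfsg.Agent.BHZ.Spor Cfsg.Agent.TAB Cfsg.Agent.TAB.Eng Cfsg.Agent.TAB.Use Cfsg.Agent.PQ.Spor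
open Cfsg.Agent.NotCT Cfsg.Agent.KM.Sp

variable {S : Type} [Group S] [Finite S] [Fact (Nat.Prime 3)] [Fact (Nat.Prime 5)]

theorem nil_qf {D : Dat} {T : TD S D} {Q : S → Prop} (s : S) (h : T.ty s ∈ ([] : List ℕ)) : Q s :=
  absurd h List.not_mem_nil

theorem j3_3 (h : Spor.IsoJ3 S) : RRow 3 S := by
  obtain ⟨T, h1, h2, h3⟩ := TH.Spor.J3.exists_tab h
  exact okJ3_3.rrow (Hy.of_rat h1 h2 h3 _ (by decide +kernel)) RatL.nil nil_qf nil_qf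

theorem mcl_3 (h : Spor.IsoMcL S) : RRow 3 S := by
  obtain ⟨e⟩ := h
  obtain ⟨f⟩ := H359.CT.McL.iso_K0
  obtain ⟨T, h1, h2, h3, -⟩ := McL.tabK
  have := Finite.of_equiv S (e.trans f.symm).toEquiv
  exact RRow.of_equiv (e.trans f.symm)
    (okMcL_3.rrow (Hy.of_rat h1 h2 h3 _ (by decide +kernel)) RatL.nil nil_qf nil_qf)

theorem co2_3 (h : Spor.IsoCo2 S) : RRow 3 S := by
  obtain ⟨e⟩ := h
  have := Co2.finite
  obtain ⟨T, hm, hr, -, hs⟩ := Co2.str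
  refine RRow.of_equiv e (okCo2_3.rrow_one S2044.result (Hy.of_rat hm (fun g h e => ?_) (Co.tab_of_virt hm Co2.ok_one
    (Co.virt_of_certs hm.1 Co2.ok_primes hs (allL_spec Co2.ok_certs) Co2.ok_all) Co2.ok_rows).2 _ (by decide +kernel))
    RatL.nil 6 (by decide +kernel) nil_qf nil_qf)
  rcases hr g h e with h1 | ⟨-, h1⟩
  · exact ⟨1, (pow_one g).symm ▸ h1⟩
  · have h2 : g ^ (orderOf g - 1) = g⁻¹ := eq_inv_of_mul_eq_one_left (by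
      rw [← pow_succ, Nat.sub_add_cancel (orderOf_pos g), pow_orderOf_eq_one])
    exact ⟨_, h2 ▸ h1⟩

theorem co3_3 (h : Spor.IsoCo3 S) : RRow 3 S := by
  obtain ⟨e⟩ := h
  have := Co3.finite
  obtain ⟨T, hm, hT⟩ := tCo3
  have h1 := TH.Spor.one_of_split hT hm [(23, 33, 2), (31, 31, 1), (33, 33, 1), (34, 34, 1)] (L := [1, 4, 20])
    (by decide +kernel)
  exact RRow.of_equiv e (okCo3_3.rrow_one S2045.result (Hy.of_one hm hT _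
    (fun e he _ _ => (h1 _ (List.mem_map_of_mem (f := Prod.fst) he)).conj hm) (by decide +kernel))
    RatL.nil 7 (by decide +kernel) nil_qf nil_qf)

theorem ly_35 (h : Spor.IsoLy S) : RRow 3 S ∧ RRow 5 S := by
  obtain ⟨e⟩ := h
  have := Finite.of_equiv S e.toEquiv
  obtain ⟨T, h1, h2, h3⟩ := Ly.tab
  exact ⟨RRow.of_equiv e (okLy_3.rrow_one S2050.result (Hy.of_rat h1 h2 h3 _ (by decide +kernel)) RatL.nil 7
    (by decide +kernel) nil_qf nil_qf), RRow.of_equiv e (okLy_5.rrow_one S2050.result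
    (Hy.of_rat h1 h2 h3 _ (by decide +kernel)) RatL.nil 6 (by decide +kernel) nil_qf nil_qf)⟩

theorem hn_35 (h : Spor.IsoHN S) : RRow 3 S ∧ RRow 5 S := by
  obtain ⟨e⟩ := h
  have := Finite.of_equiv S e.toEquiv
  refine ⟨RRow.of_equiv e (okHN_3.rrow_one S2056.result ⟨HN.inT.mass, HN.tab, List.forall_mem_singleton.2 fun g hg => ?_⟩
    RatL.nil 6 (by decide +kernel) nil_qf nil_qf), RRow.of_equiv e (okHN_5.rrow_one S2056.result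
    (Hy.of_rat HN.inT.mass HN.inT.rat HN.tab _ (by decide +kernel)) RatL.nil 6 (by decide +kernel) nil_qf nil_qf)⟩
  rw [HN.cent_eq g (by rw [hg]; decide), hg]
  decide

theorem th_3 (h : Spor.IsoTh S) : RRow 3 S := by
  obtain ⟨e⟩ := h
  have := Finite.of_equiv S e.toEquiv
  obtain ⟨T, h1, h2, -, -, h3⟩ := Th.tab
  exact RRow.of_equiv e (okTh_3.rrow_one S2057.result (Hy.of_rat h1 h2 h3 _ (by decide +kernel)) RatL.nil 10
    (by decide +kernel) nil_qf nil_qf)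

theorem fi23_3 (h : Spor.IsoFi23 S) : RRow 3 S := by
  obtain ⟨e⟩ := h
  have := Finite.of_equiv S e.toEquiv
  obtain ⟨T, h1⟩ := F23C.inF23
  exact RRow.of_equiv e (okFi23_3.rrow_one S2054.result (Hy.of_rat h1.1 h1.2.1 (F23.tab_of h1) _ (by decide +kernel))
    RatL.nil 13 (by decide +kernel) nil_qf nil_qf)

end Cfsg.Agent.KM.Mu.Sp
end

-- part: KM/Mu/Sp/RowB
section
/-!
# S4576, the sporadic rows: `Suz` and `Fi22` (helper46)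
-/

set_option autoImplicit false
set_option maxRecDepth 100000
set_option linter.unusedSectionVars false

namespace Cfsg.Agent.KM.Mu.Sp

open Cfsg Subgroup Cfsg.Agent.BHZ.Spor Cfsg.Agent.TAB Cfsg.Agent.TAB.Eng Cfsg.Agent.TAB.Use Cfsg.Agent.PQ.Spor
open Cfsg.Agent.NotCT Cfsg.Agent.KM.Sp
open Cfsg.Agent.TAB.Sm2 (mkRows)

variable {S : Type} [Group S] [Finite S] [Fact (Nat.Prime 3)]

theorem suz_3 (h : Spor.IsoSuz S) : RRow 3 S := by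
  obtain ⟨e⟩ := h
  have := Finite.of_equiv S e.toEquiv
  have h1 := TH.Spor.bnd_of_chk Sz.mass (TwoF.SpO.irr_mkRows Sz.tab) (ms := [[(90, 10), (35, 15), (1, 31)]])
    (L := TH.Spor.bSuz.take 2) (by decide +kernel)
  have h2 : ∀ g i k, Sz.td.ty g = i → Sz.dat.cnt i * k = 2 * Sz.dat.N → Nat.card (centralizer ({g} : Set Spor.Suz)) ∣ k := by
    rintro g _ k rfl h3
    refine Nat.dvd_of_mul_dvd_mul_left (cnt_pos Sz.mass g) ?_
    rw [h3, (by decide +kernel : ∀ i < 37, Sz.dat.cnt i = H714.S8.SuzFam.SZ.getD (Sz.sw i) 0) _ (Sz.td.lt g), Sz.td_ty,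
      Sz.sw_sw, mul_comm]
    exact (TID.Suz.cent_mul g).elim (fun h => h ▸ dvd_mul_left _ _) fun h => h ▸ dvd_rfl
  refine RRow.of_equiv e (okSuz_3.rrow ⟨Sz.mass, Sz.tab, ?_⟩ (List.forall_mem_singleton.2 fun g x hg hx => ⟨1, ?_⟩)
    nil_qf nil_qf)
  · simp only [List.forall_mem_cons]
    exact ⟨h1 (4, 34992, _) (List.mem_cons_of_mem _ List.mem_cons_self), fun g hg => h2 g _ _ hg (by decide +kernel),
      fun g hg => h2 g _ _ hg (by decide +kernel), List.forall_mem_nil _⟩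
  · rw [pow_one]
    exact (TH.Spor.one_of_bnd Sz.mass h1 (by decide +kernel) 1 (by decide)).conj Sz.mass hg hx

omit [Fact (Nat.Prime 3)] in
/-- a type is the union of at most two classes of the same size -/
theorem two_cl {D : Dat} {T : TD S D} (hm : T.Mass) (α : MulAut S) (h1 : ∀ g, T.ty (α g) = T.ty g)
    (h2 : ∀ g a, T.ty g = T.ty a → ∃ n, g = n * a * n⁻¹ ∨ g = n * α a * n⁻¹) (a : S) :
    D.cnt (T.ty a) * Nat.card (centralizer ({a} : Set S)) ∣ 2 * D.N := by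
  have h3 : ∀ g, T.ty g = T.ty a → IsConj a g ∨ IsConj (α a) g := fun g hg =>
    (h2 g a hg).elim fun n h => h.imp (fun h => isConj_iff.2 ⟨n, h.symm⟩) fun h => isConj_iff.2 ⟨n, h.symm⟩
  by_cases hc : IsConj a (α a)
  · rw [card_of_one hm fun x hx => (h3 x hx).elim id hc.trans]
    exact dvd_mul_left _ _
  have h4 : {y | T.ty y = T.ty a} = {y | IsConj a y} ∪ {y | IsConj (α a) y} := Set.ext fun y => ⟨h3 y, by
    rintro (hy | hy) <;> obtain ⟨c, rfl⟩ := isConj_iff.1 hy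
    exacts [T.conj a c, (T.conj _ c).trans (h1 a)]⟩
  have h5 : {y | IsConj (α a) y} = α '' {y | IsConj a y} := Set.ext fun y => ⟨fun hy => ⟨α.symm y, by
    have h1 := α.symm.toMonoidHom.map_isConj hy
    rwa [MulEquiv.coe_toMonoidHom, α.symm_apply_apply] at h1, α.apply_symm_apply y⟩, by
    rintro ⟨z, hz, rfl⟩
    exact α.toMonoidHom.map_isConj hz⟩
  rw [← hm.2 _ (T.lt a), ← hm.1, ← card_class a]
  change Set.ncard {y | T.ty y = T.ty a} * _ ∣ 2 * (Set.ncard {y | IsConj a y} * _)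
  have h6 : Disjoint {y | IsConj a y} {y | IsConj (α a) y} :=
    Set.disjoint_left.2 fun y h3 h4 => hc (IsConj.trans h3 (IsConj.symm h4))
  rw [h4, Set.ncard_union_eq h6, h5, Set.ncard_image_of_injective _ α.injective, ← two_mul, mul_assoc]

theorem okFi22_3 : Ok F22.dat (mkRows F22.rowA F22.rowB) [(4, 34992), (19, 7776), (30, 54)] [] [5] [] [] false 3 4 2 :=
  ⟨⟨9, [9, 3, 4, 6, 7, 9, 9, 7, 2, 1, 1, 2, 3, 1, 7, 6, 6, 3, 6, 5, 6, 7, 3, 7, 5, 1, 0, 1, 1, 1, 3, 9, 9, 0, 1, 0,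
  6, 5, 6, 1, 2, 2, 5, 4, 2, 5, 1, 1, 1, 0, 8, 8, 8, 0, 1, 0, 1, 1, 1], [0, 26, 26, 26, 19, 0, 0, 26, 44, 44, 26, 26,
  26, 26, 12, 19, 19, 26, 19, 26, 19, 12, 26, 19, 26, 26, 44, 26, 26, 26, 1, 0, 0, 44, 26, 44, 34, 19, 19, 26, 26,
  26, 39, 39, 26, 39, 26, 31, 26, 44, 1, 1, 1, 44, 26, 44, 26, 26, 26], [(0, 7, [], .big 30 0 2 1 19), (2, 4, [],
  .cong 1 [(1, 1)] [(2, 2)]), (3, 6, [4], .cong 1 [(1, 0)] [])]⟩, by decide +kernel⟩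

theorem fi22_3 (h : Spor.IsoFi22 S) : RRow 3 S := by
  obtain ⟨e⟩ := h
  have := Finite.of_equiv S e.toEquiv
  obtain ⟨m⟩ := H834.Bridge.model_of_iso (MulEquiv.refl Spor.Fi22) (D := KFacts.FiTT.TK (MulEquiv.refl _)) rfl
  obtain ⟨α, h1, -, h2⟩ := MK.S7.X22.exists_al
  have h3 : ∀ g i k, F22.td.ty g = i → F22.dat.cnt i * k = 2 * F22.dat.N →
      Nat.card (centralizer ({g} : Set Spor.Fi22)) ∣ k := by
    rintro g _ k rfl h3
    exact Nat.dvd_of_mul_dvd_mul_left (cnt_pos F22.mass g) (h3 ▸ two_cl F22.mass α h1 h2 g)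
  refine RRow.of_equiv e (okFi22_3.rrow ⟨F22.mass, F22.tab, fun x hx g hg => h3 g _ _ hg ?_⟩ RatL.nil nil_qf
    fun s hs => ?_)
  · clear hg
    revert x
    decide +kernel
  rw [List.mem_singleton] at hs
  refine (BHZ.Spor.F22.cls _ m (x := s) (by rw [F22.td.ord, hs]; rfl)).resolve_right ?_
  rintro ⟨g, hg⟩
  rw [MonoidHom.map_zpowers] at hg
  exact absurd (m.card_KF_ge.trans (Nat.le_of_dvd (by norm_num)
    ((card_dvd_of_comm fun k hk => (BHZ.Spor.F22.y_comm m hk).symm).trans (h3 _ 5 5038848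
      (((F22.td.conj _ g).symm.trans (ty_of_zpowers F22.td hg)).trans hs) (by decide +kernel))))) (by norm_num)

end Cfsg.Agent.KM.Mu.Sp
end
end
end
end
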